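/-
helper22 shared library, part 10: joins `X ⊔ Y` with `Y ≤ N(X)`: solvability and order.
All declarations live in `Cfsg.Agent.Lib.Helper22`.
-/
import Mathlib

set_option autoImplicit false
set_option linter.style.haveILetI false

namespace Cfsg.Agent.Lib.Helper22

section SupNormalizer

variable {G : Type*} [Group G]

/-- If `Y` normalizes `X` and both are solvable then `X ⊔ Y` is solvable. -/
theorem isSolvable_sup_of_le_normalizer {X Y : Subgroup G}
    (hYX : Y ≤ Subgroup.normalizer (X : Set G)) (hX : Group.IsSolvable X)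
    (hY : Group.IsSolvable Y) : Group.IsSolvable (X ⊔ Y : Subgroup G) := by
  set K := X ⊔ Y with hK
  have hXK : X ≤ K := le_sup_left
  have hYK : Y ≤ K := le_sup_right
  have hn : (X.subgroupOf K).Normal :=
    Subgroup.normal_subgroupOf_of_le_normalizer (sup_le Subgroup.le_normalizer hYX)
  rw [Group.isSolvable_iff_subgroup_quotient (X.subgroupOf K)]
  constructor
  · exact Group.isSolvable_of_isSolvable_injective
      (f := (Subgroup.subgroupOfEquivOfLe hXK).toMonoidHom)
      (Subgroup.subgroupOfEquivOfLe hXK).injective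
  · let g : Y →* K ⧸ X.subgroupOf K := (QuotientGroup.mk' _).comp (Subgroup.inclusion hYK)
    have hg : Function.Surjective g := by
      intro q
      obtain ⟨⟨k, hk⟩, rfl⟩ := QuotientGroup.mk'_surjective _ q
      have hk' : k ∈ ((X ⊔ Y : Subgroup G) : Set G) := hk
      rw [Subgroup.coe_mul_of_right_le_normalizer_left X Y hYX] at hk'
      obtain ⟨x, hx, y, hy, rfl⟩ := Set.mem_mul.mp hk'
      refine ⟨⟨y, hy⟩, ?_⟩
      show (QuotientGroup.mk' (X.subgroupOf K)) (⟨y, hYK hy⟩ : K)
        = (QuotientGroup.mk' (X.subgroupOf K)) ⟨x * y, hk⟩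
      rw [QuotientGroup.mk'_eq_mk']
      refine ⟨⟨y⁻¹ * x * y, ?_⟩, ?_, ?_⟩
      · exact K.mul_mem (K.mul_mem (K.inv_mem (hYK hy)) (hXK hx)) (hYK hy)
      · show y⁻¹ * x * y ∈ X
        have := (Subgroup.mem_normalizer_iff.mp (hYX (Y.inv_mem hy)) x).mp hx
        simpa using this
      · apply Subtype.ext
        show y * (y⁻¹ * x * y) = x * y
        group
    exact Group.isSolvable_of_surjective hg

/-- If `Y` normalizes `X` then `|X ⊔ Y|` divides `|X| |Y|`. -/
theorem card_sup_dvd_mul_of_le_normalizer [Finite G] {X Y : Subgroup G}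
    (hYX : Y ≤ Subgroup.normalizer (X : Set G)) :
    Nat.card (X ⊔ Y : Subgroup G) ∣ Nat.card X * Nat.card Y := by
  set K := X ⊔ Y with hK
  have hXK : X ≤ K := le_sup_left
  have hYK : Y ≤ K := le_sup_right
  haveI hn : (X.subgroupOf K).Normal :=
    Subgroup.normal_subgroupOf_of_le_normalizer (sup_le Subgroup.le_normalizer hYX)
  -- `|K| = |K/X| |X|` and `K/X` is an image of `Y`
  have h1 := Subgroup.card_eq_card_quotient_mul_card_subgroup (X.subgroupOf K)
  have h2 : Nat.card (X.subgroupOf K) = Nat.card X :=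
    Nat.card_congr (Subgroup.subgroupOfEquivOfLe hXK).toEquiv
  let g : Y →* K ⧸ X.subgroupOf K := (QuotientGroup.mk' _).comp (Subgroup.inclusion hYK)
  have hg : Function.Surjective g := by
    intro q
    obtain ⟨⟨k, hk⟩, rfl⟩ := QuotientGroup.mk'_surjective _ q
    have hk' : k ∈ ((X ⊔ Y : Subgroup G) : Set G) := hk
    rw [Subgroup.coe_mul_of_right_le_normalizer_left X Y hYX] at hk'
    obtain ⟨x, hx, y, hy, rfl⟩ := Set.mem_mul.mp hk'
    refine ⟨⟨y, hy⟩, ?_⟩
    show (QuotientGroup.mk' (X.subgroupOf K)) (⟨y, hYK hy⟩ : K)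
      = (QuotientGroup.mk' (X.subgroupOf K)) ⟨x * y, hk⟩
    rw [QuotientGroup.mk'_eq_mk']
    refine ⟨⟨y⁻¹ * x * y, ?_⟩, ?_, ?_⟩
    · exact K.mul_mem (K.mul_mem (K.inv_mem (hYK hy)) (hXK hx)) (hYK hy)
    · show y⁻¹ * x * y ∈ X
      have := (Subgroup.mem_normalizer_iff.mp (hYX (Y.inv_mem hy)) x).mp hx
      simpa using this
    · apply Subtype.ext
      show y * (y⁻¹ * x * y) = x * y
      group
  have h3 : Nat.card (K ⧸ X.subgroupOf K) ∣ Nat.card Y := Subgroup.card_dvd_of_surjective g hg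
  rw [h1, h2, mul_comm]
  exact Nat.mul_dvd_mul_left _ h3

end SupNormalizer

end Cfsg.Agent.Lib.Helper22
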