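import Mathlib
import Cfsg.Prelude.Def_OddOrderChar
import Cfsg.Prelude.Def_OddOrderLocal

/-!
# Sibley's coherence theorem, Peterfalvi (6.8), second alternative ("type P"): shared definitions
(helper22)

`L = H ⋊ W₁ ≤ G` of odd order, `H` a TI-subset of `G` with normaliser `L`, `C_H(x) = W₂` for all
`x ∈ W₁ ∖ {1}`, `|W₂| = p` prime, `W₂ ≤ H'`; after Peterfalvi (6.6) (= S1521) `H` is a `p`-group.

* `SS H L = Ind_H^L (Irr H ∖ {1})` (`= inducedIrrAbove (H.subgroupOf L) ⊥`), `AA H L = S(H')` (the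
  members of degree `q = |L : H|`), `BB H L W₂ = S ∖ S(W₂)`.
* `Ctx H L W₁ W₂ p` : the standing hypotheses.
* `AExt H L τ₁ ε` : `τ₁` is a coherent extension of `Ind_L^G` on `ℤ[A]`, and `ε τ₁ ζ` is irreducible
  for `ζ ∈ A`.
* `Dl L τ₁ ζ₁ = (τ₁ ζ₁)|_L - ζ₁` (independent of `ζ₁ ∈ A`).
-/

set_option autoImplicit false

namespace Cfsg.Agent.Lib.Helper22.SibC

open Cfsg

universe u

variable {G : Type u} [Group G] [Fintype G]

/-- `S = Ind_H^L (Irr H ∖ {1})` -/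
abbrev SS (H L : Subgroup G) [Fintype L] : Set (↥L → ℂ) := inducedIrrAbove (H.subgroupOf L) ⊥

/-- `A = S(H')`: the members of `S` of degree `|L : H|` -/
abbrev AA (H L : Subgroup G) [Fintype L] : Set (↥L → ℂ) :=
  inducedIrrAbove (H.subgroupOf L) ⁅H.subgroupOf L, H.subgroupOf L⁆

/-- `B' = S ∖ S(W₂)` -/
abbrev BB (H L W₂ : Subgroup G) [Fintype L] : Set (↥L → ℂ) :=
  SS H L \ inducedIrrAbove (H.subgroupOf L) (W₂.subgroupOf L)

/-- induction from `L` to `G` as a map of functions -/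
noncomputable abbrev indL (L : Subgroup G) [Fintype L] : (↥L → ℂ) → (G → ℂ) :=
  fun α => indFun L α

/-- `Δ = (τ₁ ζ₁)|_L - ζ₁` -/
def Dl (L : Subgroup G) (τ₁ : (↥L → ℂ) → (G → ℂ)) (ζ₁ : ↥L → ℂ) : ↥L → ℂ :=
  fun x => τ₁ ζ₁ (x : G) - ζ₁ x

/-- The standing hypotheses of Sibley's theorem (6.8), second alternative, after (6.6):
`H` is a `p`-group. -/
structure Ctx (H L W₁ W₂ : Subgroup G) [Fintype L] (p : ℕ) : Prop where
  hodd : Odd (Nat.card L)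
  hHL : H ≤ L
  hW₁L : W₁ ≤ L
  hW1 : W₁ ≠ ⊥
  hHn : ∀ x ∈ L, ∀ h ∈ H, x * h * x⁻¹ ∈ H
  hinf : H ⊓ W₁ = ⊥
  hsup : H ⊔ W₁ = L
  hC : ∀ w ∈ W₁, w ≠ 1 → H ⊓ Subgroup.centralizer ({w} : Set G) = W₂
  hW₂der : W₂ ≤ ⁅H, H⁆
  hTI : IsTISubset (H : Set G)
  hN : Subgroup.normalizer (H : Set G) = L
  hp : p.Prime
  hpH : IsPGroup p H
  hcop : ¬ p ∣ Nat.card W₁
  hW₂card : Nat.card W₂ = p

/-- `τ₁` is a coherent extension of induction on `ℤ[A]`, with uniform sign `ε`. -/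
structure AExt (H L : Subgroup G) [Fintype L] (τ₁ : (↥L → ℂ) → (G → ℂ)) (ε : ℤ) : Prop where
  iso : IsLinearIsometryOn (zspan (AA H L)) τ₁
  ext : ∀ α ∈ zspanOn (AA H L) ({1}ᶜ : Set ↥L), τ₁ α = indFun L α
  eps : ε = 1 ∨ ε = -1
  irr : ∀ ζ ∈ AA H L, IsIrrCharacter G (ε • τ₁ ζ)

/-- What is used of the set `S`: a coherence system for induction, and every member is irreducible
or has norm `q = |L : H|` and degree `q f` with `q < f`. -/
structure SFacts (H L : Subgroup G) [Fintype L] (R : (↥L → ℂ) → Finset (G → ℂ)) : Prop where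
  cs : IsCoherenceSystem (SS H L) (indL L) R
  red : ∀ χ ∈ SS H L, IsIrrCharacter ↥L χ ∨
    (classInner χ χ = ((H.subgroupOf L).index : ℂ) ∧
      ∃ f : ℕ, (H.subgroupOf L).index < f ∧ χ 1 = ((H.subgroupOf L).index : ℂ) * f)

end Cfsg.Agent.Lib.Helper22.SibC
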