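/-
helper22 shared library, part 1: quasisimple groups and the basic dichotomy for components
(Aschbacher, Finite Group Theory, 31.2-31.4).
All declarations live in `Cfsg.Agent.Lib.Helper22`.
-/
import Mathlib
import Cfsg.Prelude.Def_Local
import Cfsg.Agent.Lib.Helper29.Iso

set_option autoImplicit false
set_option linter.style.haveILetI false

namespace Cfsg.Agent.Lib.Helper22

open Cfsg
open scoped commutatorElement

universe u

/-! ### Quasisimple groups -/

section Quasisimple

variable {Q : Type*} [Group Q]

theorem quasisimple_isPerfect (h : IsQuasisimple Q) : Group.IsPerfect Q := h.1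

theorem quasisimple_commutator_eq_top (h : IsQuasisimple Q) : commutator Q = ⊤ :=
  h.1.commutator_eq_top

theorem quasisimple_nontrivial (h : IsQuasisimple Q) : Nontrivial Q := by
  have := h.2
  have : Nontrivial (Q ⧸ Subgroup.center Q) := IsSimpleGroup.toNontrivial
  exact (QuotientGroup.mk'_surjective (Subgroup.center Q)).nontrivial

/-- A quasisimple group is not solvable. -/
theorem quasisimple_not_isSolvable (h : IsQuasisimple Q) : ¬ Group.IsSolvable Q := by
  haveI := quasisimple_nontrivial h
  haveI := h.1
  exact Group.IsPerfect.not_isSolvable Q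

/-- If `N ⊔ Z(Q) = ⊤` with `N` normal then all commutators lie in `N`. -/
theorem commutator_le_of_sup_center_eq_top (N : Subgroup Q) [N.Normal]
    (h : N ⊔ Subgroup.center Q = ⊤) : commutator Q ≤ N := by
  rw [commutator_eq_closure, Subgroup.closure_le]
  rintro x ⟨a, b, rfl⟩
  have ha : a ∈ ((N ⊔ Subgroup.center Q : Subgroup Q) : Set Q) := by rw [h]; trivial
  have hb : b ∈ ((N ⊔ Subgroup.center Q : Subgroup Q) : Set Q) := by rw [h]; trivial
  rw [Subgroup.normal_mul] at ha hb
  obtain ⟨n₁, hn₁, z₁, hz₁, rfl⟩ := Set.mem_mul.mp ha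
  obtain ⟨n₂, hn₂, z₂, hz₂, rfl⟩ := Set.mem_mul.mp hb
  have hz : ⁅z₁, z₂⁆ = 1 := by
    rw [commutatorElement_eq_one_iff_mul_comm]
    exact (Subgroup.mem_center_iff.mp hz₂ z₁)
  have key : (QuotientGroup.mk' N) ⁅n₁ * z₁, n₂ * z₂⁆ = 1 := by
    rw [map_commutatorElement, map_mul, map_mul]
    have e1 : (QuotientGroup.mk' N) n₁ = 1 := (QuotientGroup.eq_one_iff n₁).mpr hn₁
    have e2 : (QuotientGroup.mk' N) n₂ = 1 := (QuotientGroup.eq_one_iff n₂).mpr hn₂
    rw [e1, e2, one_mul, one_mul, ← map_commutatorElement, hz, map_one]
  exact (QuotientGroup.eq_one_iff _).mp key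

/-- In a quasisimple group, a normal subgroup is central or everything. -/
theorem quasisimple_normal_le_center_or_eq_top (h : IsQuasisimple Q) (N : Subgroup Q)
    [hN : N.Normal] : N ≤ Subgroup.center Q ∨ N = ⊤ := by
  haveI := h.2
  have hmap : (N.map (QuotientGroup.mk' (Subgroup.center Q))).Normal :=
    hN.map _ (QuotientGroup.mk'_surjective _)
  rcases hmap.eq_bot_or_eq_top with h0 | h1
  · left
    have := (Subgroup.map_eq_bot_iff (f := QuotientGroup.mk' (Subgroup.center Q)) N).mp h0
    rwa [QuotientGroup.ker_mk'] at this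
  · right
    have hsup : N ⊔ Subgroup.center Q = ⊤ := by
      have := congrArg (Subgroup.comap (QuotientGroup.mk' (Subgroup.center Q))) h1
      rw [Subgroup.comap_map_eq, QuotientGroup.ker_mk', Subgroup.comap_top] at this
      exact this
    have := commutator_le_of_sup_center_eq_top N hsup
    rw [quasisimple_commutator_eq_top h] at this
    exact top_le_iff.mp this

/-- In a quasisimple group, a subnormal subgroup is central or everything. -/
theorem quasisimple_subnormal_le_center_or_eq_top (h : IsQuasisimple Q) {H : Subgroup Q}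
    (hH : H.IsSubnormal) : H ≤ Subgroup.center Q ∨ H = ⊤ := by
  induction hH with
  | top => right; rfl
  | step H K hle hK hN ih =>
    rcases ih with h1 | h1
    · left; exact hle.trans h1
    · subst h1
      have : H.Normal := by
        have := hN
        rwa [Subgroup.normal_subgroupOf_iff_le_normalizer le_top, top_le_iff,
          Subgroup.normalizer_eq_top_iff] at this
      exact quasisimple_normal_le_center_or_eq_top h H

end Quasisimple

end Cfsg.Agent.Lib.Helper22
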