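/-
helper22 shared library, part 2: components of finite groups
(Aschbacher, Finite Group Theory, 31.3-31.7).
All declarations live in `Cfsg.Agent.Lib.Helper22`.
-/
import Mathlib
import Cfsg.Prelude.Def_Local
import Cfsg.Agent.Lib.Helper29.Iso
import Cfsg.Agent.Lib.Helper22.Quasisimple

set_option autoImplicit false
set_option linter.style.haveILetI false

namespace Cfsg.Agent.Lib.Helper22

open Cfsg
open scoped commutatorElement

universe u

section Basics

variable {G : Type*} [Group G]

theorem component_isSubnormal {K : Subgroup G} (h : IsComponent K) : K.IsSubnormal := h.1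

theorem component_isQuasisimple {K : Subgroup G} (h : IsComponent K) : IsQuasisimple K := h.2

theorem component_commutator_self {K : Subgroup G} (h : IsComponent K) : ⁅K, K⁆ = K := by
  haveI : Group.IsPerfect K := h.2.1
  exact Subgroup.commutator_eq_self

theorem component_ne_bot {K : Subgroup G} (h : IsComponent K) : K ≠ ⊥ := by
  have := quasisimple_nontrivial h.2
  intro hK
  rw [hK] at this
  exact not_nontrivial _ this

theorem component_not_isSolvable {K : Subgroup G} (h : IsComponent K) :
    ¬ Group.IsSolvable K := quasisimple_not_isSolvable h.2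

theorem component_le_layer {K : Subgroup G} (h : IsComponent K) : K ≤ layer G :=
  le_sSup h

/-- A component of `G` contained in `H` is a component of `H`. -/
theorem component_subgroupOf {K H : Subgroup G} (h : IsComponent K) (hKH : K ≤ H) :
    IsComponent (K.subgroupOf H) :=
  ⟨h.1.subgroupOf, Cfsg.Agent.Lib.Helper29.isQuasisimple_of_mulEquiv
    (Subgroup.subgroupOfEquivOfLe hKH).symm h.2⟩

/-- A component of a subnormal subgroup `H` of `G` is a component of `G`. -/
theorem component_of_subgroupOf {K H : Subgroup G} (hH : H.IsSubnormal) (hKH : K ≤ H)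
    (h : IsComponent (K.subgroupOf H)) : IsComponent K :=
  ⟨Subgroup.IsSubnormal.trans hKH h.1 hH, Cfsg.Agent.Lib.Helper29.isQuasisimple_of_mulEquiv
    (Subgroup.subgroupOfEquivOfLe hKH) h.2⟩

theorem component_subgroupOf_iff {K H : Subgroup G} (hH : H.IsSubnormal) (hKH : K ≤ H) :
    IsComponent (K.subgroupOf H) ↔ IsComponent K :=
  ⟨component_of_subgroupOf hH hKH, fun h => component_subgroupOf h hKH⟩

/-- A component of a subnormal subgroup `H` of `G`, viewed in `G`, is a component of `G`. -/
theorem component_map_subtype {H : Subgroup G} (hH : H.IsSubnormal) {K : Subgroup H}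
    (h : IsComponent K) : IsComponent (K.map H.subtype) := by
  apply component_of_subgroupOf hH (Subgroup.map_subtype_le K)
  have : (K.map H.subtype).subgroupOf H = K := by
    rw [← Subgroup.comap_subtype, Subgroup.comap_map_eq_self_of_injective H.subtype_injective]
  rwa [this]

theorem component_map_subtype_iff {H : Subgroup G} (hH : H.IsSubnormal) {K : Subgroup H} :
    IsComponent (K.map H.subtype) ↔ IsComponent K := by
  constructor
  · intro h
    have h2 := component_subgroupOf h (Subgroup.map_subtype_le K)
    have : (K.map H.subtype).subgroupOf H = K := by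
      rw [← Subgroup.comap_subtype, Subgroup.comap_map_eq_self_of_injective H.subtype_injective]
    rwa [this] at h2
  · exact component_map_subtype hH

/-- A conjugate of a component is a component. -/
theorem component_conj {K : Subgroup G} (h : IsComponent K) (g : G) :
    IsComponent (K.map (MulAut.conj g).toMonoidHom) :=
  Cfsg.Agent.Lib.Helper29.isComponent_map_mulEquiv (MulAut.conj g) h

/-- transport of commutators from a subgroup to the ambient group -/
theorem commutator_eq_bot_of_subgroupOf {L H Y : Subgroup G} (hL : L ≤ Y) (hH : H ≤ Y)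
    (h : ⁅L.subgroupOf Y, H.subgroupOf Y⁆ = ⊥) : ⁅L, H⁆ = ⊥ := by
  have := congrArg (Subgroup.map Y.subtype) h
  rwa [Subgroup.map_commutator, Subgroup.map_subgroupOf_eq_of_le hL,
    Subgroup.map_subgroupOf_eq_of_le hH, Subgroup.map_bot] at this

theorem le_of_subgroupOf_le {L H Y : Subgroup G} (hL : L ≤ Y)
    (h : L.subgroupOf Y ≤ H.subgroupOf Y) : L ≤ H := by
  intro x hx
  exact h (show (⟨x, hL hx⟩ : Y) ∈ L.subgroupOf Y from hx)

end Basics

/-! ### The basic dichotomy (Aschbacher 31.4) -/

section Dichotomy

/-- Auxiliary form of the dichotomy, by induction on the order of the group. -/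
theorem component_le_or_commutator_eq_bot_aux (n : ℕ) :
    ∀ (G : Type u) [Group G] [Finite G], Nat.card G ≤ n →
      ∀ L H : Subgroup G, IsComponent L → H.IsSubnormal → L ≤ H ∨ ⁅L, H⁆ = ⊥ := by
  induction n with
  | zero =>
    intro G _ _ hcard
    exact absurd (Nat.le_zero.mp hcard) Nat.card_pos.ne'
  | succ n ih =>
    intro G _ _ hcard L H hL hH
    by_cases hLtop : L = ⊤
    · -- `G` itself is quasisimple
      subst hLtop
      have hq : IsQuasisimple G :=
        Cfsg.Agent.Lib.Helper29.isQuasisimple_of_mulEquiv Subgroup.topEquiv hL.2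
      rcases quasisimple_subnormal_le_center_or_eq_top hq hH with h1 | h1
      · right
        rw [Subgroup.commutator_comm]
        exact Subgroup.commutator_top_right_eq_bot_iff_le_center.mpr h1
      · left; rw [h1]
    by_cases hHtop : H = ⊤
    · left; rw [hHtop]; exact le_top
    obtain ⟨X, hXn, hLX, hXlt⟩ := hL.1.exists_normal_and_le_and_lt_top_of_ne hLtop
    obtain ⟨Y, hYn, hHY, hYlt⟩ := hH.exists_normal_and_le_and_lt_top_of_ne hHtop
    have hcardlt : ∀ Z : Subgroup G, Z < ⊤ → Nat.card Z ≤ n := by
      intro Z hZ
      have h1 : Nat.card Z < Nat.card G := by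
        have hne : Z ≠ ⊤ := hZ.ne
        have hle : Nat.card Z ≤ Nat.card G := Subgroup.card_le_card_group Z
        rcases hle.lt_or_eq with h | h
        · exact h
        · exact absurd ((Subgroup.card_eq_iff_eq_top Z).mp h) hne
      omega
    by_cases hLY : L ≤ Y
    · -- work inside `Y`
      have h1 := ih Y (hcardlt Y hYlt) (L.subgroupOf Y) (H.subgroupOf Y)
        (component_subgroupOf hL hLY) hH.subgroupOf
      rcases h1 with h1 | h1
      · left; exact le_of_subgroupOf_le hLY h1
      · right; exact commutator_eq_bot_of_subgroupOf hLY hHY h1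
    · -- work inside `X`
      right
      have hXYn : (X ⊓ Y).Normal := inferInstance
      have h1 := ih X (hcardlt X hXlt) (L.subgroupOf X) ((X ⊓ Y).subgroupOf X)
        (component_subgroupOf hL hLX) (hXYn.subgroupOf X |> fun h' =>
          Subgroup.Normal.isSubnormal h')
      have h2 : ⁅L, X ⊓ Y⁆ = ⊥ := by
        rcases h1 with h1 | h1
        · exact absurd ((le_of_subgroupOf_le hLX h1).trans inf_le_right) hLY
        · exact commutator_eq_bot_of_subgroupOf hLX inf_le_left h1
      have h3 : ⁅Y, L⁆ ≤ X ⊓ Y := by
        refine le_inf ?_ ?_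
        · exact (Subgroup.commutator_mono le_top hLX).trans (Subgroup.commutator_le_right ⊤ X)
        · exact Subgroup.commutator_le_left Y L
      have h4 : ⁅⁅Y, L⁆, L⁆ = ⊥ := by
        rw [eq_bot_iff, ← h2, Subgroup.commutator_comm L (X ⊓ Y)]
        exact Subgroup.commutator_mono h3 le_rfl
      have h5 : ⁅⁅L, Y⁆, L⁆ = ⊥ := by rwa [Subgroup.commutator_comm L Y]
      have h6 : ⁅⁅L, L⁆, Y⁆ = ⊥ := Subgroup.commutator_commutator_eq_bot_of_rotate h5 h4
      rw [component_commutator_self hL] at h6
      rw [eq_bot_iff, ← h6]
      exact Subgroup.commutator_mono le_rfl hHY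

/-- **Aschbacher 31.4.** A component `L` of a finite group and a subnormal subgroup `H`:
either `L ≤ H` or `L` and `H` commute. -/
theorem component_le_or_commutator_eq_bot {G : Type*} [Group G] [Finite G] {L H : Subgroup G}
    (hL : IsComponent L) (hH : H.IsSubnormal) : L ≤ H ∨ ⁅L, H⁆ = ⊥ :=
  component_le_or_commutator_eq_bot_aux (Nat.card G) G le_rfl L H hL hH

end Dichotomy

end Cfsg.Agent.Lib.Helper22
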