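/-
helper22 shared library, part 3: consequences of the dichotomy: components commute, the layer,
subnormal nilpotent subgroups, and `C_G(F*(G)) ≤ F*(G)` (Aschbacher 31.5-31.13).
All declarations live in `Cfsg.Agent.Lib.Helper22`.
-/
import Mathlib
import Cfsg.Prelude.Def_Local
import Cfsg.Agent.Lib.Helper1.Fitting
import Cfsg.Agent.Lib.Helper29.Iso
import Cfsg.Agent.Lib.Helper22.Components

set_option autoImplicit false
set_option linter.style.haveILetI false

namespace Cfsg.Agent.Lib.Helper22

open Cfsg
open scoped commutatorElement

universe u

section Consequences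

variable {G : Type*} [Group G]

/-- Distinct components of a finite group commute. -/
theorem component_commutator_eq_bot_of_ne [Finite G] {L K : Subgroup G} (hL : IsComponent L)
    (hK : IsComponent K) (hne : L ≠ K) : ⁅L, K⁆ = ⊥ := by
  rcases component_le_or_commutator_eq_bot hL hK.1 with h1 | h1
  · rcases component_le_or_commutator_eq_bot hK hL.1 with h2 | h2
    · exact absurd (le_antisymm h1 h2) hne
    · -- `L ≤ K` and `[K, L] = 1` force `L` abelian
      exfalso
      have : ⁅L, L⁆ = ⊥ := by
        rw [eq_bot_iff, ← h2]
        exact Subgroup.commutator_mono h1 le_rfl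
      rw [component_commutator_self hL] at this
      exact component_ne_bot hL this
  · exact h1

/-- A component commutes with every solvable subnormal subgroup. -/
theorem component_commutator_eq_bot_of_isSolvable [Finite G] {L N : Subgroup G}
    (hL : IsComponent L) (hN : N.IsSubnormal) (hs : Group.IsSolvable N) : ⁅L, N⁆ = ⊥ := by
  rcases component_le_or_commutator_eq_bot hL hN with h1 | h1
  · exfalso
    apply component_not_isSolvable hL
    exact Group.isSolvable_of_isSolvable_injective (Subgroup.inclusion_injective h1)
  · exact h1

/-- The layer commutes with every solvable subnormal subgroup. -/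
theorem layer_commutator_eq_bot_of_isSolvable [Finite G] {N : Subgroup G}
    (hN : N.IsSubnormal) (hs : Group.IsSolvable N) : ⁅layer G, N⁆ = ⊥ := by
  rw [Subgroup.commutator_eq_bot_iff_le_centralizer]
  apply sSup_le
  intro K hK
  rw [← Subgroup.commutator_eq_bot_iff_le_centralizer]
  exact component_commutator_eq_bot_of_isSolvable hK hN hs

/-- `[E(G), F(G)] = 1`. -/
theorem layer_commutator_fittingSubgroup [Finite G] : ⁅layer G, fittingSubgroup G⁆ = ⊥ := by
  have hnil : Group.IsNilpotent (fittingSubgroup G) :=
    Cfsg.Agent.Lib.Helper1.fittingSubgroup_isNilpotent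
  have hn : (fittingSubgroup G).Normal := Cfsg.Agent.Lib.Helper29.fittingSubgroup_normal G
  exact layer_commutator_eq_bot_of_isSolvable hn.isSubnormal inferInstance

/-- Every component is normalized by the layer. -/
theorem layer_le_normalizer_component [Finite G] {K : Subgroup G} (hK : IsComponent K) :
    layer G ≤ Subgroup.normalizer (K : Set G) := by
  apply sSup_le
  intro L hL
  by_cases h : L = K
  · rw [h]; exact Subgroup.le_normalizer
  · have := component_commutator_eq_bot_of_ne hL hK h
    rw [Subgroup.commutator_eq_bot_iff_le_centralizer] at this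
    exact this.trans (Subgroup.centralizer_le_normalizer _)

/-- Every component is normal in the layer. -/
theorem component_normal_subgroupOf_layer [Finite G] {K : Subgroup G} (hK : IsComponent K) :
    (K.subgroupOf (layer G)).Normal :=
  Subgroup.normal_subgroupOf_of_le_normalizer (layer_le_normalizer_component hK)

/-- A join of perfect subgroups is perfect. -/
theorem commutator_sSup_self_of_perfect (S : Set (Subgroup G)) (h : ∀ K ∈ S, ⁅K, K⁆ = K) :
    ⁅sSup S, sSup S⁆ = sSup S := by
  apply le_antisymm
  · exact Subgroup.commutator_le_self _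
  · apply sSup_le
    intro K hK
    rw [← h K hK]
    exact Subgroup.commutator_mono (le_sSup hK) (le_sSup hK)

/-- The layer is perfect. -/
theorem layer_commutator_self : ⁅layer G, layer G⁆ = layer G :=
  commutator_sSup_self_of_perfect _ (fun _ hK => component_commutator_self hK)

end Consequences

end Cfsg.Agent.Lib.Helper22

namespace Cfsg.Agent.Lib.Helper22

open Cfsg
open scoped commutatorElement

/-! ### Subnormal nilpotent subgroups lie in the Fitting subgroup -/

section SubnormalNilpotent

variable {G : Type*} [Group G]

/-- The Fitting subgroup of a normal subgroup lies in the Fitting subgroup. -/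
theorem fittingSubgroup_map_subtype_le_of_normal [Finite G] (N : Subgroup G) [N.Normal] :
    (fittingSubgroup N).map N.subtype ≤ fittingSubgroup G := by
  haveI : (fittingSubgroup N).Characteristic :=
    Cfsg.Agent.Lib.Helper29.fittingSubgroup_characteristic N
  have hn : ((fittingSubgroup N).map N.subtype).Normal :=
    ConjAct.normal_of_characteristic_of_normal
  have hnil : Group.IsNilpotent (fittingSubgroup N) :=
    Cfsg.Agent.Lib.Helper1.fittingSubgroup_isNilpotent
  have hnil' : Group.IsNilpotent ((fittingSubgroup N).map N.subtype) :=
    Group.nilpotent_of_mulEquiv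
      ((fittingSubgroup N).equivMapOfInjective N.subtype N.subtype_injective)
  exact le_sSup ⟨hn, hnil'⟩

/-- The Fitting subgroup of a subnormal subgroup lies in the Fitting subgroup. -/
theorem fittingSubgroup_map_subtype_le_of_isSubnormal [Finite G] {H : Subgroup G}
    (hH : H.IsSubnormal) : (fittingSubgroup H).map H.subtype ≤ fittingSubgroup G := by
  induction hH with
  | top =>
    have := Cfsg.Agent.Lib.Helper29.fittingSubgroup_map_mulEquiv
      (Subgroup.topEquiv : (⊤ : Subgroup G) ≃* G)
    rw [← this]
    exact le_of_eq rfl
  | step H K hle hK hN ih =>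
    haveI := hN
    have h1 := fittingSubgroup_map_subtype_le_of_normal (H.subgroupOf K)
    have h2 := (Subgroup.map_mono (f := K.subtype) h1).trans ih
    have e := Cfsg.Agent.Lib.Helper29.fittingSubgroup_map_mulEquiv
      (Subgroup.subgroupOfEquivOfLe hle)
    rw [← e, Subgroup.map_map]
    rw [Subgroup.map_map] at h2
    exact h2

/-- A subnormal nilpotent subgroup of a finite group lies in the Fitting subgroup. -/
theorem le_fittingSubgroup_of_isSubnormal_of_isNilpotent [Finite G] {H : Subgroup G}
    (hH : H.IsSubnormal) (hnil : Group.IsNilpotent H) : H ≤ fittingSubgroup G := by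
  have h1 : fittingSubgroup H = ⊤ := by
    rw [eq_top_iff]
    have htop : Group.IsNilpotent (⊤ : Subgroup H) :=
      Group.nilpotent_of_mulEquiv (Subgroup.topEquiv : (⊤ : Subgroup H) ≃* H).symm
    exact le_sSup ⟨inferInstance, htop⟩
  have h2 := fittingSubgroup_map_subtype_le_of_isSubnormal hH
  rw [h1, ← MonoidHom.range_eq_map, Subgroup.range_subtype] at h2
  exact h2

end SubnormalNilpotent

/-! ### A criterion for quasisimplicity -/

section Criterion

/-- A nontrivial perfect group all of whose proper normal subgroups are central is quasisimple. -/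
theorem isQuasisimple_of_perfect_of_normal_le_center {K : Type*} [Group K] [Nontrivial K]
    (hp : Group.IsPerfect K)
    (h : ∀ N : Subgroup K, N.Normal → N = ⊤ ∨ N ≤ Subgroup.center K) : IsQuasisimple K := by
  refine ⟨hp, ?_⟩
  have hnt : Nontrivial (K ⧸ Subgroup.center K) := by
    by_contra hcon
    rw [not_nontrivial_iff_subsingleton] at hcon
    have hc : Subgroup.center K = ⊤ := by
      rw [eq_top_iff]
      intro x _
      have : (QuotientGroup.mk' (Subgroup.center K)) x = 1 := Subsingleton.elim _ _
      exact (QuotientGroup.eq_one_iff x).mp this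
    have hcomm : IsMulCommutative K := by
      refine ⟨⟨fun a b => ?_⟩⟩
      have : b ∈ Subgroup.center K := by rw [hc]; trivial
      exact Subgroup.mem_center_iff.mp this a
    haveI := hp
    have : Subsingleton K := inferInstance
    exact not_nontrivial K ‹_›
  refine { exists_pair_ne := hnt.exists_pair_ne, eq_bot_or_eq_top_of_normal := ?_ }
  intro Nbar hNbar
  have hcm : (Nbar.comap (QuotientGroup.mk' (Subgroup.center K))).Normal := hNbar.comap _
  have hmc : (Nbar.comap (QuotientGroup.mk' (Subgroup.center K))).map
      (QuotientGroup.mk' (Subgroup.center K)) = Nbar :=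
    Subgroup.map_comap_eq_self_of_surjective (QuotientGroup.mk'_surjective _) _
  rcases h _ hcm with h1 | h1
  · right
    rw [← hmc, h1]
    exact Subgroup.map_top_of_surjective _ (QuotientGroup.mk'_surjective _)
  · left
    rw [← hmc, eq_bot_iff]
    refine (Subgroup.map_mono h1).trans ?_
    rw [Subgroup.map_le_iff_le_comap]
    intro x hx
    rw [Subgroup.mem_comap, Subgroup.mem_bot]
    exact (QuotientGroup.eq_one_iff x).mpr hx

end Criterion

end Cfsg.Agent.Lib.Helper22

namespace Cfsg.Agent.Lib.Helper22

open Cfsg
open scoped commutatorElement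

/-! ### The generalized Fitting subgroup contains its centralizer -/

section FStar

variable {G : Type*} [Group G]

theorem layer_le_generalizedFittingSubgroup : layer G ≤ generalizedFittingSubgroup G :=
  le_sup_left

theorem fittingSubgroup_le_generalizedFittingSubgroup :
    fittingSubgroup G ≤ generalizedFittingSubgroup G :=
  le_sup_right

/-- **Aschbacher 31.13.** `C_G(F*(G)) ≤ F*(G)` for a finite group `G`. -/
theorem centralizer_generalizedFittingSubgroup_le [Finite G] :
    Subgroup.centralizer (generalizedFittingSubgroup G : Set G) ≤ generalizedFittingSubgroup G := by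
  by_contra hcon
  set Fs := generalizedFittingSubgroup G with hFs
  set C := Subgroup.centralizer (Fs : Set G) with hC
  haveI hFn : Fs.Normal := Cfsg.Agent.Lib.Helper29.generalizedFittingSubgroup_normal G
  have hCn : C.Normal := Subgroup.normal_centralizer
  -- a minimal subnormal subgroup inside `C` but not inside `F*`
  let S : Set (Subgroup G) := {K | K.IsSubnormal ∧ K ≤ C ∧ ¬ K ≤ Fs}
  have hSne : S.Nonempty := ⟨C, hCn.isSubnormal, le_rfl, hcon⟩
  obtain ⟨K, ⟨hKsn, hKC, hKF⟩, hKmin⟩ :=
    WellFounded.has_min (wellFounded_lt (α := Subgroup G)) S hSne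
  -- everything in `K ⊓ F*` is centralized by `K`
  have hcent : ∀ D : Subgroup G, D ≤ Fs → ⁅D, K⁆ = ⊥ := by
    intro D hD
    rw [eq_bot_iff]
    have h1 : ⁅Fs, C⁆ = ⊥ := by
      rw [Subgroup.commutator_comm, Subgroup.commutator_eq_bot_iff_le_centralizer]
    rw [← h1]
    exact Subgroup.commutator_mono hD hKC
  have hDsn : (⁅K, K⁆ : Subgroup G).IsSubnormal := by
    refine Subgroup.IsSubnormal.trans (Subgroup.commutator_le_self K) ?_ hKsn
    have : (⁅K, K⁆.subgroupOf K).Normal :=
      Subgroup.normal_subgroupOf_of_le_normalizer (Subgroup.normalizer_commutator_ge_left K K)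
    exact this.isSubnormal
  by_cases hD : ⁅K, K⁆ ≤ Fs
  · -- `K` is nilpotent of class at most two
    have h2 : K.lowerCentralSeries 2 = ⊥ := hcent _ hD
    have hnil : Group.IsNilpotent K := Subgroup.isNilpotent_of_lowerCentralSeries_eq_bot h2
    exact hKF ((le_fittingSubgroup_of_isSubnormal_of_isNilpotent hKsn hnil).trans
      fittingSubgroup_le_generalizedFittingSubgroup)
  · -- `K` is perfect
    have hperf : ⁅K, K⁆ = K := by
      by_contra hne
      have hlt : ⁅K, K⁆ < K := lt_of_le_of_ne (Subgroup.commutator_le_self K) hne
      exact hKmin _ ⟨hDsn, (Subgroup.commutator_le_self K).trans hKC, hD⟩ hlt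
    have hKnt : Nontrivial K := by
      rw [Subgroup.nontrivial_iff_ne_bot]
      intro h0
      exact hKF (h0 ▸ bot_le)
    have hq : IsQuasisimple K := by
      apply isQuasisimple_of_perfect_of_normal_le_center (Subgroup.isPerfect_iff.mpr hperf)
      intro N hN
      by_cases hNF : N.map K.subtype ≤ Fs
      · right
        have h3 := hcent _ hNF
        intro x hx
        rw [Subgroup.mem_center_iff]
        intro y
        have h4 : (x : G) ∈ N.map K.subtype := ⟨x, hx, rfl⟩
        have h5 : ⁅(x : G), (y : G)⁆ ∈ ⁅N.map K.subtype, K⁆ :=
          Subgroup.commutator_mem_commutator h4 y.2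
        rw [h3, Subgroup.mem_bot, commutatorElement_eq_one_iff_mul_comm] at h5
        exact Subtype.ext h5.symm
      · left
        have hNsn : (N.map K.subtype).IsSubnormal := hN.isSubnormal.trans' hKsn
        have hle : N.map K.subtype ≤ K := Subgroup.map_subtype_le N
        have heq : N.map K.subtype = K := by
          by_contra hne
          exact hKmin _ ⟨hNsn, hle.trans hKC, hNF⟩ (lt_of_le_of_ne hle hne)
        rw [eq_top_iff]
        intro x _
        have : (x : G) ∈ N.map K.subtype := by rw [heq]; exact x.2
        obtain ⟨y, hy, hyx⟩ := this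
        have : y = x := Subtype.ext hyx
        rwa [← this]
    have hcomp : IsComponent K := ⟨hKsn, hq⟩
    exact hKF ((component_le_layer hcomp).trans layer_le_generalizedFittingSubgroup)

end FStar

end Cfsg.Agent.Lib.Helper22
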