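/-
helper22 shared library, part 5: the `p'`-core of subnormal subgroups and of the quotient by
the `p'`-core.
All declarations live in `Cfsg.Agent.Lib.Helper22`.
-/
import Mathlib
import Cfsg.Prelude.Def_Local
import Cfsg.Agent.Lib.Helper1.Fitting

set_option autoImplicit false
set_option linter.style.haveILetI false

namespace Cfsg.Agent.Lib.Helper22

open Cfsg

section PPrimeCore

variable {G : Type*} [Group G]

theorem pPrimeCore_map_mulEquiv_le {G' : Type*} [Group G'] (p : ℕ) (e : G ≃* G') :
    (pPrimeCore p G).map e.toMonoidHom ≤ pPrimeCore p G' := by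
  unfold pPrimeCore
  rw [Subgroup.map_le_iff_le_comap]
  apply sSup_le
  rintro N ⟨hN, hc⟩
  rw [← Subgroup.map_le_iff_le_comap]
  refine le_sSup ⟨hN.map e.toMonoidHom e.surjective, ?_⟩
  have : Nat.card (N.map e.toMonoidHom) = Nat.card N :=
    Subgroup.card_map_of_injective (f := e.toMonoidHom) e.injective
  rwa [this]

/-- An isomorphism maps the `p'`-core onto the `p'`-core. -/
theorem pPrimeCore_map_mulEquiv {G' : Type*} [Group G'] (p : ℕ) (e : G ≃* G') :
    (pPrimeCore p G).map e.toMonoidHom = pPrimeCore p G' := by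
  apply le_antisymm (pPrimeCore_map_mulEquiv_le p e)
  have h2 := pPrimeCore_map_mulEquiv_le p e.symm
  intro x hx
  refine ⟨e.symm x, ?_, by simp⟩
  apply h2
  exact ⟨x, hx, rfl⟩

theorem pPrimeCore_card_coprime [Finite G] (p : ℕ) : (Nat.card (pPrimeCore p G)).Coprime p :=
  Cfsg.Agent.Lib.Helper1.pPrimeCore_card_coprime p

/-- The `p'`-core of a normal subgroup lies in the `p'`-core. -/
theorem pPrimeCore_map_subtype_le_of_normal [Finite G] (p : ℕ) (N : Subgroup G) [N.Normal] :
    (pPrimeCore p N).map N.subtype ≤ pPrimeCore p G := by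
  haveI : (pPrimeCore p N).Characteristic := Cfsg.Agent.Lib.Helper1.pPrimeCore_characteristic p
  have hn : ((pPrimeCore p N).map N.subtype).Normal :=
    ConjAct.normal_of_characteristic_of_normal
  have hc : (Nat.card ((pPrimeCore p N).map N.subtype)).Coprime p := by
    rw [Subgroup.card_map_of_injective N.subtype_injective]
    exact pPrimeCore_card_coprime p
  exact le_sSup ⟨hn, hc⟩

/-- The `p'`-core of a subnormal subgroup lies in the `p'`-core. -/
theorem pPrimeCore_map_subtype_le_of_isSubnormal [Finite G] (p : ℕ) {H : Subgroup G}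
    (hH : H.IsSubnormal) : (pPrimeCore p H).map H.subtype ≤ pPrimeCore p G := by
  induction hH with
  | top =>
    have := pPrimeCore_map_mulEquiv p (Subgroup.topEquiv : (⊤ : Subgroup G) ≃* G)
    rw [← this]
    exact le_of_eq rfl
  | step H K hle hK hN ih =>
    haveI := hN
    have h1 := pPrimeCore_map_subtype_le_of_normal p (H.subgroupOf K)
    have h2 := (Subgroup.map_mono (f := K.subtype) h1).trans ih
    have e := pPrimeCore_map_mulEquiv p (Subgroup.subgroupOfEquivOfLe hle)
    rw [← e, Subgroup.map_map]
    rw [Subgroup.map_map] at h2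
    exact h2

/-- A subnormal subgroup of order prime to `p` lies in the `p'`-core. -/
theorem le_pPrimeCore_of_isSubnormal_of_coprime [Finite G] (p : ℕ) {H : Subgroup G}
    (hH : H.IsSubnormal) (hc : (Nat.card H).Coprime p) : H ≤ pPrimeCore p G := by
  have h1 : pPrimeCore p H = ⊤ := by
    rw [eq_top_iff]
    refine le_sSup ⟨inferInstance, ?_⟩
    rw [Subgroup.card_top]; exact hc
  have h2 := pPrimeCore_map_subtype_le_of_isSubnormal p hH
  rw [h1, ← MonoidHom.range_eq_map, Subgroup.range_subtype] at h2
  exact h2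

/-- For a subnormal subgroup `S`, `O_{p'}(S) = O_{p'}(G) ∩ S`. -/
theorem pPrimeCore_map_subtype_eq_inf_of_isSubnormal [Finite G] (p : ℕ) {S : Subgroup G}
    (hS : S.IsSubnormal) : (pPrimeCore p S).map S.subtype = pPrimeCore p G ⊓ S := by
  apply le_antisymm
  · exact le_inf (pPrimeCore_map_subtype_le_of_isSubnormal p hS) (Subgroup.map_subtype_le _)
  · have hOn : (pPrimeCore p G).Normal := inferInstance
    have hn : ((pPrimeCore p G).subgroupOf S).Normal := hOn.subgroupOf S
    have hc : (Nat.card ((pPrimeCore p G).subgroupOf S)).Coprime p := by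
      have h1 : Nat.card ((pPrimeCore p G).subgroupOf S) ∣ Nat.card (pPrimeCore p G) := by
        rw [← Subgroup.inf_subgroupOf_right,
          Nat.card_congr (Subgroup.subgroupOfEquivOfLe
            (inf_le_right : pPrimeCore p G ⊓ S ≤ S)).toEquiv]
        exact Subgroup.card_dvd_of_le inf_le_left
      exact Nat.Coprime.coprime_dvd_left h1 (pPrimeCore_card_coprime p)
    have hle : (pPrimeCore p G).subgroupOf S ≤ pPrimeCore p S := le_sSup ⟨hn, hc⟩
    have := Subgroup.map_mono (f := S.subtype) hle
    rwa [Subgroup.subgroupOf_map_subtype] at this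

/-- `O_{p'}(G / O_{p'}(G)) = 1`. -/
theorem pPrimeCore_quotient_eq_bot [Finite G] (p : ℕ) :
    pPrimeCore p (G ⧸ pPrimeCore p G) = ⊥ := by
  rw [eq_bot_iff]
  apply sSup_le
  rintro Nbar ⟨hNn, hNc⟩
  set π := QuotientGroup.mk' (pPrimeCore p G) with hπ
  have hsurj : Function.Surjective π := QuotientGroup.mk'_surjective _
  have hcn : (Nbar.comap π).Normal := hNn.comap π
  have hcard : Nat.card (Nbar.comap π) = Nat.card Nbar * Nat.card (pPrimeCore p G) := by
    have h1 := Subgroup.card_eq_card_quotient_mul_card_subgroup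
      ((pPrimeCore p G).subgroupOf (Nbar.comap π))
    have hker : π.ker ≤ Nbar.comap π := by
      intro x hx
      rw [Subgroup.mem_comap, MonoidHom.mem_ker.mp hx]
      exact Nbar.one_mem
    rw [QuotientGroup.ker_mk'] at hker
    have h2 : Nat.card ((pPrimeCore p G).subgroupOf (Nbar.comap π))
        = Nat.card (pPrimeCore p G) :=
      Nat.card_congr (Subgroup.subgroupOfEquivOfLe hker).toEquiv
    -- the quotient is isomorphic to `Nbar`
    let f : (Nbar.comap π) →* Nbar := π.subgroupComap Nbar
    have hf : Function.Surjective f := MonoidHom.subgroupComap_surjective_of_surjective π Nbar hsurj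
    have hfk : f.ker = (pPrimeCore p G).subgroupOf (Nbar.comap π) := by
      ext ⟨x, hx⟩
      rw [MonoidHom.mem_ker, Subgroup.mem_subgroupOf]
      constructor
      · intro h
        have : π x = 1 := congrArg Subtype.val h
        exact (QuotientGroup.eq_one_iff x).mp this
      · intro h
        apply Subtype.ext
        exact (QuotientGroup.eq_one_iff x).mpr h
    have e : (Nbar.comap π) ⧸ f.ker ≃* Nbar := QuotientGroup.quotientKerEquivOfSurjective f hf
    have h3 : Nat.card ((Nbar.comap π) ⧸ (pPrimeCore p G).subgroupOf (Nbar.comap π))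
        = Nat.card Nbar := by
      rw [← hfk]; exact Nat.card_congr e.toEquiv
    rw [h1, h2, h3]
  have hcop : (Nat.card (Nbar.comap π)).Coprime p := by
    rw [hcard]
    exact Nat.Coprime.mul_left hNc (pPrimeCore_card_coprime p)
  have hle : Nbar.comap π ≤ pPrimeCore p G := le_sSup ⟨hcn, hcop⟩
  intro y hy
  obtain ⟨x, rfl⟩ := hsurj y
  rw [Subgroup.mem_bot]
  exact (QuotientGroup.eq_one_iff x).mpr (hle hy)

end PPrimeCore

end Cfsg.Agent.Lib.Helper22
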