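/-
helper22 shared library, part 6: the subgroup `O^{p'}(G)` generated by the `p`-elements, and
quasisimple groups of order divisible by `p`.
All declarations live in `Cfsg.Agent.Lib.Helper22`.
-/
import Mathlib
import Cfsg.Prelude.Def_Local
import Cfsg.Agent.Lib.Helper22.Quasisimple

set_option autoImplicit false
set_option linter.style.haveILetI false

namespace Cfsg.Agent.Lib.Helper22

open Cfsg

section PPrimeResidual

variable {G : Type*} [Group G]

/-- `O^{p'}(G)`: the subgroup generated by the `p`-elements of `G` (elements of `p`-power order).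
For a finite group it is the smallest normal subgroup of index prime to `p`. -/
def pPrimeResidual (p : ℕ) (G : Type*) [Group G] : Subgroup G :=
  Subgroup.closure {g : G | ∃ k : ℕ, g ^ p ^ k = 1}

theorem mem_pPrimeResidual_of_pow_eq_one {p : ℕ} {g : G} {k : ℕ} (h : g ^ p ^ k = 1) :
    g ∈ pPrimeResidual p G :=
  Subgroup.subset_closure ⟨k, h⟩

theorem pPrimeResidual_map_le {G' : Type*} [Group G'] (p : ℕ) (f : G →* G') :
    (pPrimeResidual p G).map f ≤ pPrimeResidual p G' := by
  unfold pPrimeResidual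
  rw [Subgroup.map_le_iff_le_comap, Subgroup.closure_le]
  rintro g ⟨k, hk⟩
  apply Subgroup.subset_closure
  exact ⟨k, by rw [← map_pow, hk, map_one]⟩

theorem pPrimeResidual_characteristic (p : ℕ) : (pPrimeResidual p G).Characteristic := by
  rw [Subgroup.characteristic_iff_map_le]
  intro φ
  exact pPrimeResidual_map_le p φ.toMonoidHom

theorem pPrimeResidual_normal (p : ℕ) : (pPrimeResidual p G).Normal :=
  haveI := pPrimeResidual_characteristic (G := G) p
  inferInstance

/-- Every `p`-subgroup lies in `O^{p'}(G)`. -/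
theorem le_pPrimeResidual_of_isPGroup {p : ℕ} {P : Subgroup G} (hP : IsPGroup p P) :
    P ≤ pPrimeResidual p G := by
  intro g hg
  obtain ⟨k, hk⟩ := hP ⟨g, hg⟩
  apply mem_pPrimeResidual_of_pow_eq_one (k := k)
  exact congrArg Subtype.val hk

/-- The index of `O^{p'}(G)` is prime to `p`. -/
theorem pPrimeResidual_index_coprime [Finite G] (p : ℕ) [Fact p.Prime] :
    ((pPrimeResidual p G).index).Coprime p := by
  obtain ⟨P⟩ : Nonempty (Sylow p G) := inferInstance
  have hle : (P : Subgroup G) ≤ pPrimeResidual p G := le_pPrimeResidual_of_isPGroup P.isPGroup'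
  have hdvd := Subgroup.index_dvd_of_le hle
  have hP : ¬ p ∣ (P : Subgroup G).index := P.not_dvd_index
  rw [Nat.coprime_comm, Nat.Prime.coprime_iff_not_dvd Fact.out]
  exact fun h => hP (h.trans hdvd)

/-- A `p`-element lies in every subnormal subgroup of index prime to `p`. -/
theorem mem_of_isSubnormal_of_index_coprime [Finite G] {p : ℕ} [Fact p.Prime] {T : Subgroup G}
    (hT : T.IsSubnormal) (hidx : (T.index).Coprime p) {g : G} {k : ℕ} (hg : g ^ p ^ k = 1) :
    g ∈ T := by
  induction hT with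
  | top => trivial
  | step H K hle hK hN ih =>
    have h1 : H.relIndex K * K.index = H.index := Subgroup.relIndex_mul_index hle
    have hK' : (K.index).Coprime p := by
      apply Nat.Coprime.coprime_dvd_left _ hidx
      exact Dvd.intro_left _ h1
    have hrel : (H.relIndex K).Coprime p := by
      apply Nat.Coprime.coprime_dvd_left _ hidx
      exact Dvd.intro _ h1
    have hgK : g ∈ K := ih hK'
    -- in `K / H` the image of `g` has order dividing `p^k` and `|K/H|`
    haveI := hN
    set x : K ⧸ H.subgroupOf K := QuotientGroup.mk' _ ⟨g, hgK⟩ with hx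
    have hx1 : x ^ p ^ k = 1 := by
      rw [hx, ← map_pow]
      have : (⟨g, hgK⟩ : K) ^ p ^ k = 1 := Subtype.ext (by simpa using hg)
      rw [this, map_one]
    have hx2 : x ^ Nat.card (K ⧸ H.subgroupOf K) = 1 := pow_card_eq_one'
    have hcop : (p ^ k).Coprime (Nat.card (K ⧸ H.subgroupOf K)) := by
      have : Nat.card (K ⧸ H.subgroupOf K) = H.relIndex K := rfl
      rw [this]
      exact (Nat.Coprime.pow_right k hrel).symm
    have hx3 : x = 1 := by
      have hord1 : orderOf x ∣ p ^ k := orderOf_dvd_of_pow_eq_one hx1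
      have hord2 : orderOf x ∣ Nat.card (K ⧸ H.subgroupOf K) := orderOf_dvd_of_pow_eq_one hx2
      have : orderOf x ∣ 1 := by
        have := Nat.dvd_gcd hord1 hord2
        rwa [hcop] at this
      exact orderOf_eq_one_iff.mp (Nat.dvd_one.mp this)
    have := (QuotientGroup.eq_one_iff (⟨g, hgK⟩ : K)).mp hx3
    exact this

/-- `O^{p'}(G)` lies in every subnormal subgroup of index prime to `p`. -/
theorem pPrimeResidual_le_of_isSubnormal_of_index_coprime [Finite G] {p : ℕ} [Fact p.Prime]
    {T : Subgroup G} (hT : T.IsSubnormal) (hidx : (T.index).Coprime p) :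
    pPrimeResidual p G ≤ T := by
  unfold pPrimeResidual
  rw [Subgroup.closure_le]
  rintro g ⟨k, hk⟩
  exact mem_of_isSubnormal_of_index_coprime hT hidx hk

/-- A surjective homomorphism maps `O^{p'}` onto `O^{p'}`. -/
theorem pPrimeResidual_map_of_surjective [Finite G] {G' : Type*} [Group G'] [Finite G'] (p : ℕ)
    [Fact p.Prime] {f : G →* G'} (hf : Function.Surjective f) :
    (pPrimeResidual p G).map f = pPrimeResidual p G' := by
  apply le_antisymm (pPrimeResidual_map_le p f)
  have hn : ((pPrimeResidual p G).map f).Normal := (pPrimeResidual_normal p).map f hf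
  apply pPrimeResidual_le_of_isSubnormal_of_index_coprime hn.isSubnormal
  have hdvd : ((pPrimeResidual p G).map f).index ∣ (pPrimeResidual p G).index :=
    Subgroup.index_map_dvd _ hf
  exact Nat.Coprime.coprime_dvd_left hdvd (pPrimeResidual_index_coprime p)

end PPrimeResidual

end Cfsg.Agent.Lib.Helper22

namespace Cfsg.Agent.Lib.Helper22

open Cfsg
open scoped commutatorElement

section QuasisimpleP

variable {Q : Type*} [Group Q]

theorem commutatorElement_mul_central_left (z a b : Q) (hz : ∀ g : Q, g * z = z * g) :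
    ⁅a * z, b⁆ = ⁅a, b⁆ := by
  rw [commutatorElement_def, commutatorElement_def]
  calc a * z * b * (a * z)⁻¹ * b⁻¹ = a * (z * (b * z⁻¹ * a⁻¹ * b⁻¹)) := by group
    _ = a * ((b * z⁻¹ * a⁻¹ * b⁻¹) * z) := by rw [hz (b * z⁻¹ * a⁻¹ * b⁻¹)]
    _ = a * b * (z⁻¹ * (a⁻¹ * b⁻¹ * z)) := by group
    _ = a * b * (z⁻¹ * (z * (a⁻¹ * b⁻¹))) := by rw [hz (a⁻¹ * b⁻¹)]
    _ = a * b * a⁻¹ * b⁻¹ := by group

theorem commutatorElement_mul_central_right (z a b : Q) (hz : ∀ g : Q, g * z = z * g) :
    ⁅a, b * z⁆ = ⁅a, b⁆ := by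
  rw [commutatorElement_def, commutatorElement_def]
  calc a * (b * z) * a⁻¹ * (b * z)⁻¹ = a * b * (z * (a⁻¹ * z⁻¹ * b⁻¹)) := by group
    _ = a * b * ((a⁻¹ * z⁻¹ * b⁻¹) * z) := by rw [hz (a⁻¹ * z⁻¹ * b⁻¹)]
    _ = a * b * a⁻¹ * (z⁻¹ * (b⁻¹ * z)) := by group
    _ = a * b * a⁻¹ * (z⁻¹ * (z * b⁻¹)) := by rw [hz b⁻¹]
    _ = a * b * a⁻¹ * b⁻¹ := by group

/-- If `H ⊔ Z(Q) = ⊤` then all commutators lie in `H` (no normality needed). -/
theorem commutator_le_of_sup_center_eq_top' (H : Subgroup Q)
    (h : H ⊔ Subgroup.center Q = ⊤) : commutator Q ≤ H := by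
  rw [commutator_eq_closure, Subgroup.closure_le]
  rintro x ⟨a, b, rfl⟩
  have ha : a ∈ ((H ⊔ Subgroup.center Q : Subgroup Q) : Set Q) := by rw [h]; trivial
  have hb : b ∈ ((H ⊔ Subgroup.center Q : Subgroup Q) : Set Q) := by rw [h]; trivial
  rw [Subgroup.mul_normal] at ha hb
  obtain ⟨n₁, hn₁, z₁, hz₁, rfl⟩ := Set.mem_mul.mp ha
  obtain ⟨n₂, hn₂, z₂, hz₂, rfl⟩ := Set.mem_mul.mp hb
  rw [commutatorElement_mul_central_left z₁ n₁ _ (Subgroup.mem_center_iff.mp hz₁),
    commutatorElement_mul_central_right z₂ n₁ n₂ (Subgroup.mem_center_iff.mp hz₂)]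
  exact (Subgroup.commutator_le_self H) (Subgroup.commutator_mem_commutator hn₁ hn₂)

/-- A quasisimple group of order divisible by `p` has no proper normal subgroup of index prime
to `p`. -/
theorem quasisimple_normal_eq_top_of_index_coprime [Finite Q] {p : ℕ} [Fact p.Prime]
    (hQ : IsQuasisimple Q) (hp : p ∣ Nat.card Q) (N : Subgroup Q) [hN : N.Normal]
    (hidx : (N.index).Coprime p) : N = ⊤ := by
  rcases quasisimple_normal_le_center_or_eq_top hQ N with hNZ | h
  swap
  · exact h
  exfalso
  obtain ⟨P⟩ : Nonempty (Sylow p Q) := inferInstance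
  have hPN : (P : Subgroup Q) ≤ N := by
    intro g hg
    obtain ⟨k, hk⟩ := P.isPGroup' ⟨g, hg⟩
    exact mem_of_isSubnormal_of_index_coprime hN.isSubnormal hidx
      (k := k) (congrArg Subtype.val hk)
  have hPZ : (P : Subgroup Q) ≤ Subgroup.center Q := hPN.trans hNZ
  have hPn : (P : Subgroup Q).Normal := by
    refine ⟨fun n hn g => ?_⟩
    have := Subgroup.mem_center_iff.mp (hPZ hn) g
    have e : g * n * g⁻¹ = n := by
      calc g * n * g⁻¹ = n * g * g⁻¹ := by rw [this]
        _ = n := by group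
    rw [e]; exact hn
  have hcop : Nat.Coprime (Nat.card (P : Subgroup Q)) (P : Subgroup Q).index :=
    P.card_coprime_index
  obtain ⟨H, hH⟩ := Subgroup.exists_left_complement'_of_coprime hcop
  have hsup : H ⊔ Subgroup.center Q = ⊤ := by
    rw [eq_top_iff, ← hH.sup_eq_top]
    exact sup_le_sup le_rfl hPZ
  have hle := commutator_le_of_sup_center_eq_top' H hsup
  rw [quasisimple_commutator_eq_top hQ, top_le_iff] at hle
  rw [hle, Subgroup.isComplement'_top_left] at hH
  exact P.ne_bot_of_dvd_card hp hH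

/-- A quasisimple group of order divisible by `p` is generated by its `p`-elements. -/
theorem quasisimple_pPrimeResidual_eq_top [Finite Q] {p : ℕ} [Fact p.Prime]
    (hQ : IsQuasisimple Q) (hp : p ∣ Nat.card Q) : pPrimeResidual p Q = ⊤ := by
  haveI := pPrimeResidual_normal (G := Q) p
  exact quasisimple_normal_eq_top_of_index_coprime hQ hp _ (pPrimeResidual_index_coprime p)

end QuasisimpleP

end Cfsg.Agent.Lib.Helper22
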