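/-
helper22 shared library, part 7: `p`-components (Prelude `Cfsg.IsPComponent`) of finite groups:
the unique `p`-component over a component of `G / O_{p'}(G)`, and basic structure.
All declarations live in `Cfsg.Agent.Lib.Helper22`.
-/
import Mathlib
import Cfsg.Prelude.Def_Local
import Cfsg.Agent.Lib.Helper22.FStar
import Cfsg.Agent.Lib.Helper22.PPrimeCore
import Cfsg.Agent.Lib.Helper22.PResidual

set_option autoImplicit false
set_option linter.style.haveILetI false

namespace Cfsg.Agent.Lib.Helper22

open Cfsg
open scoped commutatorElement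

section PComponent

variable {G : Type*} [Group G]

/-- If `O` is normal then `[T ⊔ O : T]` divides `|O|`. -/
theorem relIndex_sup_dvd_card_of_normal [Finite G] (T O : Subgroup G) [O.Normal] :
    T.relIndex (T ⊔ O) ∣ Nat.card O := by
  have h1 : Nat.card (O ⊔ T : Subgroup G) ∣ Nat.card O * Nat.card T :=
    Cfsg.Agent.Lib.Helper1.card_sup_dvd_mul_of_normal_left O T
  have h2 : T.relIndex (T ⊔ O) * Nat.card T = Nat.card (T ⊔ O : Subgroup G) := by
    have := Subgroup.relIndex_mul_relIndex ⊥ T (T ⊔ O) bot_le le_sup_left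
    rw [Subgroup.relIndex_bot_left, Subgroup.relIndex_bot_left] at this
    rw [mul_comm]; exact this
  rw [sup_comm, ← h2] at h1
  exact Nat.dvd_of_mul_dvd_mul_right Nat.card_pos h1

variable (p : ℕ)

/-- Components of `G / O_{p'}(G)` have order divisible by `p`. -/
theorem dvd_card_of_isComponent_quotient [Finite G] [Fact p.Prime]
    {Kbar : Subgroup (G ⧸ pPrimeCore p G)} (h : IsComponent Kbar) : p ∣ Nat.card Kbar := by
  by_contra hnd
  have hc : (Nat.card Kbar).Coprime p :=
    (Nat.coprime_comm.mp ((Nat.Prime.coprime_iff_not_dvd Fact.out).mpr hnd))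
  have hle := le_pPrimeCore_of_isSubnormal_of_coprime p h.1 hc
  rw [pPrimeCore_quotient_eq_bot, le_bot_iff] at hle
  exact component_ne_bot h hle

/-- The `p`-component over a component `Kbar` of `G / O_{p'}(G)`: the subgroup generated by the
`p`-elements of the full preimage of `Kbar`. -/
def pComponentOver (Kbar : Subgroup (G ⧸ pPrimeCore p G)) : Subgroup G :=
  (pPrimeResidual p ↥(Kbar.comap (QuotientGroup.mk' (pPrimeCore p G)))).map
    (Kbar.comap (QuotientGroup.mk' (pPrimeCore p G))).subtype

theorem pComponentOver_le_comap (Kbar : Subgroup (G ⧸ pPrimeCore p G)) :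
    pComponentOver p Kbar ≤ Kbar.comap (QuotientGroup.mk' (pPrimeCore p G)) :=
  Subgroup.map_subtype_le _

theorem comap_le_normalizer_pComponentOver (Kbar : Subgroup (G ⧸ pPrimeCore p G)) :
    Kbar.comap (QuotientGroup.mk' (pPrimeCore p G)) ≤
      Subgroup.normalizer (pComponentOver p Kbar : Set G) := by
  haveI := pPrimeResidual_normal
    (G := ↥(Kbar.comap (QuotientGroup.mk' (pPrimeCore p G)))) p
  intro g hg
  rw [Subgroup.mem_normalizer_iff]
  intro x
  unfold pComponentOver
  constructor
  · rintro ⟨y, hy, rfl⟩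
    refine ⟨⟨g, hg⟩ * y * ⟨g, hg⟩⁻¹, ?_, rfl⟩
    exact Subgroup.Normal.conj_mem inferInstance y hy _
  · rintro ⟨y, hy, hyx⟩
    refine ⟨⟨g, hg⟩⁻¹ * y * ⟨g, hg⟩, ?_, ?_⟩
    · have := Subgroup.Normal.conj_mem (inferInstance :
        (pPrimeResidual p ↥(Kbar.comap (QuotientGroup.mk' (pPrimeCore p G)))).Normal) y hy
        (⟨g, hg⟩⁻¹)
      simpa using this
    · have h1 : ((⟨g, hg⟩⁻¹ * y * ⟨g, hg⟩ :
          ↥(Kbar.comap (QuotientGroup.mk' (pPrimeCore p G)))) : G) = g⁻¹ * (y : G) * g := rfl
      show ((⟨g, hg⟩⁻¹ * y * ⟨g, hg⟩ :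
          ↥(Kbar.comap (QuotientGroup.mk' (pPrimeCore p G)))) : G) = x
      rw [h1]
      have h2 : (y : G) = g * x * g⁻¹ := hyx
      rw [h2]; group

theorem pPrimeCore_le_normalizer_pComponentOver (Kbar : Subgroup (G ⧸ pPrimeCore p G)) :
    pPrimeCore p G ≤ Subgroup.normalizer (pComponentOver p Kbar : Set G) := by
  refine le_trans ?_ (comap_le_normalizer_pComponentOver p Kbar)
  intro x hx
  rw [Subgroup.mem_comap]
  have : (QuotientGroup.mk' (pPrimeCore p G)) x = 1 := (QuotientGroup.eq_one_iff x).mpr hx
  rw [this]; exact Kbar.one_mem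

theorem pComponentOver_isSubnormal {Kbar : Subgroup (G ⧸ pPrimeCore p G)}
    (h : Kbar.IsSubnormal) : (pComponentOver p Kbar).IsSubnormal := by
  haveI := pPrimeResidual_normal
    (G := ↥(Kbar.comap (QuotientGroup.mk' (pPrimeCore p G)))) p
  have h1 : (pPrimeResidual p ↥(Kbar.comap (QuotientGroup.mk' (pPrimeCore p G)))).IsSubnormal :=
    Subgroup.Normal.isSubnormal inferInstance
  exact h1.trans' (h.comap _)

theorem pComponentOver_map [Finite G] [Fact p.Prime] {Kbar : Subgroup (G ⧸ pPrimeCore p G)}
    (h : IsComponent Kbar) :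
    (pComponentOver p Kbar).map (QuotientGroup.mk' (pPrimeCore p G)) = Kbar := by
  set π := QuotientGroup.mk' (pPrimeCore p G) with hπ
  set M := Kbar.comap π with hM
  have hsurj : Function.Surjective π := QuotientGroup.mk'_surjective _
  let f : M →* Kbar := π.subgroupComap Kbar
  have hf : Function.Surjective f := MonoidHom.subgroupComap_surjective_of_surjective π Kbar hsurj
  have h1 : (pPrimeResidual p M).map f = ⊤ := by
    rw [pPrimeResidual_map_of_surjective p hf]
    exact quasisimple_pPrimeResidual_eq_top h.2 (dvd_card_of_isComponent_quotient p h)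
  unfold pComponentOver
  rw [Subgroup.map_map]
  have h2 : π.comp M.subtype = Kbar.subtype.comp f := rfl
  rw [h2, ← Subgroup.map_map, h1, ← MonoidHom.range_eq_map, Subgroup.range_subtype]

theorem pComponentOver_le_of_map_eq [Finite G] [Fact p.Prime]
    {Kbar : Subgroup (G ⧸ pPrimeCore p G)} {T : Subgroup G} (hT : T.IsSubnormal)
    (hTK : T.map (QuotientGroup.mk' (pPrimeCore p G)) = Kbar) : pComponentOver p Kbar ≤ T := by
  set π := QuotientGroup.mk' (pPrimeCore p G) with hπ
  set M := Kbar.comap π with hM
  have hMeq : M = T ⊔ pPrimeCore p G := by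
    rw [hM, ← hTK, Subgroup.comap_map_eq, QuotientGroup.ker_mk']
  have hTM : T ≤ M := by rw [hMeq]; exact le_sup_left
  have hsub : (T.subgroupOf M).IsSubnormal := hT.subgroupOf
  have hidx : ((T.subgroupOf M).index).Coprime p := by
    have h1 : (T.subgroupOf M).index = T.relIndex M := rfl
    rw [h1, hMeq]
    exact Nat.Coprime.coprime_dvd_left (relIndex_sup_dvd_card_of_normal T (pPrimeCore p G))
      (pPrimeCore_card_coprime p)
  have hle := pPrimeResidual_le_of_isSubnormal_of_index_coprime hsub hidx
  have := Subgroup.map_mono (f := M.subtype) hle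
  rw [Subgroup.subgroupOf_map_subtype] at this
  exact this.trans inf_le_left

/-- Over every component of `G / O_{p'}(G)` there is a `p`-component. -/
theorem pComponentOver_isPComponent [Finite G] [Fact p.Prime]
    {Kbar : Subgroup (G ⧸ pPrimeCore p G)} (h : IsComponent Kbar) :
    IsPComponent p (pComponentOver p Kbar) := by
  refine ⟨pComponentOver_isSubnormal p h.1, ?_, ?_⟩
  · rw [pComponentOver_map p h]; exact h
  · intro H hH hle hmap
    rw [pComponentOver_map p h] at hmap
    exact le_antisymm hle (pComponentOver_le_of_map_eq p hH hmap)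

/-- A `p`-component is the `p`-component over its image. -/
theorem pComponent_eq_pComponentOver [Finite G] [Fact p.Prime] {K : Subgroup G}
    (hK : IsPComponent p K) :
    K = pComponentOver p (K.map (QuotientGroup.mk' (pPrimeCore p G))) := by
  obtain ⟨hKsn, hKc, hKmin⟩ := hK
  have hle := pComponentOver_le_of_map_eq p hKsn
    (rfl : K.map (QuotientGroup.mk' (pPrimeCore p G)) = _)
  exact (hKmin _ (pComponentOver_isSubnormal p hKc.1) hle (pComponentOver_map p hKc)).symm

/-- Two `p`-components with the same image coincide. -/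
theorem pComponent_eq_of_map_eq [Finite G] [Fact p.Prime] {K L : Subgroup G}
    (hK : IsPComponent p K) (hL : IsPComponent p L)
    (h : K.map (QuotientGroup.mk' (pPrimeCore p G)) = L.map (QuotientGroup.mk' (pPrimeCore p G))) :
    K = L := by
  rw [pComponent_eq_pComponentOver p hK, pComponent_eq_pComponentOver p hL, h]

theorem pComponent_isSubnormal {K : Subgroup G} (hK : IsPComponent p K) : K.IsSubnormal := hK.1

theorem pComponent_map_isComponent {K : Subgroup G} (hK : IsPComponent p K) :
    IsComponent (K.map (QuotientGroup.mk' (pPrimeCore p G))) := hK.2.1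

/-- A `p`-component is perfect. -/
theorem pComponent_commutator_self {K : Subgroup G} (hK : IsPComponent p K) : ⁅K, K⁆ = K := by
  obtain ⟨hKsn, hKc, hKmin⟩ := hK
  apply hKmin
  · refine Subgroup.IsSubnormal.trans (Subgroup.commutator_le_self K) ?_ hKsn
    have : (⁅K, K⁆.subgroupOf K).Normal :=
      Subgroup.normal_subgroupOf_of_le_normalizer (Subgroup.normalizer_commutator_ge_left K K)
    exact this.isSubnormal
  · exact Subgroup.commutator_le_self K
  · rw [Subgroup.map_commutator, component_commutator_self hKc]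

/-- The order of a `p`-component is divisible by `p`. -/
theorem pComponent_dvd_card [Finite G] [Fact p.Prime] {K : Subgroup G} (hK : IsPComponent p K) :
    p ∣ Nat.card K :=
  (dvd_card_of_isComponent_quotient p hK.2.1).trans (Subgroup.card_map_dvd _ _)

/-- The full preimage of the image of a `p`-component normalizes it; in particular `O_{p'}(G)`
does. -/
theorem pPrimeCore_le_normalizer_pComponent [Finite G] [Fact p.Prime] {K : Subgroup G}
    (hK : IsPComponent p K) : pPrimeCore p G ≤ Subgroup.normalizer (K : Set G) := by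
  have := pPrimeCore_le_normalizer_pComponentOver p
    (K.map (QuotientGroup.mk' (pPrimeCore p G)))
  rwa [← pComponent_eq_pComponentOver p hK] at this

theorem comap_map_le_normalizer_pComponent [Finite G] [Fact p.Prime] {K : Subgroup G}
    (hK : IsPComponent p K) :
    (K.map (QuotientGroup.mk' (pPrimeCore p G))).comap (QuotientGroup.mk' (pPrimeCore p G)) ≤
      Subgroup.normalizer (K : Set G) := by
  have := comap_le_normalizer_pComponentOver p
    (K.map (QuotientGroup.mk' (pPrimeCore p G)))
  rwa [← pComponent_eq_pComponentOver p hK] at this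

end PComponent

end Cfsg.Agent.Lib.Helper22
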