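/-
helper22 shared library, part 8: more on `p`-components: normalizers, commutators of distinct
`p`-components, `K / O_{p'}(K)` quasisimple, quasisimplicity criterion.
All declarations live in `Cfsg.Agent.Lib.Helper22`.
-/
import Mathlib
import Cfsg.Prelude.Def_Local
import Cfsg.Agent.Lib.Helper22.PComponents

set_option autoImplicit false
set_option linter.style.haveILetI false

namespace Cfsg.Agent.Lib.Helper22

open Cfsg
open scoped commutatorElement

section PComponent2

variable {G : Type*} [Group G] (p : ℕ)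

theorem pComponentOver_eq_closure (Kbar : Subgroup (G ⧸ pPrimeCore p G)) :
    pComponentOver p Kbar = Subgroup.closure
      {x : G | x ∈ Kbar.comap (QuotientGroup.mk' (pPrimeCore p G)) ∧ ∃ k : ℕ, x ^ p ^ k = 1} := by
  unfold pComponentOver pPrimeResidual
  rw [MonoidHom.map_closure]
  congr 1
  ext x
  constructor
  · rintro ⟨y, ⟨k, hk⟩, rfl⟩
    exact ⟨y.2, k, by simpa using congrArg Subtype.val hk⟩
  · rintro ⟨hx, k, hk⟩
    exact ⟨⟨x, hx⟩, ⟨k, Subtype.ext (by simpa using hk)⟩, rfl⟩

/-- The normalizer of the full preimage of `Kbar` normalizes the `p`-component over `Kbar`. -/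
theorem normalizer_comap_le_normalizer_pComponentOver (Kbar : Subgroup (G ⧸ pPrimeCore p G)) :
    Subgroup.normalizer (Kbar.comap (QuotientGroup.mk' (pPrimeCore p G)) : Set G) ≤
      Subgroup.normalizer (pComponentOver p Kbar : Set G) := by
  rw [pComponentOver_eq_closure, Subgroup.le_normalizer_closure_iff]
  rintro h hh g ⟨hg, k, hk⟩
  apply Subgroup.subset_closure
  refine ⟨?_, k, ?_⟩
  · exact (Subgroup.mem_normalizer_iff.mp hh g).mp hg
  · rw [conj_pow, hk]; group

/-- If the image of `L` normalizes the image of the `p`-component `K`, then `L` normalizes `K`. -/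
theorem le_normalizer_pComponent_of_map_le [Finite G] [Fact p.Prime] {K L : Subgroup G}
    (hK : IsPComponent p K)
    (h : L.map (QuotientGroup.mk' (pPrimeCore p G)) ≤
      Subgroup.normalizer (K.map (QuotientGroup.mk' (pPrimeCore p G)) : Set (G ⧸ pPrimeCore p G))) :
    L ≤ Subgroup.normalizer (K : Set G) := by
  have h1 : L ≤ (Subgroup.normalizer
      (K.map (QuotientGroup.mk' (pPrimeCore p G)) : Set (G ⧸ pPrimeCore p G))).comap
      (QuotientGroup.mk' (pPrimeCore p G)) := by
    rw [← Subgroup.map_le_iff_le_comap]; exact h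
  have h2 := h1.trans (Subgroup.le_normalizer_comap _)
  have h3 := h2.trans (normalizer_comap_le_normalizer_pComponentOver p _)
  rwa [← pComponent_eq_pComponentOver p hK] at h3

/-- `O_{p'}(K) = O_{p'}(G) ∩ K` for a `p`-component `K`. -/
theorem pComponent_pPrimeCore_map [Finite G] {K : Subgroup G} (hK : IsPComponent p K) :
    (pPrimeCore p K).map K.subtype = pPrimeCore p G ⊓ K :=
  pPrimeCore_map_subtype_eq_inf_of_isSubnormal p hK.1

/-- Distinct `p`-components `K`, `L` satisfy `[K, L] ≤ O_{p'}(G) ∩ K ∩ L`. -/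
theorem pComponent_commutator_le [Finite G] [Fact p.Prime] {K L : Subgroup G}
    (hK : IsPComponent p K) (hL : IsPComponent p L) (hne : K ≠ L) :
    ⁅K, L⁆ ≤ pPrimeCore p G ⊓ K ⊓ L := by
  set π := QuotientGroup.mk' (pPrimeCore p G) with hπ
  have hne' : K.map π ≠ L.map π := fun h => hne (pComponent_eq_of_map_eq p hK hL h)
  have hcomm : ⁅K.map π, L.map π⁆ = ⊥ :=
    component_commutator_eq_bot_of_ne hK.2.1 hL.2.1 hne'
  have h1 : ⁅K, L⁆ ≤ pPrimeCore p G := by
    have : (⁅K, L⁆).map π = ⊥ := by rw [Subgroup.map_commutator, hcomm]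
    rw [Subgroup.map_eq_bot_iff, QuotientGroup.ker_mk'] at this
    exact this
  have hLK : L ≤ Subgroup.normalizer (K : Set G) := by
    apply le_normalizer_pComponent_of_map_le p hK
    rw [Subgroup.commutator_comm, Subgroup.commutator_eq_bot_iff_le_centralizer] at hcomm
    exact hcomm.trans (Subgroup.centralizer_le_normalizer _)
  have hKL : K ≤ Subgroup.normalizer (L : Set G) := by
    apply le_normalizer_pComponent_of_map_le p hL
    rw [Subgroup.commutator_eq_bot_iff_le_centralizer] at hcomm
    exact hcomm.trans (Subgroup.centralizer_le_normalizer _)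
  refine le_inf (le_inf h1 ?_) ?_
  · exact Subgroup.le_normalizer_iff_commutator_le_left.mp hLK
  · exact Subgroup.le_normalizer_iff_commutator_le_right.mp hKL

/-- For subnormal `K`, `K / O_{p'}(K)` is isomorphic to the image of `K` in `G / O_{p'}(G)`. -/
noncomputable def quotientPPrimeCoreEquivMap [Finite G] {K : Subgroup G} (hK : K.IsSubnormal) :
    (K ⧸ pPrimeCore p K) ≃* K.map (QuotientGroup.mk' (pPrimeCore p G)) := by
  let f : K →* K.map (QuotientGroup.mk' (pPrimeCore p G)) :=
    (QuotientGroup.mk' (pPrimeCore p G)).subgroupMap K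
  have hf : Function.Surjective f := MonoidHom.subgroupMap_surjective _ K
  have hker : pPrimeCore p K = f.ker := by
    have h1 := pPrimeCore_map_subtype_eq_inf_of_isSubnormal p hK
    ext ⟨x, hx⟩
    rw [MonoidHom.mem_ker]
    constructor
    · intro h
      have : x ∈ (pPrimeCore p K).map K.subtype := ⟨⟨x, hx⟩, h, rfl⟩
      rw [h1] at this
      apply Subtype.ext
      exact (QuotientGroup.eq_one_iff x).mpr this.1
    · intro h
      have h2 : (QuotientGroup.mk' (pPrimeCore p G)) x = 1 := congrArg Subtype.val h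
      have h3 : x ∈ pPrimeCore p G ⊓ K := ⟨(QuotientGroup.eq_one_iff x).mp h2, hx⟩
      rw [← h1] at h3
      obtain ⟨y, hy, hyx⟩ := h3
      have : y = ⟨x, hx⟩ := Subtype.ext hyx
      rwa [← this]
  exact (QuotientGroup.quotientMulEquivOfEq hker).trans
    (QuotientGroup.quotientKerEquivOfSurjective f hf)

/-- For a `p`-component `K`, the quotient `K / O_{p'}(K)` is quasisimple. -/
theorem pComponent_quotient_isQuasisimple [Finite G] {K : Subgroup G} (hK : IsPComponent p K) :
    IsQuasisimple (K ⧸ pPrimeCore p K) :=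
  Cfsg.Agent.Lib.Helper29.isQuasisimple_of_mulEquiv (quotientPPrimeCoreEquivMap p hK.1).symm
    hK.2.1.2

end PComponent2

section CentralQuotient

variable {K : Type*} [Group K]

/-- A perfect group with a central subgroup `N` such that `K / N` is quasisimple is quasisimple. -/
theorem isQuasisimple_of_quotient_central (hp : Group.IsPerfect K) (N : Subgroup K) [N.Normal]
    (hN : N ≤ Subgroup.center K) (hq : IsQuasisimple (K ⧸ N)) : IsQuasisimple K := by
  haveI : Nontrivial K := by
    have := quasisimple_nontrivial hq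
    exact (QuotientGroup.mk'_surjective N).nontrivial
  apply isQuasisimple_of_perfect_of_normal_le_center hp
  intro M hM
  have hMbar : (M.map (QuotientGroup.mk' N)).Normal := hM.map _ (QuotientGroup.mk'_surjective N)
  haveI := hMbar
  rcases quasisimple_normal_le_center_or_eq_top hq (M.map (QuotientGroup.mk' N)) with h | h
  · right
    -- `[M, K] ≤ N ≤ Z(K)`
    have h1 : ⁅M, (⊤ : Subgroup K)⁆ ≤ N := by
      rw [Subgroup.commutator_le]
      intro m hm k _
      have hmc : (QuotientGroup.mk' N) m ∈ Subgroup.center (K ⧸ N) := h ⟨m, hm, rfl⟩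
      rw [Subgroup.mem_center_iff] at hmc
      have := hmc ((QuotientGroup.mk' N) k)
      rw [← QuotientGroup.eq_one_iff, ← QuotientGroup.mk'_apply, map_commutatorElement,
        commutatorElement_eq_one_iff_mul_comm]
      exact this.symm
    have h2 : ⁅⁅M, (⊤ : Subgroup K)⁆, (⊤ : Subgroup K)⁆ = ⊥ := by
      rw [Subgroup.commutator_top_right_eq_bot_iff_le_center]
      exact h1.trans hN
    have h3 : ⁅⁅(⊤ : Subgroup K), M⁆, (⊤ : Subgroup K)⁆ = ⊥ := by
      rwa [Subgroup.commutator_comm ⊤ M]
    have h4 : ⁅⁅(⊤ : Subgroup K), (⊤ : Subgroup K)⁆, M⁆ = ⊥ :=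
      Subgroup.commutator_commutator_eq_bot_of_rotate h3 h2
    have h5 : ⁅(⊤ : Subgroup K), (⊤ : Subgroup K)⁆ = ⊤ := hp.commutator_eq_top
    rw [h5] at h4
    exact Subgroup.commutator_top_left_eq_bot_iff_le_center.mp h4
  · left
    have hsup : M ⊔ N = ⊤ := by
      have := congrArg (Subgroup.comap (QuotientGroup.mk' N)) h
      rwa [Subgroup.comap_map_eq, QuotientGroup.ker_mk', Subgroup.comap_top] at this
    have hsup' : M ⊔ Subgroup.center K = ⊤ := by
      rw [eq_top_iff, ← hsup]; exact sup_le_sup le_rfl hN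
    have := commutator_le_of_sup_center_eq_top M hsup'
    rw [hp.commutator_eq_top] at this
    exact top_le_iff.mp this

end CentralQuotient

end Cfsg.Agent.Lib.Helper22
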