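/-
helper22 shared library, part 11: quotients of quasisimple groups, images of components under
surjective homomorphisms, the layer of `G / O_{p'}(G)`.
All declarations live in `Cfsg.Agent.Lib.Helper22`.
-/
import Mathlib
import Cfsg.Prelude.Def_Local
import Cfsg.Agent.Lib.Helper22.PComponents2

set_option autoImplicit false
set_option linter.style.haveILetI false

namespace Cfsg.Agent.Lib.Helper22

open Cfsg
open scoped commutatorElement

section QuasisimpleQuotient

variable {Q : Type*} [Group Q]

/-- A proper quotient of a quasisimple group is quasisimple. -/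
theorem quasisimple_quotient (hQ : IsQuasisimple Q) (N : Subgroup Q) [N.Normal] (hN : N ≠ ⊤) :
    IsQuasisimple (Q ⧸ N) := by
  haveI : Nontrivial (Q ⧸ N) := by
    by_contra hcon
    rw [not_nontrivial_iff_subsingleton] at hcon
    apply hN
    rw [eq_top_iff]
    intro x _
    have : (QuotientGroup.mk' N) x = 1 := Subsingleton.elim _ _
    exact (QuotientGroup.eq_one_iff x).mp this
  haveI := hQ.1
  have hperf : Group.IsPerfect (Q ⧸ N) := inferInstance
  apply isQuasisimple_of_perfect_of_normal_le_center hperf
  intro Mbar hMbar
  have hM : (Mbar.comap (QuotientGroup.mk' N)).Normal := hMbar.comap _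
  have hmc : (Mbar.comap (QuotientGroup.mk' N)).map (QuotientGroup.mk' N) = Mbar :=
    Subgroup.map_comap_eq_self_of_surjective (QuotientGroup.mk'_surjective _) _
  haveI := hM
  rcases quasisimple_normal_le_center_or_eq_top hQ (Mbar.comap (QuotientGroup.mk' N)) with h | h
  · right
    rw [← hmc]
    rintro _ ⟨m, hm, rfl⟩
    rw [Subgroup.mem_center_iff]
    intro g
    obtain ⟨g, rfl⟩ := QuotientGroup.mk'_surjective N g
    rw [← map_mul, ← map_mul, Subgroup.mem_center_iff.mp (h hm) g]
  · left
    rw [← hmc, h]
    exact Subgroup.map_top_of_surjective _ (QuotientGroup.mk'_surjective _)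

end QuasisimpleQuotient

section ComponentMap

variable {G : Type*} [Group G] {G' : Type*} [Group G']

/-- The image of a component under a surjective homomorphism is trivial or a component. -/
theorem component_map_of_surjective {L : Subgroup G} (hL : IsComponent L) {f : G →* G'}
    (hf : Function.Surjective f) : L.map f = ⊥ ∨ IsComponent (L.map f) := by
  let g : L →* L.map f := f.subgroupMap L
  have hg : Function.Surjective g := f.subgroupMap_surjective L
  by_cases hker : g.ker = ⊤
  · left
    rw [eq_bot_iff]
    rintro _ ⟨x, hx, rfl⟩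
    have : (⟨x, hx⟩ : L) ∈ g.ker := by rw [hker]; trivial
    rw [MonoidHom.mem_ker] at this
    exact congrArg Subtype.val this
  · right
    refine ⟨hL.1.map hf, ?_⟩
    have e : L ⧸ g.ker ≃* L.map f := QuotientGroup.quotientKerEquivOfSurjective g hg
    exact Cfsg.Agent.Lib.Helper29.isQuasisimple_of_mulEquiv e (quasisimple_quotient hL.2 _ hker)

/-- The image of the layer under a surjective homomorphism lies in the layer. -/
theorem layer_map_le_of_surjective {f : G →* G'} (hf : Function.Surjective f) :
    (layer G).map f ≤ layer G' := by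
  unfold layer
  rw [sSup_eq_iSup, Subgroup.map_iSup]
  refine iSup_le fun L => ?_
  rw [Subgroup.map_iSup]
  refine iSup_le fun hL => ?_
  rcases component_map_of_surjective hL hf with h | h
  · rw [h]; exact bot_le
  · exact le_sSup h

end ComponentMap

section PLayer

variable {G : Type*} [Group G] (p : ℕ)

theorem pComponent_le_pLayer {K : Subgroup G} (hK : IsPComponent p K) : K ≤ pLayer p G :=
  le_sSup hK

/-- The `p`-layer maps onto the layer of `G / O_{p'}(G)`. -/
theorem pLayer_map_eq_layer [Finite G] [Fact p.Prime] :
    (pLayer p G).map (QuotientGroup.mk' (pPrimeCore p G)) = layer (G ⧸ pPrimeCore p G) := by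
  apply le_antisymm
  · unfold pLayer
    rw [sSup_eq_iSup, Subgroup.map_iSup]
    refine iSup_le fun K => ?_
    rw [Subgroup.map_iSup]
    refine iSup_le fun hK => ?_
    exact le_sSup hK.2.1
  · apply sSup_le
    intro Kbar hKbar
    rw [← pComponentOver_map p hKbar]
    exact Subgroup.map_mono (pComponent_le_pLayer p (pComponentOver_isPComponent p hKbar))

/-- The `p`-layer is trivial iff `G / O_{p'}(G)` has trivial layer. -/
theorem pLayer_eq_bot_iff [Finite G] [Fact p.Prime] :
    pLayer p G = ⊥ ↔ layer (G ⧸ pPrimeCore p G) = ⊥ := by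
  constructor
  · intro h
    rw [← pLayer_map_eq_layer, h, Subgroup.map_bot]
  · intro h
    rw [eq_bot_iff]
    apply sSup_le
    intro K hK
    exfalso
    have h1 : K.map (QuotientGroup.mk' (pPrimeCore p G)) ≤ layer (G ⧸ pPrimeCore p G) :=
      component_le_layer hK.2.1
    rw [h, le_bot_iff] at h1
    exact component_ne_bot hK.2.1 h1

end PLayer

end Cfsg.Agent.Lib.Helper22
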