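/-
helper22 shared library, part 9: fixed points of `p`-groups acting by conjugation on invariant
subsets / cosets of `p'`-size.
All declarations live in `Cfsg.Agent.Lib.Helper22`.
-/
import Mathlib

set_option autoImplicit false
set_option linter.style.haveILetI false

namespace Cfsg.Agent.Lib.Helper22

section FixedPoints

variable {G : Type*} [Group G]

/-- The conjugation action of a subgroup `P` on a `P`-invariant subset `Ω` of `G`. -/
@[reducible]
def conjActionOnSet (P : Subgroup G) (Ω : Set G)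
    (hΩ : ∀ g ∈ P, ∀ y ∈ Ω, g * y * g⁻¹ ∈ Ω) : MulAction P Ω where
  smul g y := ⟨(g : G) * y * (g : G)⁻¹, hΩ g g.2 y y.2⟩
  one_smul y := by
    apply Subtype.ext
    show ((1 : P) : G) * y * ((1 : P) : G)⁻¹ = y
    simp
  mul_smul g h y := by
    apply Subtype.ext
    show ((g * h : P) : G) * y * ((g * h : P) : G)⁻¹ = (g : G) * ((h : G) * y * (h : G)⁻¹) * (g : G)⁻¹
    simp only [Subgroup.coe_mul, mul_inv_rev]
    group

/-- A `p`-subgroup acting by conjugation on an invariant subset of size prime to `p` centralizes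
some element of the subset. -/
theorem exists_centralized_mem_of_invariant_set {p : ℕ} [Fact p.Prime] (P : Subgroup G)
    (hP : IsPGroup p P) (Ω : Set G) (hΩ : ∀ g ∈ P, ∀ y ∈ Ω, g * y * g⁻¹ ∈ Ω)
    (hcard : ¬ p ∣ Nat.card Ω) : ∃ y ∈ Ω, ∀ g ∈ P, g * y = y * g := by
  letI : MulAction P Ω := conjActionOnSet P Ω hΩ
  obtain ⟨⟨y, hy⟩, hfix⟩ := hP.nonempty_fixed_point_of_prime_not_dvd_card Ω hcard
  refine ⟨y, hy, fun g hg => ?_⟩
  have h1 := hfix ⟨g, hg⟩
  have h2 : g * y * g⁻¹ = y := congrArg Subtype.val h1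
  calc g * y = (g * y * g⁻¹) * g := by group
    _ = y * g := by rw [h2]

/-- A `p`-subgroup `P` acting by conjugation on a `P`-invariant coset `x M` of a subgroup `M` of
order prime to `p` centralizes some element of the coset. -/
theorem exists_centralized_mem_coset [Finite G] {p : ℕ} [Fact p.Prime] (P M : Subgroup G)
    (hP : IsPGroup p P) (hM : (Nat.card M).Coprime p) (x : G)
    (hinv : ∀ g ∈ P, ∀ m ∈ M, x⁻¹ * (g * (x * m) * g⁻¹) ∈ M) :
    ∃ m ∈ M, ∀ g ∈ P, g * (x * m) = (x * m) * g := by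
  set Ω : Set G := {y | x⁻¹ * y ∈ M} with hΩdef
  have hΩ : ∀ g ∈ P, ∀ y ∈ Ω, g * y * g⁻¹ ∈ Ω := by
    intro g hg y hy
    have := hinv g hg (x⁻¹ * y) hy
    have e : x * (x⁻¹ * y) = y := by group
    rw [e] at this
    exact this
  have hcardeq : Nat.card Ω = Nat.card M := by
    apply Nat.card_congr
    refine ⟨fun y => ⟨x⁻¹ * y, y.2⟩, fun m => ⟨x * m, ?_⟩, ?_, ?_⟩
    · show x⁻¹ * (x * m) ∈ M
      have e : x⁻¹ * (x * (m : G)) = m := by group
      rw [e]; exact m.2
    · intro y
      apply Subtype.ext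
      show x * (x⁻¹ * (y : G)) = y
      group
    · intro m
      apply Subtype.ext
      show x⁻¹ * (x * (m : G)) = m
      group
  have hnd : ¬ p ∣ Nat.card Ω := by
    rw [hcardeq]
    intro h
    have : p ∣ 1 := by
      have := Nat.dvd_gcd h (dvd_refl p)
      rwa [hM] at this
    exact (Fact.out : p.Prime).one_lt.ne' (Nat.dvd_one.mp this)
  obtain ⟨y, hy, hfix⟩ := exists_centralized_mem_of_invariant_set P hP Ω hΩ hnd
  refine ⟨x⁻¹ * y, hy, fun g hg => ?_⟩
  have e : x * (x⁻¹ * y) = y := by group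
  rw [e]
  exact hfix g hg

end FixedPoints

end Cfsg.Agent.Lib.Helper22
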