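/-
helper22 shared library, part 12: `p`-constraint: `X` is `p`-constrained iff
`C(O_p(X̄)) ≤ O_p(X̄)` in `X̄ = X / O_{p'}(X)` iff `E(X̄) = 1` iff `L_{p'}(X) = 1`.
All declarations live in `Cfsg.Agent.Lib.Helper22`.
-/
import Mathlib
import Cfsg.Prelude.Def_Local
import Cfsg.Agent.Lib.Helper22.ComponentsMap
import Cfsg.Agent.Lib.Helper22.Coprime

set_option autoImplicit false
set_option linter.style.haveILetI false

namespace Cfsg.Agent.Lib.Helper22

open Cfsg
open scoped commutatorElement

section FittingOfCoreFree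

variable {G : Type*} [Group G]

/-- `C_G(F(G)) ≤ F(G)` iff `E(G) = 1` (library form of S1326). -/
theorem centralizer_fittingSubgroup_le_iff_layer_eq_bot [Finite G] :
    Subgroup.centralizer (fittingSubgroup G : Set G) ≤ fittingSubgroup G ↔ layer G = ⊥ := by
  constructor
  · intro h
    have h1 : layer G ≤ fittingSubgroup G := by
      refine le_trans ?_ h
      rw [← Subgroup.commutator_eq_bot_iff_le_centralizer]
      exact layer_commutator_fittingSubgroup
    have hnil : Group.IsNilpotent (fittingSubgroup G) :=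
      Cfsg.Agent.Lib.Helper1.fittingSubgroup_isNilpotent
    have hsolv : Group.IsSolvable (layer G) :=
      Group.isSolvable_of_isSolvable_injective (Subgroup.inclusion_injective h1)
    have hperf : Group.IsPerfect (layer G) := Subgroup.isPerfect_iff.mpr layer_commutator_self
    by_contra hne
    have hnt : Nontrivial (layer G) := (Subgroup.nontrivial_iff_ne_bot _).mpr hne
    exact Group.IsPerfect.not_isSolvable (layer G) hsolv
  · intro h
    have h1 : generalizedFittingSubgroup G = fittingSubgroup G := by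
      unfold generalizedFittingSubgroup
      rw [h, bot_sup_eq]
    have := centralizer_generalizedFittingSubgroup_le (G := G)
    rwa [h1] at this

/-- If `O_{p'}(G) = 1` then `F(G) = O_p(G)`. -/
theorem fittingSubgroup_eq_pCore_of_pPrimeCore_eq_bot [Finite G] (p : ℕ) [Fact p.Prime]
    (h : pPrimeCore p G = ⊥) : fittingSubgroup G = pCore p G := by
  rw [Cfsg.Agent.Lib.Helper1.fittingSubgroup_eq_iSup_pCore]
  apply le_antisymm
  · refine iSup_le fun q => ?_
    by_cases hq : (q : ℕ) = p
    · rw [hq]
    · have : Fact (q : ℕ).Prime := ⟨q.2⟩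
      have hqn : (pCore (q : ℕ) G).Normal := inferInstance
      obtain ⟨n, hn⟩ := IsPGroup.iff_card.mp
        (Cfsg.Agent.Lib.Helper1.pCore_isPGroup (q : ℕ) (G := G))
      have hc : (Nat.card (pCore (q : ℕ) G)).Coprime p := by
        rw [hn]
        apply Nat.Coprime.pow_left
        exact (Nat.coprime_primes q.2 Fact.out).mpr hq
      have : pCore (q : ℕ) G ≤ pPrimeCore p G := le_sSup ⟨hqn, hc⟩
      rw [h] at this
      exact this.trans bot_le
  · exact le_iSup (fun q : Nat.Primes => pCore (q : ℕ) G) ⟨p, Fact.out⟩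

end FittingOfCoreFree

section PConstrained

variable {G : Type*} [Group G] (p : ℕ)

/-- A Sylow `p`-subgroup of `O_{p',p}(G)` maps onto `O_p(G / O_{p'}(G))`. -/
theorem sylow_pPrimePCore_map [Finite G] [Fact p.Prime] (P : Sylow p ↥(pPrimePCore p G)) :
    ((P : Subgroup ↥(pPrimePCore p G)).map (pPrimePCore p G).subtype).map
      (QuotientGroup.mk' (pPrimeCore p G)) = pCore p (G ⧸ pPrimeCore p G) := by
  set π := QuotientGroup.mk' (pPrimeCore p G) with hπ
  have hsurj : Function.Surjective π := QuotientGroup.mk'_surjective _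
  let g : ↥(pPrimePCore p G) →* pCore p (G ⧸ pPrimeCore p G) :=
    π.subgroupComap (pCore p (G ⧸ pPrimeCore p G))
  have hg : Function.Surjective g :=
    MonoidHom.subgroupComap_surjective_of_surjective π _ hsurj
  have hQ : IsPGroup p (pCore p (G ⧸ pPrimeCore p G)) :=
    Cfsg.Agent.Lib.Helper1.pCore_isPGroup p
  -- the image of `P` has index prime to `p` in a `p`-group
  have h1 : ((P : Subgroup ↥(pPrimePCore p G)).map g).index ∣
      (P : Subgroup ↥(pPrimePCore p G)).index :=
    Subgroup.index_map_dvd _ hg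
  obtain ⟨n, hn⟩ := hQ.index ((P : Subgroup ↥(pPrimePCore p G)).map g)
  have hPidx : ¬ p ∣ (P : Subgroup ↥(pPrimePCore p G)).index := P.not_dvd_index
  have hn0 : n = 0 := by
    by_contra hne
    apply hPidx
    refine dvd_trans ?_ h1
    rw [hn]
    exact dvd_pow_self p hne
  rw [hn0, pow_zero, Subgroup.index_eq_one] at hn
  rw [Subgroup.map_map]
  have h2 : π.comp (pPrimePCore p G).subtype
      = (pCore p (G ⧸ pPrimeCore p G)).subtype.comp g := rfl
  rw [h2, ← Subgroup.map_map, hn, ← MonoidHom.range_eq_map, Subgroup.range_subtype]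

/-- `G` is `p`-constrained iff `C(O_p(Ḡ)) ≤ O_p(Ḡ)` in `Ḡ = G / O_{p'}(G)`. -/
theorem isPConstrained_iff_centralizer_pCore_le [Finite G] [Fact p.Prime] :
    IsPConstrained p G ↔
      Subgroup.centralizer (pCore p (G ⧸ pPrimeCore p G) : Set (G ⧸ pPrimeCore p G)) ≤
        pCore p (G ⧸ pPrimeCore p G) := by
  set π := QuotientGroup.mk' (pPrimeCore p G) with hπ
  have hsurj : Function.Surjective π := QuotientGroup.mk'_surjective _
  constructor
  · intro h xbar hxbar
    obtain ⟨x, rfl⟩ := hsurj xbar
    obtain ⟨P⟩ : Nonempty (Sylow p ↥(pPrimePCore p G)) := inferInstance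
    have hP := h P
    set P' := (P : Subgroup ↥(pPrimePCore p G)).map (pPrimePCore p G).subtype with hP'
    have hP'p : IsPGroup p P' := P.isPGroup'.map _
    have hmap : P'.map π = pCore p (G ⧸ pPrimeCore p G) := sylow_pPrimePCore_map p P
    have hinv : ∀ g ∈ P', ∀ m ∈ pPrimeCore p G, x⁻¹ * (g * (x * m) * g⁻¹) ∈ pPrimeCore p G := by
      intro g hg m hm
      have hm1 : π m = 1 := (QuotientGroup.eq_one_iff m).mpr hm
      have hgc : π g ∈ pCore p (G ⧸ pPrimeCore p G) := by
        rw [← hmap]; exact ⟨g, hg, rfl⟩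
      have hcomm : π g * π x = π x * π g := Subgroup.mem_centralizer_iff.mp hxbar (π g) hgc
      have key : π (x⁻¹ * (g * (x * m) * g⁻¹)) = 1 := by
        rw [map_mul, map_mul, map_mul, map_mul, map_inv, map_inv, hm1, mul_one, hcomm]
        group
      exact (QuotientGroup.eq_one_iff _).mp key
    obtain ⟨m, hm, hfix⟩ := exists_centralized_mem_coset P' (pPrimeCore p G) hP'p
      (pPrimeCore_card_coprime p) x hinv
    have hxm : x * m ∈ Subgroup.centralizer (P' : Set G) := by
      rw [Subgroup.mem_centralizer_iff]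
      intro g hg
      exact hfix g hg
    have hW : x * m ∈ pPrimePCore p G := hP hxm
    have hm1 : π m = 1 := (QuotientGroup.eq_one_iff m).mpr hm
    have : π (x * m) ∈ pCore p (G ⧸ pPrimeCore p G) := hW
    rwa [map_mul, hm1, mul_one] at this
  · intro h P x hx
    show π x ∈ pCore p (G ⧸ pPrimeCore p G)
    apply h
    rw [← sylow_pPrimePCore_map p P, Subgroup.mem_centralizer_iff]
    rintro _ ⟨g, hg, rfl⟩
    rw [← map_mul, ← map_mul, Subgroup.mem_centralizer_iff.mp hx g hg]

/-- `G` is `p`-constrained iff `G / O_{p'}(G)` has trivial layer. -/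
theorem isPConstrained_iff_layer_quotient_eq_bot [Finite G] [Fact p.Prime] :
    IsPConstrained p G ↔ layer (G ⧸ pPrimeCore p G) = ⊥ := by
  rw [isPConstrained_iff_centralizer_pCore_le,
    ← centralizer_fittingSubgroup_le_iff_layer_eq_bot,
    fittingSubgroup_eq_pCore_of_pPrimeCore_eq_bot p (pPrimeCore_quotient_eq_bot p)]

/-- `G` is `p`-constrained iff its `p`-layer is trivial. -/
theorem isPConstrained_iff_pLayer_eq_bot [Finite G] [Fact p.Prime] :
    IsPConstrained p G ↔ pLayer p G = ⊥ := by
  rw [isPConstrained_iff_layer_quotient_eq_bot, pLayer_eq_bot_iff]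

end PConstrained

end Cfsg.Agent.Lib.Helper22
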