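/-
helper22: solvable groups are p-constrained; `O_{p'}(C_G(T)) ≤ O_{p'}(G)` in a `p`-constrained group
(`T` a `p`-subgroup), a consequence of helper54's `mem_pPrimeCore_of_centralizes` (Thompson `P × Q`).
-/
import Mathlib
import Cfsg.Prelude.Def_Local
import Cfsg.Agent.Lib.Helper22.PConstrained
import Cfsg.Agent.Lib.Helper54.PLocal2

set_option autoImplicit false

open Cfsg
open scoped commutatorElement

namespace Cfsg.Agent.Lib.Helper22

section SolvableLocal

variable {G : Type*} [Group G]

/-- A solvable group has no components. -/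
theorem layer_eq_bot_of_isSolvable (h : Group.IsSolvable G) : layer G = ⊥ := by
  unfold layer
  rw [eq_bot_iff]
  apply sSup_le
  intro K hK
  exfalso
  exact component_not_isSolvable hK inferInstance

/-- A finite solvable group is `p`-constrained. -/
theorem isPConstrained_of_isSolvable [Finite G] (p : ℕ) [Fact p.Prime] (h : Group.IsSolvable G) :
    IsPConstrained p G := by
  rw [isPConstrained_iff_layer_quotient_eq_bot]
  exact layer_eq_bot_of_isSolvable inferInstance

/-- In a `p`-constrained group `G`, a `p'`-subgroup `X` of `C_G(T)` normalized by `C_G(T)`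
(`T` a `p`-subgroup) lies in `O_{p'}(G)`. In particular `O_{p'}(C_G(T)) ≤ O_{p'}(G)`. -/
theorem le_pPrimeCore_of_normal_centralizer [Finite G] (p : ℕ) [Fact p.Prime]
    (hG : IsPConstrained p G) (T : Subgroup G) (hT : IsPGroup p T) (X : Subgroup G)
    (hX : (Nat.card X).Coprime p) (hXT : X ≤ Subgroup.centralizer (T : Set G))
    (hn : Subgroup.centralizer (T : Set G) ≤ Subgroup.normalizer (X : Set G)) :
    X ≤ pPrimeCore p G := by
  intro c hcX
  have hcop : ∀ z ∈ X, (orderOf z).Coprime p := fun z hz =>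
    Nat.Coprime.coprime_dvd_left (Subgroup.orderOf_dvd_natCard X hz) hX
  refine Cfsg.Agent.Lib.Helper54.mem_pPrimeCore_of_centralizes p hG T hT (hcop c hcX) (hXT hcX) ?_
  rintro y ⟨hyR, hyT⟩
  have hRn : (pPrimePCore p G).Normal := Cfsg.Agent.Lib.Helper54.pPrimePCore_normal_h54 p
  apply Cfsg.Agent.Lib.Helper54.mem_pPrimeCore_of_coprime p
  · rw [commutatorElement_def]
    have h1 : c * y * c⁻¹ ∈ pPrimePCore p G := hRn.conj_mem y hyR c
    exact Subgroup.mul_mem _ h1 (Subgroup.inv_mem _ hyR)
  · apply hcop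
    rw [commutatorElement_def]
    have h1 : y * c⁻¹ * y⁻¹ ∈ X :=
      (Subgroup.mem_normalizer_iff.mp (hn hyT) c⁻¹).mp (X.inv_mem hcX)
    have e : c * y * c⁻¹ * y⁻¹ = c * (y * c⁻¹ * y⁻¹) := by group
    rw [e]
    exact X.mul_mem hcX h1

end SolvableLocal

end Cfsg.Agent.Lib.Helper22
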