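import Mathlib
import Cfsg.Agent.Lib.Helper24.PFCycDefs
import Cfsg.Agent.Lib.Helper4.PFTypes
import Cfsg.Agent.Lib.Helper79.Integrality
import Cfsg.Agent.Lib.Helper77.Linear
import Cfsg.Agent.Lib.Helper25.LinChar
import Cfsg.Agent.Lib.Helper3.CharIrr

/-!
# PF sections 10-13 bookkeeping, module [MU-DEG] (helper22)

`mu_degree`: for `ψ ≠ 1` trivial on `W₁` the degree `d` of `μ_ψ` is a natural number with
`d ≥ 2|W₁| - 1` and `d ≡ δ_ψ (mod |W₁|)`.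

Proof: `d ≡ ±1 (mod q)` by `MuData.deg`, `d` is odd (it divides `|M|`), and `d ≠ 1` because a linear
character of `M` is trivial on `W₂ ≤ M'`, which together with `MuData.val` would force `ψ` to be
trivial on `W₂`.
-/

set_option autoImplicit false

namespace Cfsg.Agent.Lib.Helper22.PFCyc

open Cfsg Cfsg.Agent.Lib.Helper4.PF Cfsg.Agent.Lib.Helper24.PFCyc
open scoped commutatorElement

universe u

variable {G : Type u} [Group G] [Finite G] {M W₁ U W₂ : Subgroup G} [Fintype M]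

/-- a homomorphism from `↥M` to a commutative group kills `⁅M, M⁆` -/
theorem hom_eq_one_of_mem_commutator {A : Type*} [CommGroup A] (M : Subgroup G) (φ : ↥M →* A)
    (z : ↥M) (hz : (z : G) ∈ ⁅M, M⁆) : φ z = 1 := by
  have hle : ⁅M, M⁆ ≤ (φ.ker).map M.subtype := by
    rw [Subgroup.commutator_le]
    intro g₁ h₁ g₂ h₂
    refine ⟨⁅(⟨g₁, h₁⟩ : ↥M), ⟨g₂, h₂⟩⁆, ?_, rfl⟩
    show ⁅(⟨g₁, h₁⟩ : ↥M), ⟨g₂, h₂⟩⁆ ∈ φ.ker
    rw [MonoidHom.mem_ker, map_commutatorElement]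
    exact commutatorElement_eq_one_iff_commute.mpr (Commute.all _ _)
  obtain ⟨y, hy, hyz⟩ := hle hz
  have : y = z := Subtype.ext hyz
  rw [← this]
  exact hy

variable {mu : WChar W₁ W₂ → (↥M → ℂ)} {dl : WChar W₁ W₂ → ℂ}

/-- `μ_ψ` is not linear when `ψ ≠ 1` is trivial on `W₁` -/
theorem mu_apply_one_ne_one (hP : IsTypePWith M W₁ U W₂)
    (md : MuData M W₁ W₂ mu dl) (ψ : WChar W₁ W₂) (hψ : TrivOn W₁ ψ) (hψ1 : ψ ≠ 1) :
    mu ψ 1 ≠ 1 := by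
  intro h1
  obtain ⟨φ, hφ⟩ := Cfsg.Agent.Lib.Helper77.exists_monoidHom_of_degree_one
    (Cfsg.Agent.Lib.Helper3.IsIrrCharacter.isCharacter (md.irr ψ)) h1
  have hW₁M : W₁ ≤ M := hP.W₁_compl.2.1
  have hW₂der : W₂ ≤ ⁅M, M⁆ :=
    (hP.W₂_le.trans inf_le_left).trans hP.U_compl.1
  have hW₂M : W₂ ≤ M := hW₂der.trans hP.W₁_compl.1
  obtain ⟨_, _, hinf, _, _, _⟩ := hP.selfNormalizing
  obtain ⟨x, hx, hx1⟩ : ∃ x ∈ W₁, x ≠ 1 := by
    obtain ⟨⟨x, hx⟩, hne⟩ := Subgroup.ne_bot_iff_exists_ne_one.mp hP.W₁_ne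
    exact ⟨x, hx, fun h => hne (Subtype.ext h)⟩
  have hdl0 : dl ψ ≠ 0 := by
    rcases md.sign ψ with h | h <;> rw [h] <;> norm_num
  -- the key identity
  have key : ∀ z (hz : z ∈ W₂), dl ψ * ((ψ ⟨z, Subgroup.mem_sup_right hz⟩ : ℂˣ) : ℂ)
      = ((φ ⟨x, hW₁M hx⟩ : ℂˣ) : ℂ) := by
    intro z hz
    have hxz : x * z ∈ W₁ ⊔ W₂ :=
      Subgroup.mul_mem _ (Subgroup.mem_sup_left hx) (Subgroup.mem_sup_right hz)
    have hxz' : x * z ∉ W₂ := by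
      intro h
      have hxW₂ : x ∈ W₂ := by
        have := W₂.mul_mem h (W₂.inv_mem hz)
        simpa using this
      have : x ∈ W₁ ⊓ W₂ := ⟨hx, hxW₂⟩
      rw [hinf] at this
      exact hx1 (Subgroup.mem_bot.mp this)
    have hv := md.val ψ (⟨x, hW₁M hx⟩ * ⟨z, hW₂M hz⟩ : ↥M) hxz hxz'
    have e1 : (⟨((⟨x, hW₁M hx⟩ * ⟨z, hW₂M hz⟩ : ↥M) : G), hxz⟩ : ↥(W₁ ⊔ W₂))
        = ⟨x, Subgroup.mem_sup_left hx⟩ * ⟨z, Subgroup.mem_sup_right hz⟩ := rfl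
    rw [e1, map_mul, hψ ⟨x, Subgroup.mem_sup_left hx⟩ hx, one_mul] at hv
    rw [← hv, hφ, map_mul, hom_eq_one_of_mem_commutator M φ ⟨z, hW₂M hz⟩ (hW₂der hz), mul_one]
  have hone := key 1 W₂.one_mem
  have e0 : (⟨1, Subgroup.mem_sup_right W₂.one_mem⟩ : ↥(W₁ ⊔ W₂)) = 1 := rfl
  rw [e0, map_one, Units.val_one, mul_one] at hone
  apply hψ1
  apply Cfsg.Agent.Lib.Helper25.hom_ext_sup W₁ W₂
  · intro w hw
    rw [hψ w hw, MonoidHom.one_apply]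
  · intro w hw
    have h2 := key (w : G) hw
    rw [← hone] at h2
    have h3 : ((ψ ⟨(w : G), Subgroup.mem_sup_right hw⟩ : ℂˣ) : ℂ) = 1 := by
      have := mul_left_cancel₀ hdl0 (h2.trans (mul_one _).symm)
      exact this
    rw [MonoidHom.one_apply]
    exact Units.ext h3

/-- MODULE [MU-DEG] -/
theorem mu_degree (hP : IsTypePWith M W₁ U W₂) (hodd : Odd (Nat.card M))
    (md : MuData M W₁ W₂ mu dl) (ψ : WChar W₁ W₂) (hψ : TrivOn W₁ ψ) (hψ1 : ψ ≠ 1) :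
    ∃ d : ℕ, mu ψ 1 = (d : ℂ) ∧ 2 * Nat.card W₁ - 1 ≤ d ∧
      ∃ n : ℤ, (d : ℂ) - dl ψ = n * (Nat.card W₁ : ℂ) := by
  let χ : IrrCharacter ↥M := ⟨mu ψ, md.irr ψ⟩
  have hd1 : mu ψ 1 = (charDegree (mu ψ) : ℂ) :=
    Cfsg.Agent.Lib.Helper79.irr_apply_one_eq_charDegree χ
  have hdpos : 0 < charDegree (mu ψ) := Cfsg.Agent.Lib.Helper79.irr_charDegree_pos χ
  have hddvd : charDegree (mu ψ) ∣ Nat.card ↥M :=
    Cfsg.Agent.Lib.Helper79.irr_charDegree_dvd_card χ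
  have hne1 := mu_apply_one_ne_one hP md ψ hψ hψ1
  set d := charDegree (mu ψ) with hd
  have hdne1 : d ≠ 1 := by
    intro h
    apply hne1
    rw [hd1, h, Nat.cast_one]
  have hdodd : Odd d := Odd.of_dvd_nat hodd hddvd
  have hW₁M : W₁ ≤ M := hP.W₁_compl.2.1
  have hqdvd : Nat.card W₁ ∣ Nat.card ↥M := Subgroup.card_dvd_of_le hW₁M
  have hqodd : Odd (Nat.card W₁) := Odd.of_dvd_nat hodd hqdvd
  obtain ⟨n, hn⟩ := md.deg ψ
  rw [hd1] at hn
  refine ⟨d, hd1, ?_, n, hn⟩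
  obtain ⟨a, ha⟩ := hdodd
  obtain ⟨b, hb⟩ := hqodd
  rcases md.sign ψ with h | h
  · rw [h] at hn
    have hn' : ((d : ℤ) : ℂ) - 1 = ((n * (Nat.card W₁ : ℤ) : ℤ) : ℂ) := by
      push_cast
      exact hn
    have hn'' : (d : ℤ) - 1 = n * (Nat.card W₁ : ℤ) := by
      exact_mod_cast hn'
    rw [hb] at hn'' ⊢
    rw [ha] at hn'' hdne1
    push_cast at hn''
    have hn0 : 0 < n := by
      by_contra hneg
      push Not at hneg
      have : n * (2 * (b : ℤ) + 1) ≤ 0 := mul_nonpos_of_nonpos_of_nonneg hneg (by positivity)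
      have ha0 : a ≠ 0 := by omega
      have : (1 : ℤ) ≤ a := by
        have := Nat.pos_of_ne_zero ha0
        exact_mod_cast this
      omega
    have hn1 : n ≠ 1 := by
      intro h1
      rw [h1] at hn''
      omega
    have hn2 : 2 ≤ n := by omega
    have : 2 * (2 * (b : ℤ) + 1) ≤ n * (2 * (b : ℤ) + 1) :=
      mul_le_mul_of_nonneg_right hn2 (by positivity)
    have hfin : (2 * (2 * (b : ℤ) + 1) - 1) ≤ 2 * (a : ℤ) + 1 := by omega
    omega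
  · rw [h] at hn
    have hn' : ((d : ℤ) : ℂ) + 1 = ((n * (Nat.card W₁ : ℤ) : ℤ) : ℂ) := by
      push_cast
      rw [← hn]
      ring
    have hn'' : (d : ℤ) + 1 = n * (Nat.card W₁ : ℤ) := by
      exact_mod_cast hn'
    rw [hb] at hn'' ⊢
    rw [ha] at hn''
    push_cast at hn''
    have hn0 : 0 < n := by
      by_contra hneg
      push Not at hneg
      have : n * (2 * (b : ℤ) + 1) ≤ 0 := mul_nonpos_of_nonpos_of_nonneg hneg (by positivity)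
      omega
    have hn1 : n ≠ 1 := by
      intro h1
      rw [h1] at hn''
      omega
    have hn2 : 2 ≤ n := by omega
    have : 2 * (2 * (b : ℤ) + 1) ≤ n * (2 * (b : ℤ) + 1) :=
      mul_le_mul_of_nonneg_right hn2 (by positivity)
    omega

end Cfsg.Agent.Lib.Helper22.PFCyc
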