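import Mathlib
import Cfsg.Agent.Lib.Helper24.PFCycDefs
import Cfsg.Agent.Lib.Helper4.PFTypes
import Cfsg.Agent.S1511

/-!
# PF sections 10-13 bookkeeping, module [MU] (helper22)

`exists_muData`: for `M` with type-P data and odd order, the characters `μ_ω` of S1511 exist,
indexed by the linear characters of `W = W₁ ⊔ W₂ ≤ G` (`MuData`).

Proof: apply `Cfsg.Agent.S1511.result` to `L = ↥M`, `K = ⁅M, M⁆.subgroupOf M`,
`W₁.subgroupOf M`, `W₂.subgroupOf M`, and transport the index set along the canonical map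
`↥(W₁.subgroupOf M ⊔ W₂.subgroupOf M) →* ↥(W₁ ⊔ W₂)`.
-/

set_option autoImplicit false

namespace Cfsg.Agent.Lib.Helper22.PFCyc

open Cfsg Cfsg.Agent.Lib.Helper4.PF Cfsg.Agent.Lib.Helper24.PFCyc
open scoped commutatorElement

universe u

/-- `indFun` along an equality of subgroups -/
theorem indFun_congr_subgroup {L : Type u} [Group L] [Fintype L] (H H' : Subgroup L) (h : H = H')
    (f : ↥H → ℂ) (f' : ↥H' → ℂ)
    (hf : ∀ (x : L) (hx : x ∈ H) (hx' : x ∈ H'), f ⟨x, hx⟩ = f' ⟨x, hx'⟩) :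
    indFun H f = indFun H' f' := by
  subst h
  have : f = f' := by
    funext x
    exact hf x.1 x.2 x.2
  rw [this]

variable {G : Type u} [Group G] {M W₁ U W₂ : Subgroup G}

/-- the canonical map from `W` seen inside `↥M` to `W` -/
def wMap (M W₁ W₂ : Subgroup G) (h₁ : W₁ ≤ M) (h₂ : W₂ ≤ M) :
    ↥(W₁.subgroupOf M ⊔ W₂.subgroupOf M) →* ↥(W₁ ⊔ W₂) where
  toFun w := ⟨((w : ↥M) : G), by
    have h2 : (w : ↥M) ∈ (W₁ ⊔ W₂).subgroupOf M := by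
      rw [Subgroup.subgroupOf_sup h₁ h₂]
      exact w.2
    exact Subgroup.mem_subgroupOf.mp h2⟩
  map_one' := rfl
  map_mul' _ _ := rfl

theorem wMap_coe (h₁ : W₁ ≤ M) (h₂ : W₂ ≤ M) (w : ↥(W₁.subgroupOf M ⊔ W₂.subgroupOf M)) :
    ((wMap M W₁ W₂ h₁ h₂ w : ↥(W₁ ⊔ W₂)) : G) = ((w : ↥M) : G) := rfl

theorem wMap_bijective (h₁ : W₁ ≤ M) (h₂ : W₂ ≤ M) :
    Function.Bijective (wMap M W₁ W₂ h₁ h₂) := by
  constructor
  · intro w w' h
    have h3 := congrArg Subtype.val h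
    have : ((w : ↥M) : G) = ((w' : ↥M) : G) := h3
    exact Subtype.ext (Subtype.ext this)
  · intro w
    have hwM : (w : G) ∈ M := (sup_le h₁ h₂) w.2
    have hw : (⟨(w : G), hwM⟩ : ↥M) ∈ W₁.subgroupOf M ⊔ W₂.subgroupOf M := by
      rw [← Subgroup.subgroupOf_sup h₁ h₂]
      exact Subgroup.mem_subgroupOf.mpr w.2
    exact ⟨⟨⟨(w : G), hwM⟩, hw⟩, Subtype.ext rfl⟩

/-- the canonical isomorphism from `W` seen inside `↥M` to `W` -/
noncomputable def wEquiv (M W₁ W₂ : Subgroup G) (h₁ : W₁ ≤ M) (h₂ : W₂ ≤ M) :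
    ↥(W₁.subgroupOf M ⊔ W₂.subgroupOf M) ≃* ↥(W₁ ⊔ W₂) :=
  MulEquiv.ofBijective (wMap M W₁ W₂ h₁ h₂) (wMap_bijective h₁ h₂)

theorem wEquiv_coe (h₁ : W₁ ≤ M) (h₂ : W₂ ≤ M) (w : ↥(W₁.subgroupOf M ⊔ W₂.subgroupOf M)) :
    ((wEquiv M W₁ W₂ h₁ h₂ w : ↥(W₁ ⊔ W₂)) : G) = ((w : ↥M) : G) := rfl

variable [Finite G] [Fintype M]

/-- MODULE [MU] -/
theorem exists_muData (hP : IsTypePWith M W₁ U W₂) (hodd : Odd (Nat.card M)) :
    ∃ (mu : WChar W₁ W₂ → (↥M → ℂ)) (dl : WChar W₁ W₂ → ℂ), MuData M W₁ W₂ mu dl := by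
  have hderM : ⁅M, M⁆ ≤ M := hP.W₁_compl.1
  have hW₁M : W₁ ≤ M := hP.W₁_compl.2.1
  have hW₂der : W₂ ≤ ⁅M, M⁆ := (hP.W₂_le.trans inf_le_left).trans hP.U_compl.1
  have hW₂M : W₂ ≤ M := hW₂der.trans hderM
  obtain ⟨_, hW₂ne, hinf, _, hWcyc, _⟩ := hP.selfNormalizing
  have hsup : (W₁ ⊔ W₂).subgroupOf M = W₁.subgroupOf M ⊔ W₂.subgroupOf M :=
    Subgroup.subgroupOf_sup hW₁M hW₂M
  -- normality of K
  haveI hKn : (⁅M, M⁆.subgroupOf M).Normal := by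
    constructor
    intro n hn g
    rw [Subgroup.mem_subgroupOf] at hn ⊢
    have h1 : ⁅(g : G), (n : G)⁆ ∈ ⁅M, M⁆ := Subgroup.commutator_mem_commutator g.2 n.2
    have h2 : ((g * n * g⁻¹ : ↥M) : G) = ⁅(g : G), (n : G)⁆ * n := by
      simp [commutatorElement_def]
    rw [h2]
    exact Subgroup.mul_mem _ h1 hn
  have hKW₁ : ⁅M, M⁆.subgroupOf M ⊓ W₁.subgroupOf M = ⊥ := by
    rw [eq_bot_iff]
    intro x hx
    rw [Subgroup.mem_inf, Subgroup.mem_subgroupOf, Subgroup.mem_subgroupOf] at hx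
    have : (x : G) ∈ ⁅M, M⁆ ⊓ W₁ := hx
    rw [hP.W₁_compl.2.2.1, Subgroup.mem_bot] at this
    rw [Subgroup.mem_bot]
    exact Subtype.ext this
  have hKW₁' : ⁅M, M⁆.subgroupOf M ⊔ W₁.subgroupOf M = ⊤ := by
    rw [eq_top_iff]
    intro x _
    obtain ⟨a, ha, b, hb, hab⟩ := hP.W₁_compl.2.2.2 (x : G) x.2
    have : x = (⟨a, hderM ha⟩ : ↥M) * ⟨b, hW₁M hb⟩ := Subtype.ext hab
    rw [this]
    exact Subgroup.mul_mem _ (Subgroup.mem_sup_left (Subgroup.mem_subgroupOf.mpr ha))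
      (Subgroup.mem_sup_right (Subgroup.mem_subgroupOf.mpr hb))
  have ne_bot_of : ∀ X : Subgroup G, X ≤ M → X ≠ ⊥ → X.subgroupOf M ≠ ⊥ := by
    intro X hXM hX h
    apply hX
    rw [eq_bot_iff]
    intro x hx
    have : (⟨x, hXM hx⟩ : ↥M) ∈ X.subgroupOf M := Subgroup.mem_subgroupOf.mpr hx
    rw [h, Subgroup.mem_bot] at this
    rw [Subgroup.mem_bot]
    exact congrArg Subtype.val this
  have hW₁c : IsCyclic ↥(W₁.subgroupOf M) := by
    haveI := hP.W₁_cyclic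
    exact isCyclic_of_surjective (Subgroup.subgroupOfEquivOfLe hW₁M).symm (MulEquiv.surjective _)
  have hW₂c : IsCyclic ↥(W₂.subgroupOf M) := by
    haveI : IsCyclic ↥(W₂.subgroupOf (W₁ ⊔ W₂)) := Subgroup.isCyclic _
    haveI : IsCyclic ↥W₂ :=
      isCyclic_of_surjective (Subgroup.subgroupOfEquivOfLe (le_sup_right : W₂ ≤ W₁ ⊔ W₂))
        (MulEquiv.surjective _)
    exact isCyclic_of_surjective (Subgroup.subgroupOfEquivOfLe hW₂M).symm (MulEquiv.surjective _)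
  have hcard : Nat.card ↥(W₁.subgroupOf M) = Nat.card ↥W₁ :=
    Nat.card_congr (Subgroup.subgroupOfEquivOfLe hW₁M).toEquiv
  have hHall : Nat.Coprime (Nat.card ↥(W₁.subgroupOf M)) (W₁.subgroupOf M).index := by
    rw [hcard]
    exact hP.W₁_hall
  have hW₂K : W₂.subgroupOf M ≤ ⁅M, M⁆.subgroupOf M := by
    intro x hx
    rw [Subgroup.mem_subgroupOf] at hx ⊢
    exact hW₂der hx
  have hC : ∀ x ∈ W₁.subgroupOf M, x ≠ 1 →
      ⁅M, M⁆.subgroupOf M ⊓ Subgroup.centralizer ({x} : Set ↥M) = W₂.subgroupOf M := by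
    intro x hx hx1
    have hx' : (x : G) ∈ W₁ := Subgroup.mem_subgroupOf.mp hx
    have hx1' : (x : G) ≠ 1 := fun h => hx1 (Subtype.ext h)
    have hc := hP.W₂_centralizer (x : G) hx' hx1'
    ext y
    rw [Subgroup.mem_inf, Subgroup.mem_subgroupOf, Subgroup.mem_subgroupOf,
      Subgroup.mem_centralizer_singleton_iff, ← hc, Subgroup.mem_inf,
      Subgroup.mem_centralizer_singleton_iff]
    constructor
    · rintro ⟨h1, h2⟩
      exact ⟨h1, congrArg Subtype.val h2⟩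
    · rintro ⟨h1, h2⟩
      exact ⟨h1, Subtype.ext h2⟩
  have hodd' : Odd (Nat.card ↥(W₁.subgroupOf M ⊔ W₂.subgroupOf M)) :=
    Odd.of_dvd_nat hodd (Subgroup.card_subgroup_dvd_card _)
  obtain ⟨μ', δ', hinj, hirr, hsign, hdiff, hval, hvan, hdeg⟩ :=
    Cfsg.Agent.S1511.result (⁅M, M⁆.subgroupOf M) (W₁.subgroupOf M) (W₂.subgroupOf M)
      hKW₁ hKW₁' (ne_bot_of W₁ hW₁M hP.W₁_ne) hW₁c hHall (ne_bot_of W₂ hW₂M hW₂ne) hW₂c hW₂K hC hodd'
  set e := wEquiv M W₁ W₂ hW₁M hW₂M with he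
  have hmemW : ∀ m : ↥M, (m : G) ∈ W₁ ⊔ W₂ → m ∈ W₁.subgroupOf M ⊔ W₂.subgroupOf M := by
    intro m hm
    rw [← hsup]
    exact Subgroup.mem_subgroupOf.mpr hm
  have hsurj : ∀ Ω : ↥(W₁.subgroupOf M ⊔ W₂.subgroupOf M) →* ℂˣ,
      ∃ ω : WChar W₁ W₂, ω.comp e.toMonoidHom = Ω := by
    intro Ω
    refine ⟨Ω.comp e.symm.toMonoidHom, ?_⟩
    ext w
    show ((Ω (e.symm (e w)) : ℂˣ) : ℂ) = Ω w
    rw [MulEquiv.symm_apply_apply]
  refine ⟨fun ω => μ' (ω.comp e.toMonoidHom), fun ω => δ' (ω.comp e.toMonoidHom), ?_⟩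
  refine ⟨?_, ?_, ?_, ?_, ?_, ?_, ?_, ?_⟩
  · intro ω ω' h
    have h' := hinj h
    ext w
    obtain ⟨w', rfl⟩ := e.surjective w
    exact congrArg Units.val (DFunLike.congr_fun h' w')
  · intro ω
    exact hirr _
  · intro ω
    exact hsign _
  · intro ω ω' h
    exact (hdiff _ _ (fun w hw => h (e w) (Subgroup.mem_subgroupOf.mp hw))).1
  · intro ω ω' h
    have h2 := (hdiff (ω.comp e.toMonoidHom) (ω'.comp e.toMonoidHom)
      (fun w hw => h (e w) (Subgroup.mem_subgroupOf.mp hw))).2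
    show _ = δ' (ω.comp e.toMonoidHom) • (μ' (ω.comp e.toMonoidHom) - μ' (ω'.comp e.toMonoidHom))
    rw [← h2]
    apply indFun_congr_subgroup _ _ hsup
    intro x hx hx'
    rfl
  · intro ω m hm hm2
    exact hval (ω.comp e.toMonoidHom) ⟨m, hmemW m hm⟩ (fun h => hm2 (Subgroup.mem_subgroupOf.mp h))
  · intro θ hθ hne m hm hm2
    refine hvan θ hθ ?_ ⟨m, hmemW m hm⟩ (fun h => hm2 (Subgroup.mem_subgroupOf.mp h))
    intro Ω
    obtain ⟨ω, rfl⟩ := hsurj Ω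
    exact hne ω
  · intro ω
    obtain ⟨n, hn⟩ := hdeg (ω.comp e.toMonoidHom)
    refine ⟨n, ?_⟩
    rw [← hcard]
    exact hn

end Cfsg.Agent.Lib.Helper22.PFCyc
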