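import Mathlib
import Cfsg.Prelude.Def_Solvable
import Cfsg.Prelude.Def_Amalgam
import Cfsg.Prelude.Def_Involutions
import Cfsg.Prelude.Def_Local

/-!
# S1936: definitions shared by the modules of the sheet `notes/helper22_S1936_sheet.md`
-/

set_option autoImplicit false
universe u

namespace Cfsg.Agent.Lib.Helper22.S1936

variable {G : Type u} [Group G]

/-- The hypothesis of S1936: every `p'`-subgroup is commutative of exponent dividing `p - 1`. -/
def HP (p : ℕ) (G : Type u) [Group G] : Prop :=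
  ∀ H : Subgroup G, (Nat.card ↥H).Coprime p → IsMulCommutative ↥H ∧ ∀ x ∈ H, x ^ (p - 1) = 1

/-- `HP` passes to subgroups (as groups). -/
theorem HP.subgroup {p : ℕ} (h : HP p G) (L : Subgroup G) : HP p ↥L := by
  intro H hH
  have hcard : Nat.card ↥(H.map L.subtype) = Nat.card ↥H :=
    Nat.card_congr (Subgroup.equivMapOfInjective H L.subtype L.subtype_injective).symm.toEquiv
  obtain ⟨hc, he⟩ := h (H.map L.subtype) (by rw [hcard]; exact hH)
  refine ⟨⟨⟨fun a b => ?_⟩⟩, fun x hx => ?_⟩
  · have ha : (a : L).1 ∈ H.map L.subtype := ⟨a.1, a.2, rfl⟩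
    have hb : (b : L).1 ∈ H.map L.subtype := ⟨b.1, b.2, rfl⟩
    have := hc.is_comm.comm ⟨_, ha⟩ ⟨_, hb⟩
    have h2 : (a : L).1 * (b : L).1 = (b : L).1 * (a : L).1 := congrArg Subtype.val this
    exact Subtype.ext (Subtype.ext h2)
  · have := he x.1 ⟨x, hx, rfl⟩
    exact Subtype.ext (by simpa using this)

/-- `θ(g) = O_p(C_G(g))` as a subgroup of `G`. -/
def theta (p : ℕ) (g : G) : Subgroup G :=
  Cfsg.pCoreOf p (Subgroup.centralizer ({g} : Set G))

/-- `Ω₁(T)`: the subgroup generated by the elements of `T` of order dividing `2`. -/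
def omega1 (T : Subgroup G) : Subgroup G :=
  Subgroup.closure {t : G | t ∈ T ∧ t ^ 2 = 1}

theorem omega1_le (T : Subgroup G) : omega1 T ≤ T :=
  (Subgroup.closure_le T).2 fun _ ht => ht.1

theorem mem_omega1 (T : Subgroup G) (hT : ∀ x ∈ T, ∀ y ∈ T, x * y = y * x) {t : G} :
    t ∈ omega1 T ↔ t ∈ T ∧ t ^ 2 = 1 := by
  constructor
  · intro ht
    refine ⟨omega1_le T ht, ?_⟩
    induction ht using Subgroup.closure_induction with
    | mem x hx => exact hx.2
    | one => simp
    | mul x y hx hy hx2 hy2 =>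
      have hxT := omega1_le T hx
      have hyT := omega1_le T hy
      have hc : Commute x y := hT x hxT y hyT
      rw [hc.mul_pow, hx2, hy2, one_mul]
    | inv x hx hx2 => rw [inv_pow, hx2, inv_one]
  · intro ht
    exact Subgroup.subset_closure ht

/-- The conjugate `M^g = g M g⁻¹`. -/
abbrev conjSub (M : Subgroup G) (g : G) : Subgroup G := M.map (MulAut.conj g).toMonoidHom

/-- Two elements are *apart* w.r.t. `M` if no conjugate of `M` contains both. -/
def Apart (M : Subgroup G) (a u : G) : Prop := ∀ g : G, ¬ (a ∈ conjSub M g ∧ u ∈ conjSub M g)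

/-- An SE-datum (sheet §D): `T` elementary abelian Sylow 2-subgroup of order `≥ 8`, `M` strongly embedded,
`N_G(T) ≤ M`, and `C_G(a) ≤ M` for every `a ∈ T#`. -/
structure SEDatum (T : Sylow 2 G) (M : Subgroup G) : Prop where
  elem : ∀ t ∈ (T : Subgroup G), t ^ 2 = 1
  card8 : 8 ≤ Nat.card (T : Subgroup G)
  se : Cfsg.IsStronglyEmbedded M
  normT : Subgroup.normalizer ((T : Subgroup G) : Set G) ≤ M
  cent : ∀ a ∈ (T : Subgroup G), a ≠ 1 → Subgroup.centralizer ({a} : Set G) ≤ M

/-- The minimal-counterexample package (sheet §0). -/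
structure MinCE (p : ℕ) (G : Type u) [Group G] : Prop where
  hp5 : 5 ≤ p
  simple : IsSimpleGroup G
  nonsolv : ¬ Group.IsSolvable G
  even : Even (Nat.card G)
  hp : HP p G
  proper : ∀ L : Subgroup G, L ≠ ⊤ → Group.IsSolvable ↥L

end Cfsg.Agent.Lib.Helper22.S1936
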