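/-
helper22, project GOLD (S1329, Goldschmidt's generation lemma for fixed points of abelian
2-groups on groups of odd order): common definitions.
All declarations live in `Cfsg.Agent.Lib.Helper22.Gold`.
-/
import Mathlib

set_option autoImplicit false

namespace Cfsg.Agent.Lib.Helper22.Gold

open Subgroup

variable {G : Type*} [Group G]

/-- `K ≤ A` and `A = K⟨a⟩` for some `a ∈ A`: the quotient-free form of "`A / K` is cyclic". -/
def CycQuot (A K : Subgroup G) : Prop := K ≤ A ∧ ∃ a ∈ A, A ≤ K ⊔ zpowers a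

/-- The piece `C_{[C_Y(K), A]}(A)`. -/
def piece (Y A K : Subgroup G) : Subgroup G :=
  ⁅Y ⊓ centralizer (K : Set G), A⁆ ⊓ centralizer (A : Set G)

/-- The subgroup generated by the pieces `C_{[C_Y(K), A]}(A)`, `A / K` cyclic. -/
def RR (Y A : Subgroup G) : Subgroup G :=
  ⨆ K : {K : Subgroup G // CycQuot A K}, piece Y A K

/-- Standing hypotheses: `A` is an abelian 2-subgroup normalizing the odd-order subgroup `Y`. -/
structure Hyp (A Y : Subgroup G) : Prop where
  two : IsPGroup 2 A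
  comm : ∀ a ∈ A, ∀ b ∈ A, a * b = b * a
  odd : Odd (Nat.card Y)
  norm : A ≤ normalizer (Y : Set G)

theorem piece_le_RR {Y A K : Subgroup G} (hK : CycQuot A K) : piece Y A K ≤ RR Y A :=
  le_iSup (fun K : {K : Subgroup G // CycQuot A K} => piece Y A K) ⟨K, hK⟩

theorem piece_mono {Y₁ Y₂ A K : Subgroup G} (h : Y₁ ≤ Y₂) : piece Y₁ A K ≤ piece Y₂ A K :=
  inf_le_inf_right _ (commutator_mono (inf_le_inf_right _ h) le_rfl)

theorem RR_mono {Y₁ Y₂ A : Subgroup G} (h : Y₁ ≤ Y₂) : RR Y₁ A ≤ RR Y₂ A :=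
  iSup_mono fun _ => piece_mono h

theorem RR_le_centralizer (Y A : Subgroup G) : RR Y A ≤ centralizer (A : Set G) :=
  iSup_le fun _ => inf_le_right

theorem cycQuot_self (A : Subgroup G) : CycQuot A A :=
  ⟨le_rfl, 1, one_mem _, le_sup_left⟩

end Cfsg.Agent.Lib.Helper22.Gold
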