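/-
helper22, project GOLD (S1329): module [PAR-A], basic facts on a 2-group `A` normalizing an
odd-order subgroup `Y` (fixed points lift, `Y = C_Y(A)[Y,A]`, `[Y,A,A] = [Y,A]`).
All declarations live in `Cfsg.Agent.Lib.Helper22.Gold`.
-/
import Mathlib
import Cfsg.Agent.Lib.Helper22.GoldDefs
import Cfsg.Agent.Lib.Helper22.Coprime

set_option autoImplicit false
set_option linter.style.haveILetI false

namespace Cfsg.Agent.Lib.Helper22.Gold

open Subgroup
open scoped commutatorElement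

variable {G : Type*} [Group G]

theorem Hyp.of_le {A Y X : Subgroup G} (h : Hyp A Y) (hX : X ≤ Y)
    (hAX : A ≤ normalizer (X : Set G)) : Hyp A X where
  two := h.two
  comm := h.comm
  odd := by
    have hdvd : Nat.card X ∣ Nat.card Y := Subgroup.card_dvd_of_le hX
    obtain ⟨k, hk⟩ := hdvd
    have := h.odd
    rw [hk] at this
    exact (Nat.odd_mul.mp this).1
  norm := hAX

theorem Hyp.of_le_left {A B Y : Subgroup G} (h : Hyp A Y) (hB : B ≤ A) : Hyp B Y where
  two := h.two.to_le hB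
  comm := fun a ha b hb => h.comm a (hB ha) b (hB hb)
  odd := h.odd
  norm := hB.trans h.norm

theorem conj_mem_of_mem_normalizer {Y : Subgroup G} {a y : G}
    (ha : a ∈ normalizer (Y : Set G)) (hy : y ∈ Y) : a * y * a⁻¹ ∈ Y :=
  (mem_normalizer_iff.mp ha y).mp hy

theorem conj_inv_mem_of_mem_normalizer {Y : Subgroup G} {a y : G}
    (ha : a ∈ normalizer (Y : Set G)) (hy : y ∈ Y) : a⁻¹ * y * a ∈ Y := by
  have := conj_mem_of_mem_normalizer (inv_mem ha) hy
  simpa using this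

/-- `[Y, A] ≤ Y` when `A` normalizes `Y`. -/
theorem comm_le {A Y : Subgroup G} (hn : A ≤ normalizer (Y : Set G)) : ⁅Y, A⁆ ≤ Y := by
  rw [commutator_le]
  intro y hy a ha
  rw [commutatorElement_def]
  have h1 : a * y⁻¹ * a⁻¹ ∈ Y := conj_mem_of_mem_normalizer (hn ha) (inv_mem hy)
  have e : y * a * y⁻¹ * a⁻¹ = y * (a * y⁻¹ * a⁻¹) := by group
  rw [e]
  exact mul_mem hy h1

/-- conjugating a commutator subgroup by an element normalizing both factors -/
theorem mem_normalizer_commutator {H K : Subgroup G} {g : G} (hH : g ∈ normalizer (H : Set G))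
    (hK : g ∈ normalizer (K : Set G)) : g ∈ normalizer ((⁅H, K⁆ : Subgroup G) : Set G) := by
  have key : ∀ g : G, g ∈ normalizer (H : Set G) → g ∈ normalizer (K : Set G) →
      ∀ x ∈ ⁅H, K⁆, g * x * g⁻¹ ∈ ⁅H, K⁆ := by
    intro g hH hK x hx
    have hmap : (⁅H, K⁆).map (MulAut.conj g).toMonoidHom ≤ ⁅H, K⁆ := by
      rw [map_commutator]
      apply commutator_mono
      · rintro _ ⟨y, hy, rfl⟩
        exact conj_mem_of_mem_normalizer hH hy
      · rintro _ ⟨y, hy, rfl⟩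
        exact conj_mem_of_mem_normalizer hK hy
    exact hmap ⟨x, hx, rfl⟩
  rw [mem_normalizer_iff]
  intro x
  constructor
  · exact key g hH hK x
  · intro hx
    have := key g⁻¹ (inv_mem hH) (inv_mem hK) _ hx
    have e : g⁻¹ * (g * x * g⁻¹) * g⁻¹⁻¹ = x := by group
    rwa [e] at this

theorem comm_normalized {A Y : Subgroup G} (hn : A ≤ normalizer (Y : Set G)) :
    Y ≤ normalizer ((⁅Y, A⁆ : Subgroup G) : Set G) ∧
      A ≤ normalizer ((⁅Y, A⁆ : Subgroup G) : Set G) := by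
  constructor
  · -- `[y,a]^x = [yx, a] [x,a]⁻¹`-type identity
    have key : ∀ x ∈ Y, ∀ w ∈ ⁅Y, A⁆, x * w * x⁻¹ ∈ ⁅Y, A⁆ := by
      intro x hx w hw
      have hle : (⁅Y, A⁆).map (MulAut.conj x).toMonoidHom ≤ ⁅Y, A⁆ := by
        rw [Subgroup.commutator_def, MonoidHom.map_closure, closure_le]
        rintro _ ⟨_, ⟨y, hy, a, ha, rfl⟩, rfl⟩
        show x * ⁅y, a⁆ * x⁻¹ ∈ ⁅Y, A⁆
        have e : x * ⁅y, a⁆ * x⁻¹ = ⁅x * y, a⁆ * ⁅x, a⁆⁻¹ := by
          simp only [commutatorElement_def]; group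
        rw [e]
        exact mul_mem (commutator_mem_commutator (mul_mem hx hy) ha)
          (inv_mem (commutator_mem_commutator hx ha))
      exact hle ⟨w, hw, rfl⟩
    intro x hx
    rw [mem_normalizer_iff]
    intro w
    constructor
    · exact key x hx w
    · intro hw
      have := key x⁻¹ (inv_mem hx) _ hw
      have e : x⁻¹ * (x * w * x⁻¹) * x⁻¹⁻¹ = w := by group
      rwa [e] at this
  · intro a ha
    exact mem_normalizer_commutator (hn ha) (le_normalizer ha)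

theorem odd_card_of_le {A Y N : Subgroup G} (h : Hyp A Y) (hN : N ≤ Y) : Odd (Nat.card N) := by
  obtain ⟨k, hk⟩ := Subgroup.card_dvd_of_le hN
  have := h.odd
  rw [hk] at this
  exact (Nat.odd_mul.mp this).1

/-- Fixed points lift: if the coset `y N` is `B`-invariant (`B ≤ A`, `N ≤ Y` a `B`-invariant
subgroup), then it contains an element centralized by `B`. -/
theorem fix_lift [Finite G] {A Y N B : Subgroup G} (h : Hyp A Y) (hB : B ≤ A) (hN : N ≤ Y)
    (hBN : B ≤ normalizer (N : Set G)) {y : G}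
    (hinv : ∀ b ∈ B, y⁻¹ * (b * y * b⁻¹) ∈ N) : ∃ n ∈ N, y * n ∈ centralizer (B : Set G) := by
  haveI : Fact (Nat.Prime 2) := ⟨Nat.prime_two⟩
  have hNodd : (Nat.card N).Coprime 2 :=
    Nat.coprime_comm.mp (Nat.coprime_two_left.mpr (odd_card_of_le h hN))
  obtain ⟨m, hm, hfix⟩ := Cfsg.Agent.Lib.Helper22.exists_centralized_mem_coset B N
    (h.two.to_le hB) hNodd y (by
      intro g hg m hm
      have e : y⁻¹ * (g * (y * m) * g⁻¹) = (y⁻¹ * (g * y * g⁻¹)) * (g * m * g⁻¹) := by group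
      rw [e]
      exact mul_mem (hinv g hg) (conj_mem_of_mem_normalizer (hBN hg) hm))
  refine ⟨m, hm, ?_⟩
  rw [mem_centralizer_iff]
  intro g hg
  exact hfix g hg

/-- `Y = C_Y(A) [Y, A]`, elementwise. -/
theorem dec [Finite G] {A Y : Subgroup G} (h : Hyp A Y) :
    ∀ y ∈ Y, ∃ c ∈ Y ⊓ centralizer (A : Set G), ∃ d ∈ ⁅Y, A⁆, y = c * d := by
  intro y hy
  have hN : ⁅Y, A⁆ ≤ Y := comm_le h.norm
  obtain ⟨n, hn, hfix⟩ := fix_lift (B := A) h le_rfl hN (comm_normalized h.norm).2 (y := y) (by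
    intro b hb
    -- y⁻¹ * (b y b⁻¹) = ⁅y⁻¹, b⁆
    have e : y⁻¹ * (b * y * b⁻¹) = ⁅y⁻¹, b⁆ := by
      rw [commutatorElement_def]; group
    rw [e]
    exact commutator_mem_commutator (inv_mem hy) hb)
  refine ⟨y * n, ⟨mul_mem hy (hN hn), hfix⟩, n⁻¹, inv_mem hn, ?_⟩
  group

/-- `[[Y, A], A] = [Y, A]`. -/
theorem comm_comm [Finite G] {A Y : Subgroup G} (h : Hyp A Y) : ⁅⁅Y, A⁆, A⁆ = ⁅Y, A⁆ := by
  apply le_antisymm
  · exact commutator_mono (comm_le h.norm) le_rfl
  · rw [commutator_le]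
    intro y hy a ha
    obtain ⟨c, hc, d, hd, rfl⟩ := dec h y hy
    have hca : a * c = c * a := (mem_centralizer_iff.mp hc.2 a ha)
    have hca' : c⁻¹ * a⁻¹ = a⁻¹ * c⁻¹ := by
      rw [← mul_inv_rev, ← mul_inv_rev, hca]
    have e : ⁅c * d, a⁆ = c * ⁅d, a⁆ * c⁻¹ := by
      simp only [commutatorElement_def]
      calc c * d * a * (c * d)⁻¹ * a⁻¹ = c * d * a * d⁻¹ * (c⁻¹ * a⁻¹) := by group
        _ = c * d * a * d⁻¹ * (a⁻¹ * c⁻¹) := by rw [hca']
        _ = c * (d * a * d⁻¹ * a⁻¹) * c⁻¹ := by group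
    rw [e]
    have hcn : c ∈ normalizer ((⁅⁅Y, A⁆, A⁆ : Subgroup G) : Set G) := by
      apply mem_normalizer_commutator ((comm_normalized h.norm).1 hc.1)
      exact (centralizer_le_normalizer (A : Set G)) hc.2
    exact conj_mem_of_mem_normalizer hcn (commutator_mem_commutator hd ha)

end Cfsg.Agent.Lib.Helper22.Gold
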