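import Mathlib
import Cfsg.Agent.Lib.Helper54.BGElevenA
import Cfsg.Agent.Lib.Helper54.BGFourteenDefs
import Cfsg.Agent.Lib.Helper97.BGTwelveCor

/-!
# Bender–Glauberman Theorem 14.4 (a)–(f), conditional form (helper22)

For a maximal subgroup `M` of a minimal simple group of odd order and `x ∈ M_σ − 1` with
`C_G(x) ⊄ M`, the theorem `core` produces the maximal subgroup `N` of Theorem 14.4: `N` is the only
maximal subgroup containing `C_G(x)`, `N` is not conjugate to `M`, `N_σ` is nilpotent and meets `M`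
trivially, `N = (M ∩ N) N_σ`, and `x` is a `τ₂(N)`-element.

Inputs (as hypotheses): the Uniqueness Theorem, the literal statements of `S1409`, `S1416` (first
clause), `S1417`, `S1424`, `S1432` (B&G 14.3) and B&G Theorem 13.9 (`SigmaDisjoint`).
-/

set_option autoImplicit false
set_option linter.style.haveILetI false
set_option linter.unusedVariables false

namespace Cfsg.Agent.Lib.Helper22.BGFourteenFour

open scoped Pointwise
open Cfsg
open Cfsg.Agent.Lib.Helper34 (UniquenessThm)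
open Cfsg.Agent.Lib.Helper54

universe u

variable (G : Type u) [Group G]

/-- The frozen statement of S1409 for the group `G`. -/
def Stmt1409 : Prop :=
  ∀ (M : Subgroup G), IsCoatom M → ∀ (p : ℕ) [Fact p.Prime], p ∉ sigma M →
    ∀ X : Subgroup G, Nat.card X = p → Subgroup.normalizer (X : Set G) ≤ M →
      (PRankLE p 2 M ∧ ¬ PRankLE p 1 M) ∧ ¬ IsIdealPrime p G ∧
        ∃ A : Subgroup G, IsElementaryAbelian p A ∧ Nat.card A = p ^ 2 ∧ X ≤ A

/-- The first clause of the frozen statement of S1416 for the group `G`. -/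
def Stmt1416 : Prop :=
  ∀ (M : Subgroup G), IsCoatom M → ∀ (p : ℕ) [Fact p.Prime] (A : Subgroup G),
    (A ≤ M ∧ IsElementaryAbelian p A ∧ Nat.card A = p ^ 2) →
      Subgroup.centralizer (A : Set G) ≤ M

/-- The frozen statement of S1417 for the group `G`. -/
def Stmt1417 : Prop :=
  ∀ (M : Subgroup G), IsCoatom M → ∀ (p : ℕ) [Fact p.Prime], p ∈ tau2 M → ∀ A : Subgroup G,
    (A ≤ M ∧ IsElementaryAbelian p A ∧ Nat.card A = p ^ 2) →
    Group.IsNilpotent (sigmaCore M) ∧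
      (∀ P : Sylow p M, IsMulCommutative (P : Subgroup M) ∧
        (A ≤ (P : Subgroup M).map M.subtype →
          (∀ x ∈ (P : Subgroup M).map M.subtype, x ^ p = 1 ↔ x ∈ A) ∧
          ¬ Subgroup.normalizer ((((P : Subgroup M).map M.subtype : Subgroup G)) : Set G) ≤ M)) ∧
      M ≤ Subgroup.normalizer ((sigmaCore M ⊔ A : Subgroup G) : Set G) ∧
      sigmaCore M ⊓ Subgroup.centralizer (A : Set G) = ⊥ ∧
      (∀ Mstar : Subgroup G, IsCoatom Mstar → Mstar ≠ M → A ≤ Mstar → sigmaCore M ⊓ Mstar = ⊥) ∧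
      ∃ A₁ : Subgroup G, A₁ ≤ A ∧ Nat.card A₁ = p ∧
        sigmaCore M ⊓ Subgroup.centralizer (A₁ : Set G) = ⊥

/-- The frozen statement of S1424 for the group `G`. -/
def Stmt1424 : Prop :=
  ∀ (M : Subgroup G), IsCoatom M → ∀ (q : ℕ) [Fact q.Prime], q ∈ sigma M →
    ∀ X : Subgroup G, IsPGroup q X → X ≠ ⊥ → X ≤ M →
    ∀ Mstar : Subgroup G, IsCoatom Mstar → Mstar ≠ M → Subgroup.normalizer (X : Set G) ≤ Mstar →
    ∀ S : Sylow q ↥(M ⊓ Mstar), X ≤ (S : Subgroup ↥(M ⊓ Mstar)).map (M ⊓ Mstar).subtype →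
    (∀ g : G, Mstar ≠ M.map (MulAut.conj g).toMonoidHom) ∧
      Subgroup.normalizer
        (((S : Subgroup ↥(M ⊓ Mstar)).map (M ⊓ Mstar).subtype : Subgroup G) : Set G) ≤ M ∧
      ¬ q ∣ ((S : Subgroup ↥(M ⊓ Mstar)).map (M ⊓ Mstar).subtype).relIndex Mstar

/-- The frozen statement of S1432 (B&G Lemma 14.3) for the group `G`. -/
def Stmt1432 : Prop :=
  ∀ (M : Subgroup G), IsCoatom M → ∀ x : G, x ∈ sigmaCore M → x ≠ 1 →
    ∀ x' : G, x' ∈ M ⊓ Subgroup.centralizer ({x} : Set G) → x' ≠ 1 →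
    (∀ p : ℕ, p.Prime → p ∣ orderOf x' → p ∉ sigma M) →
    ((∀ p : ℕ, p.Prime → p ∣ orderOf x' → p ∈ kappa M) ∧
        Subgroup.centralizer ({x} : Set G) ≤ M) ∨
      ((∀ p : ℕ, p.Prime → p ∣ orderOf x' → p ∈ tau2 M) ∧
        (∃ L : Subgroup G, IsCoatom L ∧ ∀ p : ℕ, p.Prime → p ∣ orderOf x' → p ∈ sigma L) ∧
        (Subgroup.centralizer ({x'} : Set G) ≤ M ∧
          ∀ L : Subgroup G, IsCoatom L → Subgroup.centralizer ({x'} : Set G) ≤ L → L = M))

variable {G}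

/-! ### Small general lemmas -/

/-- `M.map (conj g)` is the pointwise conjugate. -/
theorem map_conj_eq_smul (g : G) (M : Subgroup G) :
    M.map (MulAut.conj g).toMonoidHom = MulAut.conj g • M := rfl

theorem mem_map_conj_iff {g x : G} {A : Subgroup G} :
    x ∈ A.map (MulAut.conj g).toMonoidHom ↔ g⁻¹ * x * g ∈ A := by
  rw [map_conj_eq_smul]; exact mem_conj_smul_iff

/-- Sylow's theorem inside a subgroup `N`: a `p`-subgroup `B` of `N` is `N`-conjugate into a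
`p`-subgroup `P` of `N` of index prime to `p`. -/
theorem exists_conj_le_of_not_dvd_relIndex [Finite G] {p : ℕ} [Fact p.Prime] {N P B : Subgroup G}
    (hPN : P ≤ N) (hPp : IsPGroup p P) (hidx : ¬ p ∣ P.relIndex N) (hBN : B ≤ N)
    (hBp : IsPGroup p B) : ∃ n ∈ N, MulAut.conj n • B ≤ P := by
  have hP' : IsPGroup p (P.subgroupOf N) := hPp.comap_subtype
  let P₀ : Sylow p N := hP'.toSylow hidx
  obtain ⟨Q₀, hQ₀⟩ := (hBp.comap_subtype (K := N)).exists_le_sylow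
  obtain ⟨k, hk⟩ := MulAction.exists_smul_eq N Q₀ P₀
  refine ⟨(k : G), k.2, ?_⟩
  intro y hy
  rw [mem_conj_smul_iff] at hy
  have hyN : (k : G)⁻¹ * y * k ∈ N := hBN hy
  have h1 : (⟨(k : G)⁻¹ * y * k, hyN⟩ : N) ∈ (Q₀ : Subgroup N) :=
    hQ₀ (Subgroup.mem_subgroupOf.mpr hy)
  have h2 : k * (⟨(k : G)⁻¹ * y * k, hyN⟩ : N) * k⁻¹ ∈ ((k • Q₀ : Sylow p N) : Subgroup N) := by
    rw [Sylow.coe_subgroup_smul]
    exact conj_mem_conj_smul h1
  rw [hk] at h2
  have h3 : k * (⟨(k : G)⁻¹ * y * k, hyN⟩ : N) * k⁻¹ ∈ P.subgroupOf N := h2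
  rw [Subgroup.mem_subgroupOf] at h3
  have h4 : ((k * (⟨(k : G)⁻¹ * y * k, hyN⟩ : N) * k⁻¹ : N) : G) = y := by
    simp only [Subgroup.coe_mul, Subgroup.coe_inv]
    group
  rwa [h4] at h3

/-- `C_G(x) ≤ C_G(⟨x ^ k⟩)`. -/
theorem centralizer_le_centralizer_zpowers_pow (x : G) (k : ℕ) :
    Subgroup.centralizer ({x} : Set G) ≤
      Subgroup.centralizer ((Subgroup.zpowers (x ^ k) : Subgroup G) : Set G) := by
  intro g hg
  rw [Subgroup.mem_centralizer_iff] at hg ⊢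
  intro y hy
  obtain ⟨n, rfl⟩ := Subgroup.mem_zpowers_iff.mp hy
  have h1 : Commute x g := hg x (Set.mem_singleton x)
  exact ((h1.pow_left k).zpow_left n).eq

/-- A cyclic group of exponent `p` has order at most `p`. -/
theorem card_le_of_isCyclic_of_exp {p : ℕ} (hp : p.Prime) (A : Subgroup G) (hc : IsCyclic A)
    (he : ∀ a ∈ A, a ^ p = 1) : Nat.card A ≤ p := by
  obtain ⟨g, hg⟩ := hc.exists_generator
  have h1 : Nat.card A = orderOf g := by
    rw [← Nat.card_zpowers g]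
    exact Nat.card_congr (Equiv.subtypeUnivEquiv (fun a => hg a)).symm
  have h2 : g ^ p = 1 := Subtype.ext (by simpa using he g g.2)
  rw [h1]
  exact Nat.le_of_dvd hp.pos (orderOf_dvd_of_pow_eq_one h2)

/-- Frattini argument for `D A ⊴ N` with `A` a `p`-group and `p ∤ |D|`: `N = N_N(A) D`. -/
theorem frattini_factor [Finite G] {p : ℕ} [Fact p.Prime] {N D A : Subgroup G}
    (hDN : D ≤ N) (hAN : A ≤ N) (hND : N ≤ Subgroup.normalizer (D : Set G))
    (hNK : N ≤ Subgroup.normalizer ((D ⊔ A : Subgroup G) : Set G)) (hAp : IsPGroup p A)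
    (hD : ¬ p ∣ Nat.card D) :
    ∀ n ∈ N, ∃ e ∈ N ⊓ Subgroup.normalizer (A : Set G), ∃ s ∈ D, n = e * s := by
  have hp : p.Prime := Fact.out
  obtain ⟨k, hk⟩ := IsPGroup.iff_card.mp hAp
  have hcop : (Nat.card A).Coprime (Nat.card D) := by
    rw [hk]
    exact ((Nat.Prime.coprime_iff_not_dvd hp).mpr hD).pow_left k
  have hAD : A ≤ Subgroup.normalizer (D : Set G) := hAN.trans hND
  have hdisj : D ⊓ A = ⊥ := (Subgroup.disjoint_of_coprime_natCard hcop.symm).eq_bot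
  have hcardK : Nat.card (D ⊔ A : Subgroup G) = Nat.card D * Nat.card A :=
    card_sup_of_le_normalizer hAD hdisj
  have hD0 : Nat.card D ≠ 0 := Nat.card_pos.ne'
  have hfac : (Nat.card (D ⊔ A : Subgroup G)).factorization p = k := by
    rw [hcardK, hk, Nat.factorization_mul hD0 (pow_ne_zero _ hp.ne_zero)]
    simp [Nat.factorization_eq_zero_of_not_dvd hD, hp.factorization_pow]
  obtain ⟨P₀, hP₀⟩ := exists_sylow_of_card (p := p) (D ⊔ A) A le_sup_right (by rw [hfac, hk])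
  intro n hn
  obtain ⟨c, hc, hcn⟩ := frattini_rel (D ⊔ A) P₀ n (hNK hn)
  rw [hP₀] at hcn
  have hc' : c ∈ ((D ⊔ A : Subgroup G) : Set G) := hc
  rw [Subgroup.coe_mul_of_right_le_normalizer_left D A hAD] at hc'
  obtain ⟨d, hd, a, ha, rfl⟩ := Set.mem_mul.mp hc'
  have hdaN : d * a ∈ N := N.mul_mem (hDN hd) (hAN ha)
  have he : a * ((d * a)⁻¹ * n) ∈ N ⊓ Subgroup.normalizer (A : Set G) :=
    ⟨N.mul_mem (hAN ha) (N.mul_mem (N.inv_mem hdaN) hn),
      Subgroup.mul_mem _ (Subgroup.le_normalizer ha) hcn⟩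
  refine ⟨a * ((d * a)⁻¹ * n), he, (a * ((d * a)⁻¹ * n))⁻¹ * d * (a * ((d * a)⁻¹ * n)), ?_, ?_⟩
  · have h1 := (Subgroup.mem_normalizer_iff''.mp (hND he.1) d).mp hd
    exact h1
  · group

/-- An elementary abelian group of order `p ^ 2` is not cyclic. -/
theorem not_isCyclic_of_elemAb_sq {p : ℕ} (hp : p.Prime) {A : Subgroup G}
    (hAe : IsElementaryAbelian p A) (hAc : Nat.card A = p ^ 2) : ¬ IsCyclic A := by
  intro hc
  have h1 := card_le_of_isCyclic_of_exp hp A hc hAe.2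
  rw [hAc] at h1
  have h2 : p * 2 ≤ p * p := Nat.mul_le_mul_left p hp.two_le
  have h3 : 0 < p := hp.pos
  nlinarith

/-- A conjugate of an elementary abelian subgroup is elementary abelian. -/
theorem isElementaryAbelian_conj_smul {p : ℕ} (n : G) {A : Subgroup G}
    (h : IsElementaryAbelian p A) : IsElementaryAbelian p (MulAut.conj n • A) := by
  refine ⟨⟨⟨?_⟩⟩, ?_⟩
  · rintro ⟨a, ha⟩ ⟨b, hb⟩
    rw [mem_conj_smul_iff] at ha hb
    have h1 := h.1.is_comm.comm ⟨_, ha⟩ ⟨_, hb⟩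
    have h2 : (n⁻¹ * a * n) * (n⁻¹ * b * n) = (n⁻¹ * b * n) * (n⁻¹ * a * n) :=
      congrArg Subtype.val h1
    apply Subtype.ext
    show a * b = b * a
    have e1 : a * b = n * ((n⁻¹ * a * n) * (n⁻¹ * b * n)) * n⁻¹ := by group
    rw [e1, h2]; group
  · intro a ha
    rw [mem_conj_smul_iff] at ha
    have h1 := h.2 _ ha
    have hac : a = n * (n⁻¹ * a * n) * n⁻¹ := by group
    rw [hac, conj_pow, h1]; group

/-- If every Sylow `p`-subgroup is cyclic then the `p`-rank is at most one. -/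
theorem pRankLE_one_of_sylow_isCyclic {H : Type*} [Group H] [Finite H] {p : ℕ} [Fact p.Prime]
    (h : ∀ P : Sylow p H, IsCyclic P) : PRankLE p 1 H := by
  have hp : p.Prime := Fact.out
  intro B _ hBe
  have hBp : IsPGroup p B := fun b => ⟨1, by
    rw [pow_one]; exact Subtype.ext (by simpa using hBe b b.2)⟩
  obtain ⟨Q, hQ⟩ := hBp.exists_le_sylow
  haveI := h Q
  have hcyc : IsCyclic B :=
    isCyclic_of_surjective (Subgroup.subgroupOfEquivOfLe hQ) (Subgroup.subgroupOfEquivOfLe hQ).surjective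
  rw [pow_one]
  exact card_le_of_isCyclic_of_exp hp B hcyc hBe

/-- `κ(N)` and `τ₂(N)` are disjoint. -/
theorem not_mem_kappa_of_mem_tau2 [Finite G] {N : Subgroup G} {p : ℕ} (h : p ∈ tau2 N) :
    p ∉ kappa N := by
  intro hκ
  haveI : Fact p.Prime := ⟨h.1⟩
  exact h.2.2.2 (pRankLE_one_of_sylow_isCyclic fun P => (hκ.2.2.2 P).1)

/-- If `c = e s` centralizes `x`, where `e, x ∈ M`, `s ∈ D`, `x` normalizes `D` and `D ∩ M = 1`,
then both `e` and `s` centralize `x`. -/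
theorem commute_of_factor {M D : Subgroup G} (hDM : D ⊓ M = ⊥) {x e s : G} (hxM : x ∈ M)
    (hxD : x ∈ Subgroup.normalizer (D : Set G)) (heM : e ∈ M) (hs : s ∈ D)
    (hc : (e * s) * x = x * (e * s)) : s * x = x * s ∧ e * x = x * e := by
  have h1 : s * x * s⁻¹ = e⁻¹ * x * e := by
    calc s * x * s⁻¹ = e⁻¹ * ((e * s) * x) * s⁻¹ := by group
      _ = e⁻¹ * (x * (e * s)) * s⁻¹ := by rw [hc]
      _ = e⁻¹ * x * e := by group
  have h2 : s * x * s⁻¹ * x⁻¹ ∈ D := by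
    have h3 : x * s⁻¹ * x⁻¹ ∈ D := (Subgroup.mem_normalizer_iff.mp hxD s⁻¹).mp (D.inv_mem hs)
    have : s * x * s⁻¹ * x⁻¹ = s * (x * s⁻¹ * x⁻¹) := by group
    rw [this]; exact D.mul_mem hs h3
  have h4 : s * x * s⁻¹ * x⁻¹ ∈ M := by
    rw [h1]
    exact M.mul_mem (M.mul_mem (M.mul_mem (M.inv_mem heM) hxM) heM) (M.inv_mem hxM)
  have h5 : s * x * s⁻¹ * x⁻¹ ∈ D ⊓ M := ⟨h2, h4⟩
  rw [hDM, Subgroup.mem_bot] at h5
  have h6 : s * x = x * s := by
    calc s * x = (s * x * s⁻¹ * x⁻¹) * (x * s) := by group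
      _ = x * s := by rw [h5, one_mul]
  refine ⟨h6, ?_⟩
  calc e * x = e * (x * s) * s⁻¹ := by group
    _ = e * (s * x) * s⁻¹ := by rw [h6]
    _ = (e * s) * x * s⁻¹ := by group
    _ = x * (e * s) * s⁻¹ := by rw [hc]
    _ = x * e := by group

/-- **B&G Theorem 14.4 (a)–(f)**, structural core. -/
theorem core [Finite G] (hG : IsMinSimpleOddOrder G) (hU : UniquenessThm G)
    (h1409 : Stmt1409 G) (h1416 : Stmt1416 G) (h1417 : Stmt1417 G) (h1424 : Stmt1424 G)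
    (h1432 : Stmt1432 G) (hσ : SigmaDisjoint G)
    (M : Subgroup G) (hM : IsCoatom M) (x : G) (hx : x ∈ sigmaCore M) (hx1 : x ≠ 1)
    (hxM : ¬ Subgroup.centralizer ({x} : Set G) ≤ M) :
    ∃ N : Subgroup G, IsCoatom N ∧ Subgroup.centralizer ({x} : Set G) ≤ N ∧
      (∀ g : G, N ≠ M.map (MulAut.conj g).toMonoidHom) ∧
      (∀ q ∈ sigma M, q ∉ sigma N) ∧
      Group.IsNilpotent (sigmaCore N) ∧ sigmaCore N ⊓ M = ⊥ ∧
      (∀ n ∈ N, ∃ e ∈ M ⊓ N, ∃ s ∈ sigmaCore N, n = e * s) ∧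
      (∃ r ∈ sigmaCore N ⊓ Subgroup.centralizer ({x} : Set G), r ≠ 1) ∧
      (∀ q : ℕ, q.Prime → q ∣ orderOf x → q ∈ tau2 N) ∧
      (∀ L : Subgroup G, IsCoatom L → Subgroup.centralizer ({x} : Set G) ≤ L → L = N) := by
  classical
  have hxo : orderOf x ≠ 1 := fun h => hx1 (orderOf_eq_one_iff.mp h)
  obtain ⟨p, hp, hpx⟩ := Nat.exists_prime_and_dvd hxo
  haveI : Fact p.Prime := ⟨hp⟩
  have hzo : orderOf (x ^ (orderOf x / p)) = p :=
    orderOf_pow_orderOf_div (orderOf_pos x).ne' hpx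
  set z := x ^ (orderOf x / p) with hz
  set Z : Subgroup G := Subgroup.zpowers z with hZ
  have hZc : Nat.card Z = p := by rw [hZ, Nat.card_zpowers, hzo]
  have hzσ : z ∈ sigmaCore M := pow_mem hx _
  have hZσ : Z ≤ sigmaCore M := (Subgroup.zpowers_le).mpr hzσ
  have hZM : Z ≤ M := hZσ.trans (sigmaCore_le M)
  have hpσ : p ∈ sigma M :=
    sigmaCore_isPi M p hp (by rw [← hZc]; exact Subgroup.card_dvd_of_le hZσ)
  have hZp : IsPGroup p Z := IsPGroup.of_card (n := 1) (by rw [hZc, pow_one])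
  have hZ1 : Z ≠ ⊥ := by
    intro h
    rw [h, Subgroup.card_bot] at hZc
    exact hp.one_lt.ne hZc
  have hCxZ : Subgroup.centralizer ({x} : Set G) ≤ Subgroup.centralizer (Z : Set G) :=
    centralizer_le_centralizer_zpowers_pow x _
  have hCN : Subgroup.centralizer (Z : Set G) ≤ Subgroup.normalizer (Z : Set G) :=
    Subgroup.centralizer_le_normalizer _
  have hZtop : Z ≠ ⊤ := fun h => hM.1 (top_le_iff.mp (h ▸ hZM))
  have hNtop := normalizer_ne_top_of_simple hG.2.1 hZ1 hZtop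
  obtain ⟨N, hN, hNZ⟩ := exists_isCoatom_ge hNtop
  have hCxN : Subgroup.centralizer ({x} : Set G) ≤ N := hCxZ.trans (hCN.trans hNZ)
  have hNM : N ≠ M := by
    rintro rfl
    exact hxM hCxN
  have hZMN : Z ≤ M ⊓ N := le_inf hZM (Subgroup.le_normalizer.trans hNZ)
  obtain ⟨S, hS⟩ := (hZp.comap_subtype (K := M ⊓ N)).exists_le_sylow
  have hZS : Z ≤ (S : Subgroup ↥(M ⊓ N)).map (M ⊓ N).subtype := by
    intro y hy
    exact ⟨⟨y, hZMN hy⟩, hS (Subgroup.mem_subgroupOf.mpr hy), rfl⟩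
  obtain ⟨hnc, -, hSidx⟩ := h1424 M hM p hpσ Z hZp hZ1 hZM N hN hNM hNZ S hZS
  set P := (S : Subgroup ↥(M ⊓ N)).map (M ⊓ N).subtype with hP
  have hPMN : P ≤ M ⊓ N := Subgroup.map_subtype_le _
  have hPp : IsPGroup p P := S.isPGroup'.map _
  have hdis : ∀ q ∈ sigma M, q ∉ sigma N := by
    apply hσ M N hM hN
    intro g hg
    apply hnc g⁻¹
    rw [map_conj_eq_smul] at hg ⊢
    rw [← hg, map_inv, inv_smul_smul]
  have hpN : p ∉ sigma N := hdis p hpσ
  obtain ⟨⟨hr2, hr1⟩, -, -⟩ := h1409 N hN p hpN Z hZc hNZ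
  have hpτ : p ∈ tau2 N := ⟨hp, hpN, hr2, hr1⟩
  obtain ⟨A₀, hA₀N, hA₀e, hA₀c⟩ :=
    Cfsg.Agent.Lib.Helper97.BGTwelve.exists_elemAb_sq_of_not_pRankLE_one N hr1
  have hA₀p : IsPGroup p A₀ := IsPGroup.of_card (n := 2) hA₀c
  obtain ⟨n, -, hnA⟩ :=
    exists_conj_le_of_not_dvd_relIndex (hPMN.trans inf_le_right) hPp hSidx hA₀N hA₀p
  set A := MulAut.conj n • A₀ with hA
  have hAe : IsElementaryAbelian p A := isElementaryAbelian_conj_smul n hA₀e
  have hAc : Nat.card A = p ^ 2 := by rw [hA, card_conj_smul, hA₀c]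
  have hAp : IsPGroup p A := IsPGroup.of_card (n := 2) hAc
  have hAM : A ≤ M := hnA.trans (hPMN.trans inf_le_left)
  have hAN : A ≤ N := hnA.trans (hPMN.trans inf_le_right)
  obtain ⟨hnil, -, hNsA, -, hdisj, -⟩ := h1417 N hN p hpτ A ⟨hAN, hAe, hAc⟩
  have hNσM : sigmaCore N ⊓ M = ⊥ := hdisj M hM (Ne.symm hNM) hAM
  have hNA : Subgroup.normalizer (A : Set G) ≤ M :=
    Cfsg.Agent.Lib.Helper97.BGTwelve.normalizer_le_of_noncyclic hG M
      (fun q _ hq X hXq _ hXM => (sigma_ctrl hG hU M hM q hq X hXq hXM).2)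
      (fun q _ B hB => h1416 M hM q B hB) p A hpσ hAp hAM (not_isCyclic_of_elemAb_sq hp hAe hAc)
  have hpD : ¬ p ∣ Nat.card (sigmaCore N) := fun h => hpN (sigmaCore_isPi N p hp h)
  have hfr := frattini_factor (sigmaCore_le N) hAN (le_normalizer_sigmaCore N) hNsA hAp hpD
  have hfact : ∀ n ∈ N, ∃ e ∈ M ⊓ N, ∃ s ∈ sigmaCore N, n = e * s := by
    intro n hn
    obtain ⟨e, he, s, hs, rfl⟩ := hfr n hn
    exact ⟨e, ⟨hNA he.2, he.1⟩, s, hs, rfl⟩
  have hxMm : x ∈ M := sigmaCore_le M hx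
  have hxN : x ∈ N := hCxN (Subgroup.mem_centralizer_iff.mpr fun h hh => by
    rw [Set.mem_singleton_iff.mp hh])
  -- `R ≠ 1`
  have hR : ∃ r ∈ sigmaCore N ⊓ Subgroup.centralizer ({x} : Set G), r ≠ 1 := by
    obtain ⟨c, hc, hcM⟩ := SetLike.not_le_iff_exists.mp hxM
    obtain ⟨e, he, s, hs, rfl⟩ := hfact c (hCxN hc)
    have hcx : (e * s) * x = x * (e * s) :=
      ((Subgroup.mem_centralizer_iff.mp hc) x (Set.mem_singleton x)).symm
    obtain ⟨h1, -⟩ := commute_of_factor hNσM hxMm (le_normalizer_sigmaCore N hxN) he.1 hs hcx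
    refine ⟨s, ⟨hs, Subgroup.mem_centralizer_iff.mpr fun h hh => ?_⟩, ?_⟩
    · rw [Set.mem_singleton_iff.mp hh]; exact h1.symm
    · rintro rfl
      apply hcM
      rw [mul_one]; exact he.1
  obtain ⟨r₀, hr₀, hr₀1⟩ := hR
  have hxσ : ∀ q : ℕ, q.Prime → q ∣ orderOf x → q ∈ sigma M := by
    intro q hq hqx
    apply sigmaCore_isPi M q hq
    have h1 : orderOf (⟨x, hx⟩ : sigmaCore M) = orderOf x := Subgroup.orderOf_mk x hx
    rw [← h1] at hqx
    exact hqx.trans (orderOf_dvd_natCard _)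
  have hxr : x ∈ N ⊓ Subgroup.centralizer ({r₀} : Set G) := by
    refine ⟨hxN, Subgroup.mem_centralizer_iff.mpr fun h hh => ?_⟩
    rw [Set.mem_singleton_iff.mp hh]
    exact ((Subgroup.mem_centralizer_iff.mp hr₀.2) x (Set.mem_singleton x)).symm
  rcases h1432 N hN r₀ hr₀.1 hr₀1 x hxr hx1 (fun q hq hqx => hdis q (hxσ q hq hqx)) with
    ⟨h1, -⟩ | ⟨h1, -, -, h3⟩
  · exact absurd (h1 p hp hpx) (not_mem_kappa_of_mem_tau2 hpτ)
  · exact ⟨N, hN, hCxN, hnc, hdis, hnil, hNσM, hfact, ⟨r₀, hr₀, hr₀1⟩, h1, h3⟩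

end Cfsg.Agent.Lib.Helper22.BGFourteenFour
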