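import Mathlib
import Cfsg.Agent.Lib.Helper22.BGFourteenFourA
import Cfsg.Agent.Lib.Helper64.CNMaximal
import Cfsg.Agent.Lib.Helper23.TypeP
import Cfsg.Agent.Lib.Helper30.BGSigmaE
import Cfsg.Agent.Lib.Helper22.Solvable

/-!
# Bender–Glauberman Theorem 14.4: the statements S1375 and S1374, conditional form (helper22)
-/

set_option autoImplicit false
set_option linter.style.haveILetI false
set_option linter.unusedVariables false

namespace Cfsg.Agent.Lib.Helper22.BGFourteenFour

open scoped Pointwise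
open Cfsg
open Cfsg.Agent.Lib.Helper34 (UniquenessThm)
open Cfsg.Agent.Lib.Helper54

universe u

variable {G : Type u} [Group G]

/-- A prime `p` dividing `|N|` such that `N` (maximal in the simple group `G`) has a normal Sylow
`p`-subgroup lies in `σ(N)`. -/
theorem mem_sigma_of_normal_sylow [Finite G] (hs : IsSimpleGroup G) {N : Subgroup G}
    (hN : IsCoatom N) {p : ℕ} [Fact p.Prime] (hpd : p ∣ Nat.card N) (P : Sylow p N)
    (hPn : (P : Subgroup N).Normal) : p ∈ sigma N := by
  have hp : p.Prime := Fact.out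
  refine ⟨hp, hpd, P, ?_⟩
  set Q : Subgroup G := (P : Subgroup N).map N.subtype with hQ
  have hle : N ≤ Subgroup.normalizer (Q : Set G) := le_normalizer_map_subtype N (P : Subgroup N)
  rcases eq_or_lt_of_le hle with h | h
  · exact le_of_eq h.symm
  · exfalso
    have htop := hN.2 _ h
    have hQn : Q.Normal := Subgroup.normalizer_eq_top_iff.mp htop
    rcases hs.eq_bot_or_eq_top_of_normal Q hQn with h' | h'
    · have h1 : Nat.card Q = 1 := by rw [h', Subgroup.card_bot]
      rw [hQ, Subgroup.card_map_of_injective N.subtype_injective, P.card_eq_multiplicity] at h1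
      have h2 : 0 < (Nat.card N).factorization p :=
        Nat.Prime.factorization_pos_of_dvd hp Nat.card_pos.ne' hpd
      have h3 : 1 < p ^ (Nat.card N).factorization p := Nat.one_lt_pow h2.ne' hp.one_lt
      omega
    · apply hN.1
      rw [eq_top_iff, ← h']
      exact Subgroup.map_subtype_le _

/-- `M_F = M_σ` for a maximal subgroup with nilpotent `M_σ`. -/
theorem sigmaCore_eq_fittingHallOf [Finite G] (hG : IsMinSimpleOddOrder G) (hU : UniquenessThm G)
    {N : Subgroup G} (hN : IsCoatom N) (hnil : Group.IsNilpotent (sigmaCore N)) :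
    sigmaCore N = fittingHallOf N := by
  have hHall := (sigmaCore_hall_of hG hU N hN).1
  unfold sigmaCore fittingHallOf
  congr 1
  apply le_antisymm
  · apply le_sSup
    refine ⟨piCore_normal _ _, ?_, ?_⟩
    · have e : (piCore (sigma N) ↥N) ≃* ((piCore (sigma N) ↥N).map N.subtype) :=
        Subgroup.equivMapOfInjective _ _ N.subtype_injective
      have : Group.IsNilpotent ((piCore (sigma N) ↥N).map N.subtype) := hnil
      exact Group.nilpotent_of_mulEquiv e.symm
    · have hidx : (piCore (sigma N) ↥N).index = (sigmaCore N).relIndex N := by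
        rw [Subgroup.relIndex, sigmaCore, Subgroup.subgroupOf,
          Subgroup.comap_map_eq_self_of_injective N.subtype_injective]
      have hcard : Nat.card (piCore (sigma N) ↥N) = Nat.card (sigmaCore N) := by
        rw [sigmaCore, Subgroup.card_map_of_injective N.subtype_injective]
      rw [hidx, hcard]
      apply Nat.coprime_of_dvd
      intro k hk hk1 hk2
      exact hHall.2.2 k hk (hHall.2.1 k hk hk1) hk2
  · apply le_sSup
    refine ⟨fittingHall_normal _, ?_⟩
    intro p hp hpd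
    haveI : Fact p.Prime := ⟨hp⟩
    obtain ⟨P⟩ : Nonempty (Sylow p ↥N) := inferInstance
    have h1 := Cfsg.Agent.Lib.Helper64.sylow_normal_of_dvd_card_fittingHall p hpd P
    have hpN : p ∣ Nat.card N := hpd.trans (Subgroup.card_subgroup_dvd_card _)
    exact mem_sigma_of_normal_sylow hG.2.1 hN hpN P h1.1

/-- If `K` normalizes `A` and `B` then it normalizes `A ⊓ B`. -/
theorem le_normalizer_inf {K A B : Subgroup G} (hA : K ≤ Subgroup.normalizer (A : Set G))
    (hB : K ≤ Subgroup.normalizer (B : Set G)) :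
    K ≤ Subgroup.normalizer ((A ⊓ B : Subgroup G) : Set G) := by
  intro g hg
  have h1 := mem_normalizer_iff_conj_smul.mp (hA hg)
  have h2 := mem_normalizer_iff_conj_smul.mp (hB hg)
  rw [mem_normalizer_iff_conj_smul]
  ext y
  rw [mem_conj_smul_iff, Subgroup.mem_inf, Subgroup.mem_inf, ← mem_conj_smul_iff,
    ← mem_conj_smul_iff, h1, h2]

/-- If `K` normalizes `A` and `B` then it normalizes `A ⊔ B`. -/
theorem le_normalizer_sup {K A B : Subgroup G} (hA : K ≤ Subgroup.normalizer (A : Set G))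
    (hB : K ≤ Subgroup.normalizer (B : Set G)) :
    K ≤ Subgroup.normalizer ((A ⊔ B : Subgroup G) : Set G) := by
  intro g hg
  have h1 := mem_normalizer_iff_conj_smul.mp (hA hg)
  have h2 := mem_normalizer_iff_conj_smul.mp (hB hg)
  rw [mem_normalizer_iff_conj_smul, Subgroup.smul_sup, h1, h2]

/-- `C_G(x)` normalizes itself. -/
theorem centralizer_le_normalizer_self (x : G) :
    Subgroup.centralizer ({x} : Set G) ≤
      Subgroup.normalizer ((Subgroup.centralizer ({x} : Set G) : Subgroup G) : Set G) :=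
  Subgroup.le_normalizer

/-- **Statement S1375** (B&G Theorem 14.4 (a)–(f)), conditional form. -/
theorem s1375_of [Finite G] (hG : IsMinSimpleOddOrder G) (hU : UniquenessThm G)
    (h1409 : Stmt1409 G) (h1416 : Stmt1416 G) (h1417 : Stmt1417 G) (h1424 : Stmt1424 G)
    (h1432 : Stmt1432 G) (hσ : SigmaDisjoint G)
    (M : Subgroup G) (hM : IsCoatom M) (x : G) (hx : x ∈ sigmaCore M) (hx1 : x ≠ 1)
    (hxM : ¬ Subgroup.centralizer ({x} : Set G) ≤ M) :
    ∃ N : Subgroup G, (IsCoatom N ∧ Subgroup.centralizer ({x} : Set G) ≤ N) ∧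
      (∀ L : Subgroup G, IsCoatom L → Subgroup.centralizer ({x} : Set G) ≤ L → L = N) ∧
      sigmaCore N = fittingHallOf N ∧
      Subgroup.centralizer ({x} : Set G) ≤ Subgroup.normalizer
        ((sigmaCore N ⊓ Subgroup.centralizer ({x} : Set G) : Subgroup G) : Set G) ∧
      IsComplIn (M ⊓ Subgroup.centralizer ({x} : Set G))
        (sigmaCore N ⊓ Subgroup.centralizer ({x} : Set G)) (Subgroup.centralizer ({x} : Set G)) ∧
      IsComplIn (M ⊓ N) (sigmaCore N) N ∧
      ∀ K' U' : Subgroup G, IsSigmaDecomposition N K' U' →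
        U' ≠ ⊥ ∧ x ∈ sigmaA N U' ∧ x ∉ sigmaCore N := by
  obtain ⟨N, hN, hCxN, hnc, hdis, hnil, hNσM, hfact, ⟨r₀, hr₀, hr₀1⟩, hτ, huniq⟩ :=
    core hG hU h1409 h1416 h1417 h1424 h1432 hσ M hM x hx hx1 hxM
  have hxMm : x ∈ M := sigmaCore_le M hx
  have hxC : x ∈ Subgroup.centralizer ({x} : Set G) :=
    Subgroup.mem_centralizer_iff.mpr fun h hh => by rw [Set.mem_singleton_iff.mp hh]
  have hxN : x ∈ N := hCxN hxC
  have hxnot : x ∉ sigmaCore N := by
    intro h
    have h1 : x ∈ sigmaCore N ⊓ M := ⟨h, hxMm⟩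
    rw [hNσM, Subgroup.mem_bot] at h1
    exact hx1 h1
  refine ⟨N, ⟨hN, hCxN⟩, huniq, sigmaCore_eq_fittingHallOf hG hU hN hnil, ?_, ?_, ?_, ?_⟩
  · exact le_normalizer_inf (hCxN.trans (le_normalizer_sigmaCore N))
      (centralizer_le_normalizer_self x)
  · refine ⟨inf_le_right, inf_le_right, ?_, ?_⟩
    · rw [eq_bot_iff]
      rintro y ⟨⟨hyM, -⟩, ⟨hyσ, -⟩⟩
      have h1 : y ∈ sigmaCore N ⊓ M := ⟨hyσ, hyM⟩
      rwa [hNσM] at h1
    · intro c hc
      obtain ⟨e, he, s, hs, rfl⟩ := hfact c (hCxN hc)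
      have hcx : (e * s) * x = x * (e * s) :=
        ((Subgroup.mem_centralizer_iff.mp hc) x (Set.mem_singleton x)).symm
      obtain ⟨h1, h2⟩ :=
        commute_of_factor hNσM hxMm (le_normalizer_sigmaCore N hxN) he.1 hs hcx
      refine ⟨e, ⟨he.1, Subgroup.mem_centralizer_iff.mpr fun h hh => ?_⟩, s,
        ⟨hs, Subgroup.mem_centralizer_iff.mpr fun h hh => ?_⟩, rfl⟩
      · rw [Set.mem_singleton_iff.mp hh]; exact h2.symm
      · rw [Set.mem_singleton_iff.mp hh]; exact h1.symm
  · refine ⟨inf_le_right, sigmaCore_le N, ?_, hfact⟩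
    rw [eq_bot_iff]
    rintro y ⟨⟨hyM, -⟩, hyσ⟩
    have h1 : y ∈ sigmaCore N ⊓ M := ⟨hyσ, hyM⟩
    rwa [hNσM] at h1
  · intro K' U' hdec
    obtain ⟨-, hKhall, hcompl, hKU⟩ := hdec
    obtain ⟨hU'N, hKσN, hUdisj, hUfact⟩ := hcompl
    have hK'N : K' ≤ N := hKhall.1
    -- `W = U' N_σ` is normal in `N`
    set W : Subgroup G := U' ⊔ sigmaCore N with hW
    have hWN : W ≤ N := sup_le hU'N (sigmaCore_le N)
    have hKW : K' ≤ Subgroup.normalizer (W : Set G) :=
      le_normalizer_sup hKU (hK'N.trans (le_normalizer_sigmaCore N))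
    have hσW : sigmaCore N ≤ Subgroup.normalizer (W : Set G) :=
      (le_sup_right : sigmaCore N ≤ W).trans Subgroup.le_normalizer
    have hNW : N ≤ Subgroup.normalizer (W : Set G) := by
      intro n hn
      obtain ⟨a, ha, b, hb, rfl⟩ := hUfact n hn
      exact Subgroup.mul_mem _ (Subgroup.le_normalizer (le_sup_left (b := sigmaCore N) ha))
        ((sup_le hKW hσW) hb)
    -- orders
    have hUσ : U' ≤ Subgroup.normalizer (sigmaCore N : Set G) :=
      hU'N.trans (le_normalizer_sigmaCore N)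
    have hdisj2 : sigmaCore N ⊓ U' = ⊥ := by
      rw [eq_bot_iff]
      rintro y ⟨hyσ, hyU⟩
      have h1 : y ∈ U' ⊓ (K' ⊔ sigmaCore N) := ⟨hyU, le_sup_right (a := K') hyσ⟩
      rwa [hUdisj] at h1
    have hcardW : Nat.card W = Nat.card (sigmaCore N) * Nat.card U' := by
      rw [hW, sup_comm]
      exact card_sup_of_le_normalizer hUσ hdisj2
    have hcardN : Nat.card N = Nat.card U' * Nat.card (K' ⊔ sigmaCore N : Subgroup G) :=
      Cfsg.Agent.Lib.Helper23.card_of_isComplIn ⟨hU'N, hKσN, hUdisj, hUfact⟩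
    have hKσ : K' ≤ Subgroup.normalizer (sigmaCore N : Set G) :=
      hK'N.trans (le_normalizer_sigmaCore N)
    have hcardKσ : Nat.card (K' ⊔ sigmaCore N : Subgroup G) ∣
        Nat.card (sigmaCore N) * Nat.card K' := by
      rw [sup_comm]
      exact Cfsg.Agent.Lib.Helper22.card_sup_dvd_mul_of_le_normalizer hKσ
    have hrel : W.relIndex N ∣ Nat.card K' := by
      have h1 := card_mul_relIndex hWN
      have h2 : Nat.card W * W.relIndex N ∣ Nat.card W * Nat.card K' := by
        rw [h1, hcardN, hcardW]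
        calc Nat.card U' * Nat.card (K' ⊔ sigmaCore N : Subgroup G)
            ∣ Nat.card U' * (Nat.card (sigmaCore N) * Nat.card K') :=
              Nat.mul_dvd_mul_left _ hcardKσ
          _ = Nat.card (sigmaCore N) * Nat.card U' * Nat.card K' := by ring
      exact Nat.dvd_of_mul_dvd_mul_left Nat.card_pos h2
    -- `x ∈ W`
    have hxW : x ∈ W := by
      haveI : (W.subgroupOf N).Normal := Subgroup.normal_subgroupOf_of_le_normalizer hNW
      have hcop : (Nat.card (Subgroup.zpowers (⟨x, hxN⟩ : N))).Coprime (W.subgroupOf N).index := by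
        rw [Nat.card_zpowers, Subgroup.orderOf_mk]
        apply Nat.coprime_of_dvd
        intro q hq hq1 hq2
        have h3 : q ∣ Nat.card K' := hq2.trans hrel
        exact not_mem_kappa_of_mem_tau2 (hτ q hq hq1) (hKhall.2.1 q hq h3)
      have h4 := le_of_normal_of_coprime_index (W.subgroupOf N) hcop
      exact Subgroup.mem_subgroupOf.mp (h4 (Subgroup.mem_zpowers _))
    refine ⟨?_, ⟨⟨hxN, r₀, hr₀.1, hr₀1, ?_⟩, hxW⟩, hxnot⟩
    · rintro rfl
      apply hxnot
      rw [hW, bot_sup_eq] at hxW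
      exact hxW
    · exact ((Subgroup.mem_centralizer_iff.mp hr₀.2) x (Set.mem_singleton x))

/-- A maximal subgroup of a simple group which contains a non-identity element is
self-normalizing. -/
theorem normalizer_eq_of_isCoatom (hs : IsSimpleGroup G) {M : Subgroup G} (hM : IsCoatom M)
    (hM1 : M ≠ ⊥) : Subgroup.normalizer (M : Set G) = M := by
  have hle : M ≤ Subgroup.normalizer (M : Set G) := Subgroup.le_normalizer
  rcases eq_or_lt_of_le hle with h | h
  · exact h.symm
  · exfalso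
    have htop := hM.2 _ h
    have hn : M.Normal := Subgroup.normalizer_eq_top_iff.mp htop
    rcases hs.eq_bot_or_eq_top_of_normal M hn with h' | h'
    · exact hM1 h'
    · exact hM.1 h'

/-- Some power of a non-identity element has prime order. -/
theorem exists_pow_orderOf_prime [Finite G] (x : G) (hx1 : x ≠ 1) :
    ∃ p k : ℕ, p.Prime ∧ p ∣ orderOf x ∧ orderOf (x ^ k) = p := by
  have hxo : orderOf x ≠ 1 := fun h => hx1 (orderOf_eq_one_iff.mp h)
  obtain ⟨p, hp, hpx⟩ := Nat.exists_prime_and_dvd hxo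
  exact ⟨p, orderOf x / p, hp, hpx, orderOf_pow_orderOf_div (orderOf_pos x).ne' hpx⟩

/-- **Generalized B&G 10.1(b)** for elements of `M_σ` of arbitrary order: the conjugates of `M`
containing `x ∈ M_σ − 1` are permuted transitively by `C_G(x)`. -/
theorem conj_eq_of_mem [Finite G] (hG : IsMinSimpleOddOrder G) (hU : UniquenessThm G)
    (h1409 : Stmt1409 G) (h1416 : Stmt1416 G) (h1417 : Stmt1417 G) (h1424 : Stmt1424 G)
    (h1432 : Stmt1432 G) (hσ : SigmaDisjoint G)
    (M : Subgroup G) (hM : IsCoatom M) (x : G) (hx : x ∈ sigmaCore M) (hx1 : x ≠ 1) (g : G)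
    (hxg : x ∈ M.map (MulAut.conj g).toMonoidHom) :
    ∃ c ∈ Subgroup.centralizer ({x} : Set G),
      M.map (MulAut.conj g).toMonoidHom = M.map (MulAut.conj c).toMonoidHom := by
  obtain ⟨p, k, hp, hpx, hzo⟩ := exists_pow_orderOf_prime x hx1
  haveI : Fact p.Prime := ⟨hp⟩
  set z := x ^ k with hz
  set Z : Subgroup G := Subgroup.zpowers z with hZ
  have hZc : Nat.card Z = p := by rw [hZ, Nat.card_zpowers, hzo]
  have hzσ : z ∈ sigmaCore M := pow_mem hx _
  have hZσ : Z ≤ sigmaCore M := (Subgroup.zpowers_le).mpr hzσ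
  have hZM : Z ≤ M := hZσ.trans (sigmaCore_le M)
  have hpσ : p ∈ sigma M :=
    sigmaCore_isPi M p hp (by rw [← hZc]; exact Subgroup.card_dvd_of_le hZσ)
  have hZp : IsPGroup p Z := IsPGroup.of_card (n := 1) (by rw [hZc, pow_one])
  have hz1 : z ≠ 1 := by
    intro h
    rw [h, orderOf_one] at hzo
    exact hp.one_lt.ne hzo
  have hZg : Z ≤ MulAut.conj g • M := by
    rw [hZ, Subgroup.zpowers_le, hz]
    exact pow_mem hxg _
  obtain ⟨c, hc, hgc⟩ := sigma_conj_eq hG hU M hM p hpσ Z hZp hZM g hZg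
  have hcz : c ∈ Subgroup.centralizer ({z} : Set G) :=
    Subgroup.centralizer_le (by
      intro y hy
      rw [Set.mem_singleton_iff.mp hy]
      exact Subgroup.mem_zpowers z) hc
  rw [map_conj_eq_smul, hgc]
  have hxC : x ∈ Subgroup.centralizer ({x} : Set G) :=
    Subgroup.mem_centralizer_iff.mpr fun h hh => by rw [Set.mem_singleton_iff.mp hh]
  by_cases hzM : Subgroup.centralizer ({z} : Set G) ≤ M
  · refine ⟨1, one_mem _, ?_⟩
    rw [map_conj_eq_smul, map_one, one_smul]
    exact mem_normalizer_iff_conj_smul.mp (Subgroup.le_normalizer (hzM hcz))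
  · obtain ⟨N, hN, hCzN, -, -, -, hNσM, hfact, -, -, -⟩ :=
      core hG hU h1409 h1416 h1417 h1424 h1432 hσ M hM z hzσ hz1 hzM
    have hzMm : z ∈ M := sigmaCore_le M hzσ
    have hxMm : x ∈ M := sigmaCore_le M hx
    have hzC : z ∈ Subgroup.centralizer ({z} : Set G) :=
      Subgroup.mem_centralizer_iff.mpr fun h hh => by rw [Set.mem_singleton_iff.mp hh]
    have hzN : z ∈ N := hCzN hzC
    have hxz : x ∈ Subgroup.centralizer ({z} : Set G) := by
      rw [Subgroup.mem_centralizer_iff]
      intro h hh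
      rw [Set.mem_singleton_iff.mp hh, hz]
      exact ((Commute.refl x).pow_left k).eq
    have hxN : x ∈ N := hCzN hxz
    obtain ⟨e, he, s, hs, hces⟩ := hfact c (hCzN hcz)
    set s' := e * s * e⁻¹ with hs'
    have hs'σ : s' ∈ sigmaCore N :=
      (Subgroup.mem_normalizer_iff.mp (le_normalizer_sigmaCore N he.2) s).mp hs
    have hcs' : c = s' * e := by rw [hces, hs']; group
    have hMc : MulAut.conj c • M = MulAut.conj s' • M := by
      rw [hcs', map_mul, mul_smul]
      congr 1
      exact mem_normalizer_iff_conj_smul.mp (Subgroup.le_normalizer he.1)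
    have hxs' : s'⁻¹ * x * s' ∈ M := by
      have h1 : x ∈ MulAut.conj s' • M := by
        rw [← hMc, ← hgc]; exact hxg
      exact mem_conj_smul_iff.mp h1
    have ht : x⁻¹ * (s'⁻¹ * x * s') ∈ sigmaCore N ⊓ M := by
      refine ⟨?_, M.mul_mem (M.inv_mem hxMm) hxs'⟩
      have h2 : x⁻¹ * s'⁻¹ * x ∈ sigmaCore N :=
        (Subgroup.mem_normalizer_iff''.mp (le_normalizer_sigmaCore N hxN) s'⁻¹).mp
          (Subgroup.inv_mem _ hs'σ)
      have e2 : x⁻¹ * (s'⁻¹ * x * s') = (x⁻¹ * s'⁻¹ * x) * s' := by group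
      rw [e2]
      exact Subgroup.mul_mem _ h2 hs'σ
    rw [hNσM, Subgroup.mem_bot] at ht
    have hcomm : s' * x = x * s' := by
      calc s' * x = s' * x * (x⁻¹ * (s'⁻¹ * x * s')) := by rw [ht, mul_one]
        _ = x * s' := by group
    refine ⟨s', Subgroup.mem_centralizer_iff.mpr fun h hh => ?_, ?_⟩
    · rw [Set.mem_singleton_iff.mp hh]; exact hcomm.symm
    · rw [map_conj_eq_smul, hMc]

/-- **Statement S1374** (B&G Theorem 14.4(a)), conditional form. -/
theorem s1374_of [Finite G] (hG : IsMinSimpleOddOrder G) (hU : UniquenessThm G)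
    (h1409 : Stmt1409 G) (h1416 : Stmt1416 G) (h1417 : Stmt1417 G) (h1424 : Stmt1424 G)
    (h1432 : Stmt1432 G) (hσ : SigmaDisjoint G)
    (M : Subgroup G) (hM : IsCoatom M) (x : G) (hx : x ∈ sigmaCore M) (hx1 : x ≠ 1) :
    (Nat.card ↥(M ⊓ Subgroup.centralizer ({x} : Set G))).Coprime
        ((M ⊓ Subgroup.centralizer ({x} : Set G)).relIndex (Subgroup.centralizer ({x} : Set G))) ∧
      ∃ R : Subgroup G, Subgroup.centralizer ({x} : Set G) ≤ Subgroup.normalizer (R : Set G) ∧
        IsComplIn (M ⊓ Subgroup.centralizer ({x} : Set G)) R (Subgroup.centralizer ({x} : Set G)) ∧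
        ∀ g : G, x ∈ M.map (MulAut.conj g).toMonoidHom →
          ∃! r : G, r ∈ R ∧
            M.map (MulAut.conj r).toMonoidHom = M.map (MulAut.conj g).toMonoidHom := by
  have hxMm : x ∈ M := sigmaCore_le M hx
  have hM1 : M ≠ ⊥ := by
    rintro rfl
    exact hx1 (Subgroup.mem_bot.mp hxMm)
  have hNM := normalizer_eq_of_isCoatom hG.2.1 hM hM1
  by_cases hxM : Subgroup.centralizer ({x} : Set G) ≤ M
  · have hinf : M ⊓ Subgroup.centralizer ({x} : Set G) = Subgroup.centralizer ({x} : Set G) :=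
      inf_eq_right.mpr hxM
    refine ⟨?_, ⊥, ?_, ?_, ?_⟩
    · rw [hinf, Subgroup.relIndex_self]
      exact Nat.coprime_one_right _
    · intro c _
      rw [mem_normalizer_iff_conj_smul]
      ext y
      rw [mem_conj_smul_iff, Subgroup.mem_bot, Subgroup.mem_bot]
      constructor
      · intro h1
        have : y = c * (c⁻¹ * y * c) * c⁻¹ := by group
        rw [this, h1]; group
      · rintro rfl; group
    · refine ⟨inf_le_right, bot_le, inf_bot_eq _, ?_⟩
      intro c hc
      exact ⟨c, ⟨hxM hc, hc⟩, 1, Subgroup.mem_bot.mpr rfl, (mul_one c).symm⟩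
    · intro g hxg
      obtain ⟨c, hc, hgc⟩ := conj_eq_of_mem hG hU h1409 h1416 h1417 h1424 h1432 hσ M hM x hx hx1 g hxg
      have hMc : M.map (MulAut.conj c).toMonoidHom = M := by
        rw [map_conj_eq_smul]
        exact mem_normalizer_iff_conj_smul.mp (Subgroup.le_normalizer (hxM hc))
      refine ⟨1, ⟨Subgroup.mem_bot.mpr rfl, ?_⟩, ?_⟩
      · rw [hgc, hMc, map_conj_eq_smul, map_one, one_smul]
      · rintro r ⟨hr, -⟩
        exact Subgroup.mem_bot.mp hr
  · obtain ⟨N, hN, hCxN, hnc, hdis, hnil, hNσM, hfact, ⟨r₀, hr₀, hr₀1⟩, hτ, huniq⟩ :=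
      core hG hU h1409 h1416 h1417 h1424 h1432 hσ M hM x hx hx1 hxM
    have hxC : x ∈ Subgroup.centralizer ({x} : Set G) :=
      Subgroup.mem_centralizer_iff.mpr fun h hh => by rw [Set.mem_singleton_iff.mp hh]
    have hxN : x ∈ N := hCxN hxC
    set C := Subgroup.centralizer ({x} : Set G) with hC
    set R := sigmaCore N ⊓ C with hR
    have hcompl : IsComplIn (M ⊓ C) R C := by
      refine ⟨inf_le_right, inf_le_right, ?_, ?_⟩
      · rw [eq_bot_iff]
        rintro y ⟨⟨hyM, -⟩, ⟨hyσ, -⟩⟩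
        have h1 : y ∈ sigmaCore N ⊓ M := ⟨hyσ, hyM⟩
        rwa [hNσM] at h1
      · intro c hc
        obtain ⟨e, he, s, hs, rfl⟩ := hfact c (hCxN hc)
        have hcx : (e * s) * x = x * (e * s) :=
          ((Subgroup.mem_centralizer_iff.mp hc) x (Set.mem_singleton x)).symm
        obtain ⟨h1, h2⟩ :=
          commute_of_factor hNσM hxMm (le_normalizer_sigmaCore N hxN) he.1 hs hcx
        refine ⟨e, ⟨he.1, Subgroup.mem_centralizer_iff.mpr fun h hh => ?_⟩, s,
          ⟨hs, Subgroup.mem_centralizer_iff.mpr fun h hh => ?_⟩, rfl⟩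
        · rw [Set.mem_singleton_iff.mp hh]; exact h2.symm
        · rw [Set.mem_singleton_iff.mp hh]; exact h1.symm
    have hRnorm : C ≤ Subgroup.normalizer (R : Set G) :=
      le_normalizer_inf (hCxN.trans (le_normalizer_sigmaCore N)) (centralizer_le_normalizer_self x)
    have hcomplN : IsComplIn (M ⊓ N) (sigmaCore N) N := by
      refine ⟨inf_le_right, sigmaCore_le N, ?_, hfact⟩
      rw [eq_bot_iff]
      rintro y ⟨⟨hyM, -⟩, hyσ⟩
      have h1 : y ∈ sigmaCore N ⊓ M := ⟨hyσ, hyM⟩
      rwa [hNσM] at h1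
    refine ⟨?_, R, hRnorm, hcompl, ?_⟩
    · -- coprimality
      have hcardC := Cfsg.Agent.Lib.Helper23.card_of_isComplIn hcompl
      have hrel : (M ⊓ C).relIndex C = Nat.card R := by
        have h1 := card_mul_relIndex (inf_le_right : M ⊓ C ≤ C)
        rw [hcardC] at h1
        exact Nat.eq_of_mul_eq_mul_left Nat.card_pos h1
      rw [hrel]
      have hHall := (sigmaCore_hall_of hG hU N hN).1
      have hrelN : (sigmaCore N).relIndex N = Nat.card (M ⊓ N : Subgroup G) :=
        Cfsg.Agent.Lib.Helper30.BGSigmaE.relIndex_eq_card_of_isComplIn hcomplN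
      apply Nat.coprime_of_dvd
      intro q hq hq1 hq2
      have h3 : q ∣ Nat.card (sigmaCore N) := hq2.trans (Subgroup.card_dvd_of_le inf_le_left)
      have h4 : q ∣ Nat.card (M ⊓ N : Subgroup G) :=
        hq1.trans (Subgroup.card_dvd_of_le (inf_le_inf_left M hCxN))
      rw [← hrelN] at h4
      exact hHall.2.2 q hq (hHall.2.1 q hq h3) h4
    · intro g hxg
      obtain ⟨c, hc, hgc⟩ := conj_eq_of_mem hG hU h1409 h1416 h1417 h1424 h1432 hσ M hM x hx hx1 g hxg
      obtain ⟨e, he, s, hs, hces⟩ := hcompl.2.2.2 c hc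
      set s' := e * s * e⁻¹ with hs'
      have hs'R : s' ∈ R :=
        (Subgroup.mem_normalizer_iff.mp (hRnorm he.2) s).mp hs
      have hcs' : c = s' * e := by rw [hces, hs']; group
      have hMc : MulAut.conj c • M = MulAut.conj s' • M := by
        rw [hcs', map_mul, mul_smul]
        congr 1
        exact mem_normalizer_iff_conj_smul.mp (Subgroup.le_normalizer he.1)
      refine ⟨s', ⟨hs'R, ?_⟩, ?_⟩
      · rw [hgc, map_conj_eq_smul, map_conj_eq_smul, hMc]
      · rintro r ⟨hrR, hrM⟩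
        rw [hgc, map_conj_eq_smul, map_conj_eq_smul, hMc] at hrM
        have h1 : MulAut.conj (s'⁻¹ * r) • M = M := by
          rw [map_mul, mul_smul, hrM, ← mul_smul, ← map_mul, inv_mul_cancel, map_one, one_smul]
        have h2 : s'⁻¹ * r ∈ M := by
          have := mem_normalizer_iff_conj_smul.mpr h1
          rwa [hNM] at this
        have h3 : s'⁻¹ * r ∈ sigmaCore N ⊓ M :=
          ⟨Subgroup.mul_mem _ (Subgroup.inv_mem _ hs'R.1) hrR.1, h2⟩
        rw [hNσM, Subgroup.mem_bot] at h3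
        calc r = s' * (s'⁻¹ * r) := by group
          _ = s' := by rw [h3, mul_one]

end Cfsg.Agent.Lib.Helper22.BGFourteenFour
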