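import Mathlib
import Cfsg.Agent.Lib.Helper22.BGFourteenFourB
import Cfsg.Agent.Lib.Helper51.BGTwelveB

/-!
# Bender–Glauberman Lemma 14.5: the statement S1433, conditional form (helper22)

The cosets `x R(x)`, `x ∈ M_σ − 1`, are pairwise disjoint (over all maximal subgroups `M`).
-/

set_option autoImplicit false
set_option linter.style.haveILetI false
set_option linter.unusedVariables false

namespace Cfsg.Agent.Lib.Helper22.BGFourteenFour

open scoped Pointwise
open Cfsg
open Cfsg.Agent.Lib.Helper34 (UniquenessThm)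
open Cfsg.Agent.Lib.Helper54

universe u

variable {G : Type u} [Group G]

theorem supportR_eq_bot_of_le {M : Subgroup G} {x : G}
    (h : Subgroup.centralizer ({x} : Set G) ≤ M) : supportR M x = ⊥ := by
  unfold supportR
  split_ifs with h'
  · exact absurd h h'.1
  · rfl

theorem supportR_eq_of_unique {M N : Subgroup G} {x : G}
    (hxM : ¬ Subgroup.centralizer ({x} : Set G) ≤ M) (hN : IsCoatom N)
    (hCN : Subgroup.centralizer ({x} : Set G) ≤ N)
    (huniq : ∀ L : Subgroup G, IsCoatom L → Subgroup.centralizer ({x} : Set G) ≤ L → L = N) :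
    supportR M x = fittingHallOf N ⊓ Subgroup.centralizer ({x} : Set G) := by
  unfold supportR
  split_ifs with h'
  · have hspec := Classical.choose_spec h'.2.exists
    rw [huniq _ hspec.1 hspec.2]
  · exact absurd ⟨hxM, N, ⟨hN, hCN⟩, fun L hL => huniq L hL.1 hL.2⟩ h'

/-- Uniqueness of the decomposition into commuting parts of coprime orders. -/
theorem eq_of_mul_eq_mul_of_coprime {x r y s : G} (hxr : Commute x r) (hys : Commute y s)
    (h : x * r = y * s) (hco : (orderOf x * orderOf y).Coprime (orderOf r * orderOf s)) :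
    x = y := by
  set n := orderOf r * orderOf s with hn
  set m := orderOf x * orderOf y with hm
  have h1 : x ^ n = y ^ n := by
    have e1 : (x * r) ^ n = x ^ n := by
      rw [hxr.mul_pow, hn, pow_mul r, pow_orderOf_eq_one, one_pow, mul_one]
    have e2 : (y * s) ^ n = y ^ n := by
      rw [hys.mul_pow, hn, mul_comm (orderOf r), pow_mul s, pow_orderOf_eq_one, one_pow, mul_one]
    rw [← e1, ← e2, h]
  have hg : Nat.gcd n m = 1 := hco.symm
  have hb : (n : ℤ) * Nat.gcdA n m + (m : ℤ) * Nat.gcdB n m = 1 := by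
    have := Nat.gcd_eq_gcd_ab n m
    rw [hg] at this
    simpa using this.symm
  have hxm : x ^ m = 1 := by rw [hm, pow_mul, pow_orderOf_eq_one, one_pow]
  have hym : y ^ m = 1 := by
    rw [hm, mul_comm, pow_mul, pow_orderOf_eq_one, one_pow]
  have hx : x = (x ^ n) ^ (Nat.gcdA n m) := by
    have e : x ^ ((n : ℤ) * Nat.gcdA n m + (m : ℤ) * Nat.gcdB n m) = x := by rw [hb, zpow_one]
    rw [zpow_add, zpow_mul, zpow_mul, zpow_natCast, zpow_natCast, hxm, one_zpow, mul_one] at e
    exact e.symm
  have hy : y = (y ^ n) ^ (Nat.gcdA n m) := by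
    have e : y ^ ((n : ℤ) * Nat.gcdA n m + (m : ℤ) * Nat.gcdB n m) = y := by rw [hb, zpow_one]
    rw [zpow_add, zpow_mul, zpow_mul, zpow_natCast, zpow_natCast, hym, one_zpow, mul_one] at e
    exact e.symm
  rw [hx, hy, h1]

/-- The prime divisors of the order of an element of `M_σ` lie in `σ(M)`. -/
theorem prime_mem_sigma_of_mem_sigmaCore [Finite G] {M : Subgroup G} {x : G}
    (hx : x ∈ sigmaCore M) : ∀ q : ℕ, q.Prime → q ∣ orderOf x → q ∈ sigma M := by
  intro q hq hqx
  apply sigmaCore_isPi M q hq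
  have h1 : orderOf (⟨x, hx⟩ : sigmaCore M) = orderOf x := Subgroup.orderOf_mk x hx
  rw [← h1] at hqx
  exact hqx.trans (orderOf_dvd_natCard _)

theorem mem_centralizer_singleton_iff {x c : G} :
    c ∈ Subgroup.centralizer ({x} : Set G) ↔ x * c = c * x := by
  rw [Subgroup.mem_centralizer_iff]
  constructor
  · intro h; exact h x (Set.mem_singleton x)
  · intro h y hy; rw [Set.mem_singleton_iff.mp hy]; exact h

/-- What `r ∈ R(x)` means. -/
theorem supportR_facts [Finite G] (hG : IsMinSimpleOddOrder G) (hU : UniquenessThm G)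
    (h1409 : Stmt1409 G) (h1416 : Stmt1416 G) (h1417 : Stmt1417 G) (h1424 : Stmt1424 G)
    (h1432 : Stmt1432 G) (hσ : SigmaDisjoint G)
    (M : Subgroup G) (hM : IsCoatom M) (x : G) (hx : x ∈ sigmaCore M) (hx1 : x ≠ 1)
    (r : G) (hr : r ∈ supportR M x) :
    Commute x r ∧ (∀ q : ℕ, q.Prime → q ∣ orderOf r → q ∉ sigma M) ∧
      (r ≠ 1 → ∃ Nx : Subgroup G, IsCoatom Nx ∧ Subgroup.centralizer ({x} : Set G) ≤ Nx ∧
        (∀ L : Subgroup G, IsCoatom L → Subgroup.centralizer ({x} : Set G) ≤ L → L = Nx) ∧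
        r ∈ sigmaCore Nx) := by
  by_cases hxM : Subgroup.centralizer ({x} : Set G) ≤ M
  · rw [supportR_eq_bot_of_le hxM, Subgroup.mem_bot] at hr
    subst hr
    refine ⟨Commute.one_right x, ?_, fun h => absurd rfl h⟩
    intro q hq hq1
    rw [orderOf_one] at hq1
    exact absurd (Nat.dvd_one.mp hq1) hq.one_lt.ne'
  · obtain ⟨N, hN, hCxN, hnc, hdis, hnil, hNσM, hfact, -, hτ, huniq⟩ :=
      core hG hU h1409 h1416 h1417 h1424 h1432 hσ M hM x hx hx1 hxM
    rw [supportR_eq_of_unique hxM hN hCxN huniq, ← sigmaCore_eq_fittingHallOf hG hU hN hnil] at hr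
    refine ⟨mem_centralizer_singleton_iff.mp hr.2, ?_, fun _ => ⟨N, hN, hCxN, huniq, hr.1⟩⟩
    intro q hq hq1 hqM
    exact hdis q hqM (prime_mem_sigma_of_mem_sigmaCore hr.1 q hq hq1)

/-- If `σ(M)` and `σ(L)` have a common prime then `L` is conjugate to `M`, so `σ(L) = σ(M)`. -/
theorem sigma_eq_of_common [Finite G] (hσ : SigmaDisjoint G) {M L : Subgroup G} (hM : IsCoatom M)
    (hL : IsCoatom L) {q : ℕ} (hqM : q ∈ sigma M) (hqL : q ∈ sigma L) : sigma L = sigma M := by
  by_contra hne
  have h1 : ∀ g : G, L.map (MulAut.conj g).toMonoidHom ≠ M := by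
    intro g hg
    apply hne
    rw [← hg, map_conj_eq_smul, Cfsg.Agent.Lib.Helper51.BG12.sigma_conj_smul]
  exact hσ M L hM hL h1 q hqM hqL

theorem exists_prime_dvd_orderOf [Finite G] {x : G} (hx1 : x ≠ 1) :
    ∃ q : ℕ, q.Prime ∧ q ∣ orderOf x :=
  Nat.exists_prime_and_dvd (fun h => hx1 (orderOf_eq_one_iff.mp h))

/-- **Statement S1433** (B&G Lemma 14.5), conditional form. -/
theorem s1433_of [Finite G] (hG : IsMinSimpleOddOrder G) (hU : UniquenessThm G)
    (h1409 : Stmt1409 G) (h1416 : Stmt1416 G) (h1417 : Stmt1417 G) (h1424 : Stmt1424 G)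
    (h1432 : Stmt1432 G) (hσ : SigmaDisjoint G)
    (M N : Subgroup G) (hM : IsCoatom M) (hN : IsCoatom N) (x y : G) (hx : x ∈ sigmaCore M)
    (hy : y ∈ sigmaCore N) (hx1 : x ≠ 1) (hy1 : y ≠ 1) (hxy : x ≠ y) :
    ∀ r ∈ supportR M x, ∀ s ∈ supportR N y, x * r ≠ y * s := by
  intro r hr s hs heq
  obtain ⟨hxr, hrσ, hrN⟩ :=
    supportR_facts hG hU h1409 h1416 h1417 h1424 h1432 hσ M hM x hx hx1 r hr
  obtain ⟨hys, hsσ, hsN⟩ :=
    supportR_facts hG hU h1409 h1416 h1417 h1424 h1432 hσ N hN y hy hy1 s hs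
  have hxσ := prime_mem_sigma_of_mem_sigmaCore hx
  have hyσ := prime_mem_sigma_of_mem_sigmaCore hy
  obtain ⟨qx, hqx, hqxd⟩ := exists_prime_dvd_orderOf hx1
  obtain ⟨qy, hqy, hqyd⟩ := exists_prime_dvd_orderOf hy1
  by_cases hcommon : ∃ q, q ∈ sigma M ∧ q ∈ sigma N
  · -- `σ(N) = σ(M)`
    obtain ⟨q, hqM, hqN⟩ := hcommon
    have hσeq : sigma N = sigma M := sigma_eq_of_common hσ hM hN hqM hqN
    apply hxy
    apply eq_of_mul_eq_mul_of_coprime hxr hys heq
    apply Nat.coprime_of_dvd
    intro k hk hk1 hk2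
    have h1 : k ∈ sigma M := by
      rcases (Nat.Prime.dvd_mul hk).mp hk1 with h | h
      · exact hxσ k hk h
      · rw [← hσeq]; exact hyσ k hk h
    rcases (Nat.Prime.dvd_mul hk).mp hk2 with h | h
    · exact hrσ k hk h h1
    · apply hsσ k hk h
      rw [hσeq]; exact h1
  · push Not at hcommon
    by_cases hr1 : r = 1
    · by_cases hs1 : s = 1
      · apply hxy
        rw [hr1, hs1, mul_one, mul_one] at heq
        exact heq
      · -- `x = y s`
        rw [hr1, mul_one] at heq
        have hco : (orderOf y).Coprime (orderOf s) := by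
          apply Nat.coprime_of_dvd
          intro k hk hk1 hk2
          exact hsσ k hk hk2 (hyσ k hk hk1)
        have ho := hys.orderOf_mul_eq_mul_orderOf_of_coprime hco
        rw [← heq] at ho
        have h1 : qy ∣ orderOf x := by rw [ho]; exact hqyd.mul_right _
        exact hcommon qy (hxσ qy hqy h1) (hyσ qy hqy hqyd)
    · by_cases hs1 : s = 1
      · rw [hs1, mul_one] at heq
        have hco : (orderOf x).Coprime (orderOf r) := by
          apply Nat.coprime_of_dvd
          intro k hk hk1 hk2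
          exact hrσ k hk hk2 (hxσ k hk hk1)
        have ho := hxr.orderOf_mul_eq_mul_orderOf_of_coprime hco
        rw [heq] at ho
        have h1 : qx ∣ orderOf y := by rw [ho]; exact hqxd.mul_right _
        exact hcommon qx (hxσ qx hqx hqxd) (hyσ qx hqx h1)
      · obtain ⟨Nx, hNx, hCxNx, huniqx, hrNx⟩ := hrN hr1
        obtain ⟨Ny, hNy, hCyNy, huniqy, hsNy⟩ := hsN hs1
        have hrp := prime_mem_sigma_of_mem_sigmaCore hrNx
        have hsp := prime_mem_sigma_of_mem_sigmaCore hsNy
        have hco1 : (orderOf x).Coprime (orderOf r) := by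
          apply Nat.coprime_of_dvd
          intro k hk hk1 hk2
          exact hrσ k hk hk2 (hxσ k hk hk1)
        have hco2 : (orderOf y).Coprime (orderOf s) := by
          apply Nat.coprime_of_dvd
          intro k hk hk1 hk2
          exact hsσ k hk hk2 (hyσ k hk hk1)
        have ho1 := hxr.orderOf_mul_eq_mul_orderOf_of_coprime hco1
        have ho2 := hys.orderOf_mul_eq_mul_orderOf_of_coprime hco2
        rw [heq, ho2] at ho1
        -- `qx ∣ o(s)`, `qy ∣ o(r)`
        have h1 : qx ∣ orderOf s := by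
          have h2 : qx ∣ orderOf y * orderOf s := by rw [ho1]; exact hqxd.mul_right _
          rcases (Nat.Prime.dvd_mul hqx).mp h2 with h | h
          · exact absurd (hyσ qx hqx h) (hcommon qx (hxσ qx hqx hqxd))
          · exact h
        have h3 : qy ∣ orderOf r := by
          have h2 : qy ∣ orderOf x * orderOf r := by rw [← ho1]; exact hqyd.mul_right _
          rcases (Nat.Prime.dvd_mul hqy).mp h2 with h | h
          · exact absurd (hyσ qy hqy hqyd) (hcommon qy (hxσ qy hqy h))
          · exact h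
        have hσy : sigma Ny = sigma M :=
          sigma_eq_of_common hσ hM hNy (hxσ qx hqx hqxd) (hsp qx hqx h1)
        have hσx : sigma Nx = sigma N :=
          sigma_eq_of_common hσ hN hNx (hyσ qy hqy hqyd) (hrp qy hqy h3)
        -- `x = s`
        have heq' : x * r = s * y := by rw [heq]; exact hys.eq
        have hxs : x = s := by
          apply eq_of_mul_eq_mul_of_coprime hxr hys.symm heq'
          apply Nat.coprime_of_dvd
          intro k hk hk1 hk2
          have h4 : k ∈ sigma M := by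
            rcases (Nat.Prime.dvd_mul hk).mp hk1 with h | h
            · exact hxσ k hk h
            · rw [← hσy]; exact hsp k hk h
          have h5 : k ∈ sigma N := by
            rcases (Nat.Prime.dvd_mul hk).mp hk2 with h | h
            · rw [← hσx]; exact hrp k hk h
            · exact hyσ k hk h
          exact hcommon k h4 h5
        have hry : r = y := by
          rw [hxs] at heq'
          exact mul_left_cancel heq'
        -- now work in `M₁ = Ny`
        have hxNy : x ∈ sigmaCore Ny := by rw [hxs]; exact hsNy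
        have hyC : y ∈ Subgroup.centralizer ({y} : Set G) := mem_centralizer_singleton_iff.mpr rfl
        have hyNy : y ∈ Ny := hCyNy hyC
        have hyNx : y ∈ sigmaCore Nx := by rw [← hry]; exact hrNx
        by_cases hC : Subgroup.centralizer ({x} : Set G) ≤ Ny
        · have h6 : Ny = Nx := huniqx Ny hNy hC
          rw [h6, hσx] at hσy
          exact hcommon qx (hxσ qx hqx hqxd) (by rw [hσy]; exact hxσ qx hqx hqxd)
        · obtain ⟨N', hN', hCxN', -, -, -, hN'σ, -, -, -, -⟩ :=
            core hG hU h1409 h1416 h1417 h1424 h1432 hσ Ny hNy x hxNy hx1 hC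
          have h7 : N' = Nx := huniqx N' hN' hCxN'
          rw [h7] at hN'σ
          have h8 : y ∈ sigmaCore Nx ⊓ Ny := ⟨hyNx, hyNy⟩
          rw [hN'σ, Subgroup.mem_bot] at h8
          exact hy1 h8

end Cfsg.Agent.Lib.Helper22.BGFourteenFour
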