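import Mathlib
import Cfsg.Agent.Lib.Helper54.BGElevenA
import Cfsg.Agent.Lib.Helper54.UqNine4
import Cfsg.Agent.S1403

/-!
# Bender–Glauberman Corollary 12.14 (`S1423`), conditional form (helper22)

`s1423_of` proves the statement of `S1423` from the Uniqueness Theorem (`S1403`, landed) and the
literal statements of `S1412` (structure of Sylow subgroups of rank two), `S1414` (normal
`p`-complements of `M_σ` for `p ∉ β(M)`) and `S1422` (nonabelian `p`-subgroups lie in a unique
maximal subgroup).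
-/

set_option autoImplicit false

namespace Cfsg.Agent.Lib.Helper22.BGTwelveM

open scoped Pointwise commutatorElement
open Cfsg
open Cfsg.Agent.Lib.Helper34 (UniquenessThm)
open Cfsg.Agent.Lib.Helper54

variable {G : Type*} [Group G]

/-- The join of two commuting elementary abelian subgroups is elementary abelian. -/
theorem elemAb_sup {p : ℕ} (A B : Subgroup G)
    (hAc : ∀ x ∈ A, ∀ y ∈ A, x * y = y * x) (hBc : ∀ x ∈ B, ∀ y ∈ B, x * y = y * x)
    (hAB : ∀ x ∈ A, ∀ y ∈ B, x * y = y * x)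
    (hAe : ∀ x ∈ A, x ^ p = 1) (hBe : ∀ x ∈ B, x ^ p = 1) :
    (∀ x ∈ A ⊔ B, ∀ y ∈ A ⊔ B, x * y = y * x) ∧ ∀ x ∈ A ⊔ B, x ^ p = 1 := by
  have hA1 : A ≤ Subgroup.centralizer ((A ⊔ B : Subgroup G) : Set G) := by
    rw [Subgroup.le_centralizer_iff]
    apply sup_le
    · intro x hx
      rw [Subgroup.mem_centralizer_iff]
      intro y hy
      exact hAc y hy x hx
    · intro x hx
      rw [Subgroup.mem_centralizer_iff]
      intro y hy
      exact hAB y hy x hx
  have hB1 : B ≤ Subgroup.centralizer ((A ⊔ B : Subgroup G) : Set G) := by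
    rw [Subgroup.le_centralizer_iff]
    apply sup_le
    · intro x hx
      rw [Subgroup.mem_centralizer_iff]
      intro y hy
      exact (hAB x hx y hy).symm
    · intro x hx
      rw [Subgroup.mem_centralizer_iff]
      intro y hy
      exact hBc y hy x hx
  have hc : ∀ x ∈ A ⊔ B, ∀ y ∈ A ⊔ B, x * y = y * x := by
    intro x hx y hy
    have := (sup_le hA1 hB1) hy
    rw [Subgroup.mem_centralizer_iff] at this
    exact this x hx
  refine ⟨hc, ?_⟩
  let T : Subgroup G :=
    { carrier := {x | x ∈ A ⊔ B ∧ x ^ p = 1}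
      mul_mem' := by
        rintro a b ⟨ha, ha'⟩ ⟨hb, hb'⟩
        refine ⟨mul_mem ha hb, ?_⟩
        have hcomm : Commute a b := hc a ha b hb
        rw [hcomm.mul_pow, ha', hb', one_mul]
      one_mem' := ⟨one_mem _, one_pow _⟩
      inv_mem' := by
        rintro a ⟨ha, ha'⟩
        exact ⟨inv_mem ha, by rw [inv_pow, ha', inv_one]⟩ }
  have hAT : A ≤ T := fun x hx => ⟨Subgroup.mem_sup_left hx, hAe x hx⟩
  have hBT : B ≤ T := fun x hx => ⟨Subgroup.mem_sup_right hx, hBe x hx⟩
  intro x hx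
  exact ((sup_le hAT hBT) hx).2

/-- If a normal subgroup `N` of `H` has the complement `S`, then `S ∩ H' = S'`. -/
theorem inf_commutator_le_of_isComplement' {H : Type*} [Group H] (N S : Subgroup H) [N.Normal]
    (hc : N.IsComplement' S) : S ⊓ commutator H ≤ ⁅S, S⁆ := by
  intro x hx
  obtain ⟨hxS, hxc⟩ := Subgroup.mem_inf.mp hx
  have hSN : S ⊔ N = ⊤ := by rw [sup_comm]; exact hc.sup_eq_top
  have hmap : S.map (QuotientGroup.mk' N) = ⊤ := by
    rw [← Subgroup.map_top_of_surjective (QuotientGroup.mk' N) (QuotientGroup.mk'_surjective N),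
      ← hSN, Subgroup.map_sup]
    have : N.map (QuotientGroup.mk' N) = ⊥ := by
      rw [Subgroup.map_eq_bot_iff, QuotientGroup.ker_mk']
    rw [this, sup_bot_eq]
  have h1 : (QuotientGroup.mk' N) x ∈ (⁅S, S⁆ : Subgroup H).map (QuotientGroup.mk' N) := by
    rw [Subgroup.map_commutator, hmap]
    have h2 : x ∈ (⁅(⊤ : Subgroup H), ⊤⁆ : Subgroup H) := by
      rw [← commutator_def]; exact hxc
    have h3 := Subgroup.mem_map_of_mem (QuotientGroup.mk' N) h2
    rw [Subgroup.map_commutator,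
      Subgroup.map_top_of_surjective _ (QuotientGroup.mk'_surjective N)] at h3
    exact h3
  obtain ⟨y, hy, hyx⟩ := h1
  have hyS : y ∈ S := Subgroup.commutator_le_self S hy
  have h4 : y⁻¹ * x ∈ N := by
    have := (QuotientGroup.eq (s := N) (a := y) (b := x)).mp (by simpa using hyx)
    exact this
  have h5 : y⁻¹ * x ∈ N ⊓ S := Subgroup.mem_inf.mpr ⟨h4, mul_mem (inv_mem hyS) hxS⟩
  rw [hc.disjoint.eq_bot, Subgroup.mem_bot] at h5
  have : x = y := by
    have := congrArg (fun z => y * z) h5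
    simpa using this
  rw [this]; exact hy


/-- A group whose order divides `p ^ 2` is commutative. -/
theorem comm_of_card_dvd_sq {H : Type*} [Group H] {p : ℕ} [hp : Fact p.Prime]
    (h : Nat.card H ∣ p ^ 2) : ∀ a b : H, a * b = b * a := by
  obtain ⟨j, hj2, hj⟩ := (Nat.dvd_prime_pow hp.out).mp h
  have hcases : j ≤ 1 ∨ j = 2 := by omega
  rcases hcases with hj1 | rfl
  · have hdvd : Nat.card H ∣ p := by
      rw [hj]
      calc p ^ j ∣ p ^ 1 := pow_dvd_pow p hj1
        _ = p := pow_one p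
    have hcyc : IsCyclic H := isCyclic_of_card_dvd_prime hdvd
    intro a b
    exact hcyc.isMulCommutative.is_comm.comm a b
  · exact (IsPGroup.isMulCommutative_of_card_eq_prime_sq hj).is_comm.comm

/-- If `Q` normalizes `W` and `C_Q(W)` has index at most `p` in the `p`-group `Q`, then
`Q' ≤ C(W)`. -/
theorem commutator_le_centralizer_of_card_le [Finite G] {p : ℕ} [hp : Fact p.Prime]
    (Q W : Subgroup G) (hQ : IsPGroup p Q) (hQW : Q ≤ Subgroup.normalizer (W : Set G))
    (hcard : Nat.card Q ≤ p * Nat.card ↥(Q ⊓ Subgroup.centralizer (W : Set G))) :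
    ⁅Q, Q⁆ ≤ Subgroup.centralizer (W : Set G) := by
  set K : Subgroup ↥Q := (Subgroup.centralizer (W : Set G)).subgroupOf Q with hK
  have hKn : K.Normal := by
    constructor
    intro n hn g
    rw [hK, Subgroup.mem_subgroupOf] at hn ⊢
    rw [Subgroup.mem_centralizer_iff] at hn ⊢
    intro w hw
    have hg : (g : G) ∈ Subgroup.normalizer (W : Set G) := hQW g.2
    have hw' : (g : G)⁻¹ * w * (g : G) ∈ W := by
      have := (Subgroup.mem_normalizer_iff.mp (inv_mem hg) w).mp hw
      simpa using this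
    have h1 := hn _ hw'
    simp only [Subgroup.coe_mul, Subgroup.coe_inv]
    calc w * ((g : G) * n * (g : G)⁻¹) = (g : G) * (((g : G)⁻¹ * w * (g : G)) * n) * (g : G)⁻¹ := by
          group
      _ = (g : G) * (n * ((g : G)⁻¹ * w * (g : G))) * (g : G)⁻¹ := by rw [h1]
      _ = (g : G) * n * (g : G)⁻¹ * w := by group
  have hKcard : Nat.card K = Nat.card ↥(Q ⊓ Subgroup.centralizer (W : Set G)) := by
    rw [hK, ← Subgroup.inf_subgroupOf_left]
    exact Nat.card_congr (Subgroup.subgroupOfEquivOfLe inf_le_left).toEquiv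
  have hidx : K.index ∣ p := by
    have h1 : Nat.card K * K.index = Nat.card ↥Q := Subgroup.card_mul_index K
    obtain ⟨n, hn⟩ := hQ.exists_card_eq
    have h2 : K.index ∣ p ^ n := by
      rw [← hn, ← h1]; exact dvd_mul_left _ _
    obtain ⟨j, -, hj⟩ := (Nat.dvd_prime_pow hp.out).mp h2
    have hKpos : 0 < Nat.card K := Nat.card_pos
    have h3 : K.index ≤ p := by
      have : Nat.card K * K.index ≤ Nat.card K * p := by
        rw [h1, mul_comm _ p, hKcard]; exact hcard
      exact Nat.le_of_mul_le_mul_left this hKpos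
    rw [hj] at h3 ⊢
    have hj1 : j ≤ 1 := by
      by_contra hcon
      have h4 : p ^ 2 ≤ p ^ j := Nat.pow_le_pow_right hp.out.pos (by omega)
      have h5 : p < p ^ 2 := by
        have := hp.out.one_lt
        nlinarith
      omega
    calc p ^ j ∣ p ^ 1 := pow_dvd_pow p hj1
      _ = p := pow_one p
  have hcyc : IsCyclic (↥Q ⧸ K) :=
    isCyclic_of_card_dvd_prime (p := p) (by rw [← Subgroup.index_eq_card]; exact hidx)
  rw [Subgroup.commutator_le]
  intro a ha b hb
  have h1 : (QuotientGroup.mk' K) ⁅(⟨a, ha⟩ : ↥Q), ⟨b, hb⟩⁆ = 1 := by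
    rw [map_commutatorElement, commutatorElement_eq_one_iff_mul_comm]
    exact hcyc.isMulCommutative.is_comm.comm _ _
  have h2 : ⁅(⟨a, ha⟩ : ↥Q), ⟨b, hb⟩⁆ ∈ K := by
    rw [← QuotientGroup.ker_mk' K]; exact h1
  rw [hK, Subgroup.mem_subgroupOf] at h2
  simpa [commutatorElement_def] using h2

/-- A nontrivial `p`-subgroup has a central element of order `p`. -/
theorem exists_central_order_p [Finite G] {p : ℕ} [hp : Fact p.Prime] (Q : Subgroup G)
    (hQ : IsPGroup p Q) (hQ1 : Q ≠ ⊥) :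
    ∃ y ∈ Q, orderOf y = p ∧ ∀ q ∈ Q, q * y = y * q := by
  have hnt : Nontrivial ↥Q := (Subgroup.nontrivial_iff_ne_bot Q).mpr hQ1
  have hZnt : Nontrivial (Subgroup.center ↥Q) := hQ.center_nontrivial
  have hZp : IsPGroup p (Subgroup.center ↥Q) := hQ.to_subgroup _
  have hdvd : p ∣ Nat.card (Subgroup.center ↥Q) := by
    obtain ⟨n, hn⟩ := hZp.exists_card_eq
    have hn0 : n ≠ 0 := by
      rintro rfl
      rw [pow_zero] at hn
      have := (Nat.card_eq_one_iff_unique.mp hn).1
      exact not_subsingleton _ this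
    rw [hn]; exact dvd_pow_self p hn0
  obtain ⟨z, hz⟩ := exists_prime_orderOf_dvd_card' (G := ↥(Subgroup.center ↥Q)) p hdvd
  refine ⟨((z : ↥Q) : G), (z : ↥Q).2, ?_, ?_⟩
  · rw [Subgroup.orderOf_coe, Subgroup.orderOf_coe]; exact hz
  · intro q hq
    have h1 := Subgroup.mem_center_iff.mp z.2 ⟨q, hq⟩
    have h2 := congrArg (fun t : ↥Q => (t : G)) h1
    simpa using h2


/-- Elements of the join of two elementwise commuting subgroups are products. -/
theorem exists_mul_of_mem_sup_comm (A B : Subgroup G)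
    (hcomm : ∀ a ∈ A, ∀ b ∈ B, a * b = b * a) {x : G} (hx : x ∈ A ⊔ B) :
    ∃ a ∈ A, ∃ b ∈ B, x = a * b := by
  have comm : ∀ (m : ↥A) (n : ↥B), Commute (A.subtype m) (B.subtype n) :=
    fun m n => hcomm m.1 m.2 n.1 n.2
  have hrange : (A.subtype.noncommCoprod B.subtype comm).range = A ⊔ B := by
    rw [MonoidHom.noncommCoprod_range, Subgroup.range_subtype, Subgroup.range_subtype]
  rw [← hrange] at hx
  obtain ⟨⟨a, b⟩, rfl⟩ := hx
  exact ⟨a.1, a.2, b.1, b.2, rfl⟩

/-- In a group of order `p ^ 3` all commutators are central. -/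
theorem commutator_mem_center_of_card_cube {H : Type*} [Group H] [Finite H] {p : ℕ}
    [hp : Fact p.Prime] (hH : Nat.card H = p ^ 3) (a b : H) : ⁅a, b⁆ ∈ Subgroup.center H := by
  have hHp : IsPGroup p H := IsPGroup.of_card hH
  have hnt : Nontrivial H := by
    rw [← Finite.one_lt_card_iff_nontrivial, hH]
    exact Nat.one_lt_pow (by norm_num) hp.out.one_lt
  have hZnt : Nontrivial (Subgroup.center H) := hHp.center_nontrivial
  have hZp : IsPGroup p (Subgroup.center H) := hHp.to_subgroup _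
  obtain ⟨n, hn⟩ := hZp.exists_card_eq
  have hn0 : n ≠ 0 := by
    rintro rfl
    rw [pow_zero] at hn
    have := (Nat.card_eq_one_iff_unique.mp hn).1
    exact not_subsingleton _ this
  have h1 : Nat.card (Subgroup.center H) * (Subgroup.center H).index = p ^ 3 := by
    rw [Subgroup.card_mul_index, hH]
  have h2 : (Subgroup.center H).index ∣ p ^ 2 := by
    have hn3 : n ≤ 3 := by
      have : p ^ n ∣ p ^ 3 := by rw [← hn, ← h1]; exact dvd_mul_right _ _
      exact (Nat.pow_dvd_pow_iff_le_right hp.out.one_lt).mp this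
    have h3 : p ^ n * (Subgroup.center H).index = p ^ n * p ^ (3 - n) := by
      rw [← hn, h1, hn, ← pow_add]; congr 1; omega
    have h4 := Nat.eq_of_mul_eq_mul_left (pow_pos hp.out.pos n) h3
    rw [h4]
    exact pow_dvd_pow p (by omega)
  have hcomm := comm_of_card_dvd_sq (H := H ⧸ Subgroup.center H) (p := p)
    (by rw [← Subgroup.index_eq_card]; exact h2)
  have h5 : (QuotientGroup.mk' (Subgroup.center H)) ⁅a, b⁆ = 1 := by
    rw [map_commutatorElement, commutatorElement_eq_one_iff_mul_comm]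
    exact hcomm _ _
  rw [← QuotientGroup.ker_mk' (Subgroup.center H)]; exact h5

/-- The structure of `S1412` forces `Q' ≤ Z(Q)`. -/
theorem commutator_le_centralizer_of_structure [Finite G] {p : ℕ} [hp : Fact p.Prime]
    (Q P₁ P₂ : Subgroup G) (hsup : P₁ ⊔ P₂ = Q) (hcomm : ∀ a ∈ P₁, ∀ b ∈ P₂, a * b = b * a)
    (hcard : Nat.card P₁ = p ^ 3) (hcyc : IsCyclic P₂) :
    ⁅Q, Q⁆ ≤ Subgroup.centralizer (Q : Set G) := by
  -- `P₂` is central in `Q`
  have hP₂c : ∀ b ∈ P₂, ∀ q ∈ Q, q * b = b * q := by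
    intro b hb
    have h1 : P₁ ≤ Subgroup.centralizer ({b} : Set G) := by
      intro a ha
      rw [Subgroup.mem_centralizer_singleton_iff]
      exact hcomm a ha b hb
    have h2 : P₂ ≤ Subgroup.centralizer ({b} : Set G) := by
      intro c hc
      rw [Subgroup.mem_centralizer_singleton_iff]
      have := hcyc.isMulCommutative.is_comm.comm (⟨c, hc⟩ : ↥P₂) ⟨b, hb⟩
      exact congrArg Subtype.val this
    intro q hq
    have := (sup_le h1 h2) (hsup ▸ hq)
    rwa [Subgroup.mem_centralizer_singleton_iff] at this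
  -- commutators of `P₁` are central in `Q`
  have hP₁c : ∀ a ∈ P₁, ∀ b ∈ P₁, ∀ q ∈ Q, q * ⁅a, b⁆ = ⁅a, b⁆ * q := by
    intro a ha b hb
    have hz := commutator_mem_center_of_card_cube (H := ↥P₁) hcard ⟨a, ha⟩ ⟨b, hb⟩
    have hzP : ⁅a, b⁆ ∈ P₁ := by
      have : ((⁅(⟨a, ha⟩ : ↥P₁), ⟨b, hb⟩⁆ : ↥P₁) : G) = ⁅a, b⁆ := by
        simp [commutatorElement_def]
      rw [← this]; exact Subtype.property _
    have h1 : P₁ ≤ Subgroup.centralizer ({⁅a, b⁆} : Set G) := by
      intro c hc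
      rw [Subgroup.mem_centralizer_singleton_iff]
      have h2 := Subgroup.mem_center_iff.mp hz ⟨c, hc⟩
      have h3 := congrArg (fun t : ↥P₁ => (t : G)) h2
      simpa [commutatorElement_def] using h3
    have h2 : P₂ ≤ Subgroup.centralizer ({⁅a, b⁆} : Set G) := by
      intro c hc
      rw [Subgroup.mem_centralizer_singleton_iff]
      exact (hcomm _ hzP c hc).symm
    intro q hq
    have := (sup_le h1 h2) (hsup ▸ hq)
    rwa [Subgroup.mem_centralizer_singleton_iff] at this
  -- decomposition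
  have hdec : ∀ q ∈ Q, ∃ a ∈ P₁, ∃ b ∈ P₂, q = a * b := by
    intro q hq
    exact exists_mul_of_mem_sup_comm P₁ P₂ hcomm (hsup ▸ hq)
  rw [Subgroup.commutator_le]
  intro x hx y hy
  obtain ⟨a, ha, b, hb, rfl⟩ := hdec x hx
  obtain ⟨c, hc, d, hd, rfl⟩ := hdec y hy
  have haQ : a ∈ Q := hsup ▸ Subgroup.mem_sup_left ha
  have hcQ : c ∈ Q := hsup ▸ Subgroup.mem_sup_left hc
  have hbQ : b ∈ Q := hsup ▸ Subgroup.mem_sup_right hb
  have hdQ : d ∈ Q := hsup ▸ Subgroup.mem_sup_right hd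
  have key : ⁅a * b, c * d⁆ = ⁅a, c⁆ := by
    have e1 : c * b = b * c := hP₂c b hb c hcQ
    have e2 : d * b = b * d := hP₂c b hb d hdQ
    have e3 : a * d = d * a := hP₂c d hd a haQ
    have e4 : c * d = d * c := hP₂c d hd c hcQ
    have e5 : a * b = b * a := hP₂c b hb a haQ
    rw [commutatorElement_def, commutatorElement_def]
    -- a b c d b⁻¹ a⁻¹ d⁻¹ c⁻¹
    have : a * b * (c * d) = (a * c) * (b * d) := by
      calc a * b * (c * d) = a * (b * c) * d := by group
        _ = a * (c * b) * d := by rw [e1]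
        _ = (a * c) * (b * d) := by group
    rw [this]
    have h2 : (a * b)⁻¹ * (c * d)⁻¹ = (b * d)⁻¹ * (a⁻¹ * c⁻¹) := by
      have : (c * d) * (a * b) = (c * a) * (b * d) := by
        calc (c * d) * (a * b) = c * (d * a) * b := by group
          _ = c * (a * d) * b := by rw [e3]
          _ = c * a * (d * b) := by group
          _ = c * a * (b * d) := by rw [e2]
      calc (a * b)⁻¹ * (c * d)⁻¹ = ((c * d) * (a * b))⁻¹ := by group
        _ = ((c * a) * (b * d))⁻¹ := by rw [this]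
        _ = (b * d)⁻¹ * (a⁻¹ * c⁻¹) := by group
    calc a * c * (b * d) * (a * b)⁻¹ * (c * d)⁻¹ = a * c * (b * d) * ((a * b)⁻¹ * (c * d)⁻¹) := by
          group
      _ = a * c * (b * d) * ((b * d)⁻¹ * (a⁻¹ * c⁻¹)) := by rw [h2]
      _ = a * c * a⁻¹ * c⁻¹ := by group
  rw [key, Subgroup.mem_centralizer_iff]
  intro q hq
  exact hP₁c a ha c hc q hq

/-- A subgroup containing an elementary abelian subgroup of order greater than `p ^ 2` lies in a
unique maximal subgroup. -/
theorem inUniqueMaximal_of_elemAb (hU : UniquenessThm G) {p : ℕ} [hp : Fact p.Prime]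
    {K B : Subgroup G} (hK : K ≠ ⊤) (hBK : B ≤ K)
    (hBc : ∀ x ∈ B, ∀ y ∈ B, x * y = y * x) (hBexp : ∀ x ∈ B, x ^ p = 1)
    (hcard : p ^ 2 < Nat.card B) : InUniqueMaximal K := by
  have h2 : ¬ PRankLE p 2 ↥K := not_pRankLE_of_elemAb hBK hBc hBexp hcard
  have h1 : ¬ PRankLE p 1 ↥K := fun h => h2 (pRankLE_mono_right hp.out.pos (by norm_num) h)
  exact hU K hK (fun h => h1 (h p hp.out)) (Or.inl (fun h => h2 (h p hp.out)))


theorem inUniqueMaximal_of_not_pRankLE (hU : UniquenessThm G) {p : ℕ} [hp : Fact p.Prime]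
    {K : Subgroup G} (hK : K ≠ ⊤) (h2 : ¬ PRankLE p 2 ↥K) : InUniqueMaximal K := by
  have h1 : ¬ PRankLE p 1 ↥K := fun h => h2 (pRankLE_mono_right hp.out.pos (by norm_num) h)
  exact hU K hK (fun h => h1 (h p hp.out)) (Or.inl (fun h => h2 (h p hp.out)))

theorem exists_elemAb_of_not_pRankLE {p k : ℕ} {Q : Subgroup G} (h : ¬ PRankLE p k ↥Q) :
    ∃ B : Subgroup G, B ≤ Q ∧ (∀ x ∈ B, ∀ y ∈ B, x * y = y * x) ∧ (∀ x ∈ B, x ^ p = 1) ∧
      p ^ k < Nat.card B := by
  unfold PRankLE at h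
  push Not at h
  obtain ⟨E, hEc, hEexp, hEcard⟩ := h
  refine ⟨E.map Q.subtype, Subgroup.map_subtype_le _, ?_, ?_, ?_⟩
  · rintro _ ⟨x, hx, rfl⟩ _ ⟨y, hy, rfl⟩
    have h1 : (⟨x, hx⟩ : E) * ⟨y, hy⟩ = ⟨y, hy⟩ * ⟨x, hx⟩ := hEc.is_comm.comm _ _
    have h2 := congrArg (fun z : E => ((z : Q) : G)) h1
    simpa using h2
  · rintro _ ⟨x, hx, rfl⟩
    have h1 := hEexp x hx
    have h2 := congrArg (fun z : Q => (z : G)) h1
    simpa using h2
  · rw [Subgroup.card_map_of_injective Q.subtype_injective]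
    exact hEcard

/-- A commutative subgroup of a noncommutative group is proper. -/
theorem ne_top_of_comm (hnc : ¬ IsMulCommutative G) {B : Subgroup G}
    (hBc : ∀ x ∈ B, ∀ y ∈ B, x * y = y * x) : B ≠ ⊤ := by
  rintro rfl
  exact hnc ⟨⟨fun x y => hBc x (Subgroup.mem_top x) y (Subgroup.mem_top y)⟩⟩

/-- A `p`-subgroup of a minimal simple group is proper. -/
theorem pGroup_ne_top [Finite G] (hG : IsMinSimpleOddOrder G) {p : ℕ} [hp : Fact p.Prime]
    {Q : Subgroup G} (hQ : IsPGroup p Q) : Q ≠ ⊤ := by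
  have hs : IsSimpleGroup G := hG.2.1
  intro h
  apply hG.2.2.1
  have hGp : IsPGroup p G := by
    intro g
    obtain ⟨k, hk⟩ := hQ ⟨g, h ▸ Subgroup.mem_top g⟩
    exact ⟨k, by simpa using congrArg Subtype.val hk⟩
  have : Group.IsNilpotent G := hGp.isNilpotent
  exact ⟨⟨IsSimpleGroup.comm_iff_isSolvable.mpr inferInstance⟩⟩

theorem pow_eq_one_of_mem_of_card [Finite G] {p : ℕ} {X : Subgroup G} (hX : Nat.card X = p) {g : G}
    (hg : g ∈ X) : g ^ p = 1 := by
  have h1 : (⟨g, hg⟩ : ↥X) ^ Nat.card X = 1 := pow_card_eq_one'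
  rw [hX] at h1
  have h2 := congrArg (fun t : ↥X => (t : G)) h1
  simpa using h2

theorem comm_of_card_prime [Finite G] {p : ℕ} [hp : Fact p.Prime] {X : Subgroup G}
    (hX : Nat.card X = p) : ∀ a ∈ X, ∀ b ∈ X, a * b = b * a := by
  have hcyc : IsCyclic ↥X := isCyclic_of_prime_card hX
  intro a ha b hb
  exact congrArg Subtype.val (hcyc.isMulCommutative.is_comm.comm (⟨a, ha⟩ : ↥X) ⟨b, hb⟩)

theorem ne_bot_of_card_prime {p : ℕ} [hp : Fact p.Prime] {X : Subgroup G}
    (hX : Nat.card X = p) : X ≠ ⊥ := by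
  rintro rfl
  rw [Subgroup.card_bot] at hX
  exact hp.out.one_lt.ne hX

/-- The core of Corollary 12.14: for a Sylow `p`-subgroup `Q ≤ M` and `X ≤ Q` of order `p`, some
subgroup of `C_G(X) ∩ M` lies in a unique maximal subgroup. -/
theorem core [Finite G] (hG : IsMinSimpleOddOrder G) (hU : UniquenessThm G)
    (h1412 : ∀ (p : ℕ) [Fact p.Prime] (P : Sylow p G), PRankLE p 2 (P : Subgroup G) →
      IsMulCommutative (P : Subgroup G) ∨ ∃ P₁ P₂ : Subgroup G, P₁ ⊔ P₂ = (P : Subgroup G) ∧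
        (∀ a ∈ P₁, ∀ b ∈ P₂, a * b = b * a) ∧
        ¬ IsMulCommutative P₁ ∧ Nat.card P₁ = p ^ 3 ∧ Monoid.exponent P₁ = p ∧ IsCyclic P₂ ∧
        Subgroup.closure {x : G | x ∈ P₂ ∧ x ^ p = 1} = P₁ ⊓ Subgroup.centralizer (P₁ : Set G))
    (h1422 : ∀ (p : ℕ) [Fact p.Prime] (P : Subgroup G), IsPGroup p P → ¬ IsMulCommutative P →
      InUniqueMaximal P)
    (M : Subgroup G) (p : ℕ) [hp : Fact p.Prime]
    (Q : Subgroup G) (hQp : IsPGroup p Q)
    (hQmax : ∀ R : Subgroup G, IsPGroup p R → Q ≤ R → R = Q)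
    (hQM : Q ≤ M) (X : Subgroup G) (hXQ : X ≤ Q) (hX : Nat.card X = p)
    (h : (¬ PRankLE p 2 ↥M ∧ IsIdealPrime p G) ∨ X ≤ ⁅Q, Q⁆) :
    ∃ B : Subgroup G, B ≤ M ∧ B ≤ Subgroup.centralizer (X : Set G) ∧ InUniqueMaximal B := by
  have hnc : ¬ IsMulCommutative G := hG.2.2.1
  have hX1 : X ≠ ⊥ := ne_bot_of_card_prime hX
  have hQ1 : Q ≠ ⊥ := fun h => hX1 (le_bot_iff.mp (h ▸ hXQ))
  have hQtop : Q ≠ ⊤ := pGroup_ne_top hG hQp
  obtain ⟨S, rfl⟩ := exists_sylow_eq Q hQp hQmax
  rcases h with ⟨hα, hideal⟩ | hXD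
  · have hQ3 : ¬ PRankLE p 2 ↥(S : Subgroup G) := by
      intro h3
      exact hα (pRankLE_of_injective M.subtype M.subtype_injective (pRankLE_of_sylow S h3))
    obtain ⟨y, hyQ, hyo, hyc⟩ := exists_central_order_p (S : Subgroup G) hQp hQ1
    by_cases hyX : y ∈ X
    · have hYX : Subgroup.zpowers y ≤ X := (Subgroup.zpowers_le).mpr hyX
      have hYX' : Subgroup.zpowers y = X := by
        apply Subgroup.eq_of_le_of_card_ge hYX
        rw [Nat.card_zpowers, hyo, hX]
      refine ⟨S, hQM, ?_, inUniqueMaximal_of_not_pRankLE hU hQtop hQ3⟩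
      rw [Subgroup.le_centralizer_iff, ← hYX', Subgroup.zpowers_le, Subgroup.mem_centralizer_iff]
      intro q hq
      exact hyc q hq
    · set Y := Subgroup.zpowers y with hY
      have hYcard : Nat.card Y = p := by rw [hY, Nat.card_zpowers, hyo]
      have hdisj : X ⊓ Y = ⊥ := by
        rw [eq_bot_iff]
        intro g hg
        obtain ⟨hgX, hgY⟩ := Subgroup.mem_inf.mp hg
        rw [Subgroup.mem_bot]
        by_contra hg1
        have hgo : orderOf g = p := orderOf_eq_prime (pow_eq_one_of_mem_of_card hX hgX) hg1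
        have h2 : Subgroup.zpowers g = Y := by
          apply Subgroup.eq_of_le_of_card_ge ((Subgroup.zpowers_le).mpr hgY)
          rw [hYcard, Nat.card_zpowers, hgo]
        apply hyX
        have : y ∈ Subgroup.zpowers g := h2 ▸ Subgroup.mem_zpowers y
        exact ((Subgroup.zpowers_le).mpr hgX) this
      have hYC : Y ≤ Subgroup.centralizer (((S : Subgroup G) : Subgroup G) : Set G) := by
        rw [hY, Subgroup.zpowers_le, Subgroup.mem_centralizer_iff]
        exact hyc
      have hYN : Y ≤ Subgroup.normalizer (X : Set G) := by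
        refine le_trans ?_ (Subgroup.centralizer_le_normalizer _)
        exact hYC.trans (Subgroup.centralizer_le hXQ)
      have hAcard : Nat.card (X ⊔ Y : Subgroup G) = p ^ 2 := by
        rw [card_sup_of_le_normalizer hYN hdisj, hX, hYcard, sq]
      have hXc := comm_of_card_prime hX
      have hYc := comm_of_card_prime hYcard
      have hXYc : ∀ a ∈ X, ∀ b ∈ Y, a * b = b * a := by
        intro a ha b hb
        exact Subgroup.mem_centralizer_iff.mp (hYC hb) a (hXQ ha)
      obtain ⟨hAc, hAe⟩ := elemAb_sup (p := p) X Y hXc hYc hXYc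
        (fun x hx => pow_eq_one_of_mem_of_card hX hx)
        (fun x hx => pow_eq_one_of_mem_of_card hYcard hx)
      have hAQ : X ⊔ Y ≤ (S : Subgroup G) := sup_le hXQ ((Subgroup.zpowers_le).mpr hyQ)
      have hAel : IsElementaryAbelian p (X ⊔ Y) :=
        ⟨⟨⟨fun a b => Subtype.ext (hAc a a.2 b b.2)⟩⟩, hAe⟩
      obtain ⟨B, hBS, hBel, hAB⟩ := hideal.2.2 S (X ⊔ Y) hAQ hAel hAcard
      have hBc : ∀ x ∈ B, ∀ y ∈ B, x * y = y * x := fun x hx y hy =>
        congrArg Subtype.val (hBel.1.is_comm.comm (⟨x, hx⟩ : ↥B) ⟨y, hy⟩)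
      have hBcard : p ^ 2 < Nat.card B := by
        rw [← hAcard]
        apply lt_of_le_of_ne (Subgroup.card_le_of_le hAB.le)
        intro heq
        exact hAB.ne (Subgroup.eq_of_le_of_card_ge hAB.le heq.ge)
      refine ⟨B, hBS.trans hQM, ?_,
        inUniqueMaximal_of_elemAb hU (ne_top_of_comm hnc hBc) le_rfl hBc hBel.2 hBcard⟩
      intro b hb
      rw [Subgroup.mem_centralizer_iff]
      intro x hx
      exact hBc x (hAB.le (Subgroup.mem_sup_left hx)) b hb
  · have hna : ¬ IsMulCommutative ↥(S : Subgroup G) := by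
      intro hc
      have : ⁅(S : Subgroup G), (S : Subgroup G)⁆ = ⊥ := Subgroup.commutator_self_eq_bot_iff.mpr hc
      rw [this] at hXD
      exact hX1 (le_bot_iff.mp hXD)
    by_cases hr : PRankLE p 2 ↥(S : Subgroup G)
    · rcases h1412 p S hr with hc | ⟨P₁, P₂, hsup, hcomm, -, hcard, -, hcyc, -⟩
      · exact absurd hc hna
      · have h1 := commutator_le_centralizer_of_structure (S : Subgroup G) P₁ P₂ hsup hcomm hcard
          hcyc
        refine ⟨S, hQM, ?_, h1422 p S hQp hna⟩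
        rw [Subgroup.le_centralizer_iff]
        exact hXD.trans h1
    · obtain ⟨W, hWQ, hWc, hWe, hWcard, hQW, hWidx⟩ :=
        exists_normal_sq_centralizer (S : Subgroup G) hQp hr
      have h1 := commutator_le_centralizer_of_card_le (S : Subgroup G) W hQp hQW (hWidx _ le_rfl)
      have hWX : W ≤ Subgroup.centralizer (X : Set G) := by
        rw [Subgroup.le_centralizer_iff]; exact hXD.trans h1
      refine ⟨W, hWQ.trans hQM, hWX, ?_⟩
      obtain ⟨E, hEQ, hEc, hEe, hEcard⟩ := exists_elemAb_of_not_pRankLE hr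
      set E₁ := E ⊓ Subgroup.centralizer (W : Set G) with hE₁
      have hE₁W : ∀ a ∈ E₁, ∀ b ∈ W, a * b = b * a := by
        intro a ha b hb
        exact (Subgroup.mem_centralizer_iff.mp (Subgroup.mem_inf.mp ha).2 b hb).symm
      obtain ⟨hBc, hBe⟩ := elemAb_sup (p := p) E₁ W
        (fun a ha b hb => hEc a (Subgroup.mem_inf.mp ha).1 b (Subgroup.mem_inf.mp hb).1) hWc hE₁W
        (fun a ha => hEe a (Subgroup.mem_inf.mp ha).1) hWe
      have hWCW : W ≤ Subgroup.centralizer (W : Set G) := by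
        intro w hw
        rw [Subgroup.mem_centralizer_iff]
        intro v hv
        exact hWc v hv w hw
      have hBC : E₁ ⊔ W ≤ Subgroup.centralizer (W : Set G) := sup_le inf_le_right hWCW
      have hBcard : p ^ 2 < Nat.card (E₁ ⊔ W : Subgroup G) := by
        have hEp : IsPGroup p E := hQp.to_le hEQ
        obtain ⟨k, hk⟩ := hEp.exists_card_eq
        have hk3 : 3 ≤ k := by
          by_contra hcon
          have : p ^ k ≤ p ^ 2 := Nat.pow_le_pow_right hp.out.pos (by omega)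
          omega
        have hE₁card : p ^ 2 ≤ Nat.card E₁ := by
          have h3 := hWidx E hEQ
          have h4 : p ^ 3 ≤ Nat.card E := hk ▸ Nat.pow_le_pow_right hp.out.pos hk3
          have : p * p ^ 2 ≤ p * Nat.card E₁ := by
            rw [← pow_succ']; exact h4.trans h3
          exact Nat.le_of_mul_le_mul_left this hp.out.pos
        by_contra hle
        rw [not_lt] at hle
        have h5 : Nat.card E₁ ≤ Nat.card (E₁ ⊔ W : Subgroup G) :=
          Subgroup.card_le_of_le le_sup_left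
        have h6 : E₁ = E₁ ⊔ W := Subgroup.eq_of_le_of_card_ge le_sup_left (by omega)
        have h7 : W = E₁ ⊔ W :=
          Subgroup.eq_of_le_of_card_ge le_sup_right (by rw [hWcard]; exact hle)
        have h8 : W = E₁ := h7.trans h6.symm
        have hWE : W ≤ E := h8 ▸ inf_le_left
        have hEC : E ≤ Subgroup.centralizer (W : Set G) := by
          intro e he
          rw [Subgroup.mem_centralizer_iff]
          intro w hw
          exact hEc w (hWE hw) e he
        have hE₁E : E₁ = E := inf_eq_left.mpr hEC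
        rw [← hE₁E, ← h8, hWcard] at hEcard
        exact lt_irrefl _ hEcard
      have h2 : ¬ PRankLE p 2 ↥(Subgroup.centralizer (W : Set G)) :=
        not_pRankLE_of_elemAb hBC hBc hBe hBcard
      have h1' : ¬ PRankLE p 1 ↥W :=
        not_pRankLE_of_elemAb le_rfl hWc hWe (by
          rw [hWcard]; exact Nat.pow_lt_pow_right hp.out.one_lt (by norm_num))
      exact hU W (ne_top_of_comm hnc hWc) (fun h => h1' (h p hp.out))
        (Or.inr (fun h => h2 (h p hp.out)))

/-- **S1423, conditional form** (Bender–Glauberman Corollary 12.14). -/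
theorem s1423_of [Finite G] (hG : IsMinSimpleOddOrder G)
    (h1412 : ∀ (p : ℕ) [Fact p.Prime] (P : Sylow p G), PRankLE p 2 (P : Subgroup G) →
      IsMulCommutative (P : Subgroup G) ∨ ∃ P₁ P₂ : Subgroup G, P₁ ⊔ P₂ = (P : Subgroup G) ∧
        (∀ a ∈ P₁, ∀ b ∈ P₂, a * b = b * a) ∧
        ¬ IsMulCommutative P₁ ∧ Nat.card P₁ = p ^ 3 ∧ Monoid.exponent P₁ = p ∧ IsCyclic P₂ ∧
        Subgroup.closure {x : G | x ∈ P₂ ∧ x ^ p = 1} = P₁ ⊓ Subgroup.centralizer (P₁ : Set G))
    (h1414 : ∀ M : Subgroup G, IsCoatom M → ∀ p : ℕ, p.Prime → p ∣ Nat.card M → p ∉ beta M →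
      HasNormalPComplement p ↥(sigmaCore M))
    (h1422 : ∀ (p : ℕ) [Fact p.Prime] (P : Subgroup G), IsPGroup p P → ¬ IsMulCommutative P →
      InUniqueMaximal P)
    (M : Subgroup G) (hM : IsCoatom M) (p : ℕ) [hp : Fact p.Prime] (hpσ : p ∈ sigma M)
    (X : Subgroup G) (hXM : X ≤ M) (hX : Nat.card X = p) (P : Sylow p ↥(sigmaCore M))
    (h : p ∈ beta M ∨ X ≤ ⁅sigmaCore M, sigmaCore M⁆) :
    (Subgroup.centralizer (X : Set G) ≤ M ∧
        ∀ L : Subgroup G, IsCoatom L → Subgroup.centralizer (X : Set G) ≤ L → L = M) ∧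
      InUniqueMaximal ((P : Subgroup ↥(sigmaCore M)).map (sigmaCore M).subtype) ∧
      (P : Subgroup ↥(sigmaCore M)).map (sigmaCore M).subtype ≤ M := by
  have hU : UniquenessThm G := fun K hK h1 h3 => Cfsg.Agent.S1403.result hG K hK h1 h3
  have hs : IsSimpleGroup G := hG.2.1
  have hnc : ¬ IsMulCommutative G := hG.2.2.1
  have hXp : IsPGroup p X := IsPGroup.of_card (n := 1) (by rw [hX, pow_one])
  have hX1 : X ≠ ⊥ := ne_bot_of_card_prime hX
  have hMsM : sigmaCore M ≤ M := sigmaCore_le M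
  have hXMs : X ≤ sigmaCore M := by
    rcases h with hβ | hXD
    · apply le_sigmaCore_of_isPi hG hU M hM hXM
      intro r hr hrX
      rw [hX] at hrX
      rwa [(Nat.prime_dvd_prime_iff_eq hr hp.out).mp hrX]
    · exact hXD.trans (Subgroup.commutator_le_self _)
  obtain ⟨S₁, hXS₁⟩ := exists_sylow_map_ge hXMs hXp
  obtain ⟨hQmax, -⟩ := sylow_sigmaCore_facts hG hU M hM p hpσ S₁
  have hQp : IsPGroup p ((S₁ : Subgroup ↥(sigmaCore M)).map (sigmaCore M).subtype) :=
    S₁.isPGroup'.map _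
  have hQM : (S₁ : Subgroup ↥(sigmaCore M)).map (sigmaCore M).subtype ≤ M :=
    (Subgroup.map_subtype_le _).trans hMsM
  obtain ⟨hP0max, -⟩ := sylow_sigmaCore_facts hG hU M hM p hpσ P
  have hP0p : IsPGroup p ((P : Subgroup ↥(sigmaCore M)).map (sigmaCore M).subtype) :=
    P.isPGroup'.map _
  have hP0M : (P : Subgroup ↥(sigmaCore M)).map (sigmaCore M).subtype ≤ M :=
    (Subgroup.map_subtype_le _).trans hMsM
  have hmain : ((¬ PRankLE p 2 ↥M ∧ IsIdealPrime p G) ∨
        X ≤ ⁅(S₁ : Subgroup ↥(sigmaCore M)).map (sigmaCore M).subtype,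
          (S₁ : Subgroup ↥(sigmaCore M)).map (sigmaCore M).subtype⁆) ∧
      InUniqueMaximal ((P : Subgroup ↥(sigmaCore M)).map (sigmaCore M).subtype) := by
    by_cases hβ : p ∈ beta M
    · have hα : ¬ PRankLE p 2 ↥M := hβ.1.2
      refine ⟨Or.inl ⟨hα, hβ.2⟩, ?_⟩
      obtain ⟨S0, hS0⟩ := exists_sylow_eq _ hP0p hP0max
      apply inUniqueMaximal_of_not_pRankLE (p := p) hU (pGroup_ne_top hG hP0p)
      intro h3
      rw [← hS0] at h3
      exact hα (pRankLE_of_injective M.subtype M.subtype_injective (pRankLE_of_sylow S0 h3))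
    · have hXD : X ≤ ⁅sigmaCore M, sigmaCore M⁆ := h.resolve_left hβ
      obtain ⟨S', N, hN, hNS'⟩ := h1414 M hM p hp.out hpσ.2.1 hβ
      have hcardS : Nat.card (S₁ : Subgroup ↥(sigmaCore M)) = Nat.card (S' : Subgroup ↥(sigmaCore M)) := by
        rw [Sylow.card_eq_multiplicity, Sylow.card_eq_multiplicity]
      have hNS₁ : N.IsComplement' (S₁ : Subgroup ↥(sigmaCore M)) := by
        apply Subgroup.isComplement'_of_coprime
        · rw [hcardS]; exact hNS'.card_mul_card
        · rw [hcardS, ← hNS'.index_eq_card]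
          exact (S'.card_coprime_index).symm
      have := hN
      have hL2 := inf_commutator_le_of_isComplement' N (S₁ : Subgroup ↥(sigmaCore M)) hNS₁
      have hXQD : X ≤ ⁅(S₁ : Subgroup ↥(sigmaCore M)).map (sigmaCore M).subtype,
          (S₁ : Subgroup ↥(sigmaCore M)).map (sigmaCore M).subtype⁆ := by
        intro x hx
        obtain ⟨s, hs, hsx⟩ := hXS₁ hx
        have hxD := hXD hx
        rw [← Subgroup.map_subtype_commutator] at hxD
        obtain ⟨c, hc, hcx⟩ := hxD
        have hsc : s = c := Subtype.ext (hsx.trans hcx.symm)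
        have h1 : s ∈ ⁅(S₁ : Subgroup ↥(sigmaCore M)), (S₁ : Subgroup ↥(sigmaCore M))⁆ :=
          hL2 (Subgroup.mem_inf.mpr ⟨hs, hsc ▸ hc⟩)
        rw [← Subgroup.map_commutator]
        exact ⟨s, h1, hsx⟩
      refine ⟨Or.inr hXQD, ?_⟩
      have hna : ¬ IsMulCommutative ↥((S₁ : Subgroup ↥(sigmaCore M)).map (sigmaCore M).subtype) := by
        intro hc
        rw [Subgroup.commutator_self_eq_bot_iff.mpr hc] at hXQD
        exact hX1 (le_bot_iff.mp hXQD)
      have hQU := h1422 p _ hQp hna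
      obtain ⟨g, hg⟩ := MulAction.exists_smul_eq ↥(sigmaCore M) S₁ P
      have hconj : (P : Subgroup ↥(sigmaCore M)).map (sigmaCore M).subtype =
          MulAut.conj (g : G) • (S₁ : Subgroup ↥(sigmaCore M)).map (sigmaCore M).subtype := by
        rw [← hg, Sylow.smul_def, Sylow.pointwise_smul_def]
        exact map_conj_smul (sigmaCore M) g (S₁ : Subgroup ↥(sigmaCore M))
      rw [hconj]
      exact inUniqueMaximal_conj_smul hQU _
  obtain ⟨hcore, hP0U⟩ := hmain
  obtain ⟨B, hBM, hBC, hBU⟩ := core hG hU h1412 h1422 M p _ hQp hQmax hQM X hXS₁ hX hcore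
  obtain ⟨L₀, hL₀, hBL₀, hBuniq⟩ := exists_forall_of_inUniqueMaximal hBU
  have hL₀M : L₀ = M := (hBuniq M hM hBM).symm
  have hCtop : Subgroup.centralizer (X : Set G) ≠ ⊤ := by
    obtain ⟨a, ha⟩ := Subgroup.ne_bot_iff_exists_ne_one.mp hX1
    have ha' : (a : G) ≠ 1 := fun h => ha (Subtype.ext h)
    intro htop
    apply centralizer_singleton_ne_top hs hnc ha'
    rw [eq_top_iff, ← htop]
    exact Subgroup.centralizer_le (Set.singleton_subset_iff.mpr a.2)
  refine ⟨⟨?_, ?_⟩, hP0U, hP0M⟩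
  · exact le_of_unique_coatom (M := M) (fun L hL hBL => (hBuniq L hL hBL).trans hL₀M) hCtop hBC
  · intro L hL hCL
    exact (hBuniq L hL (hBC.trans hCL)).trans hL₀M

end Cfsg.Agent.Lib.Helper22.BGTwelveM
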