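import Mathlib
import Cfsg.Prelude.Def_OddOrderLocal

/-!
# Bender–Glauberman Corollary 15.9 and Lemmas 14.10/14.11 (S1376, S1436): shared definitions (helper22)

`Ctx M N Nstar K U x p t` bundles the configuration reached after the set-up step of the proof
of S1376: `x ∈ M_σ` has prime order `p`, `C_G(x) ⊄ M`, `N` is the unique maximal subgroup
containing `C_G(x)`, `κ(N) ≠ ∅`, `N = K U N_σ` is a standard factorisation with `K, U ≤ M ∩ N`,
`|K| = t` is a prime, `Nstar` is the partner of `N` (B&G 14.7), and the conclusions of B&G 14.6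
(S1435) for `H := M` hold.
-/

set_option autoImplicit false
set_option linter.unusedVariables false

namespace Cfsg.Agent.Lib.Helper22.BGFifteenNine

open Cfsg

universe u

variable (G : Type u) [Group G]

/-- The frozen statement of S1366 for the group `G`. -/
def Stmt1366 : Prop :=
  ∀ (M : Subgroup G) (hM : IsCoatom M) (K U : Subgroup G) (hKU : Cfsg.IsSigmaDecomposition M K U) (hK1 : K ≠ ⊥),
    ∃! Mstar : Subgroup G, IsCoatom Mstar ∧ K = Cfsg.sigmaCore Mstar ⊓ Subgroup.centralizer ((Cfsg.sigmaCore M ⊓ Subgroup.centralizer (K : Set G)) : Set G) ∧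
        Cfsg.IsPiHallOf (Cfsg.kappa Mstar) (Cfsg.sigmaCore M ⊓ Subgroup.centralizer (K : Set G)) Mstar

/-- The frozen statement of S1367 for the group `G`. -/
def Stmt1367 : Prop :=
  ∀ (M : Subgroup G) (hM : IsCoatom M) (K U : Subgroup G) (hKU : Cfsg.IsSigmaDecomposition M K U) (hK1 : K ≠ ⊥) (Mstar : Subgroup G) (hMstar : IsCoatom Mstar) (hKst : K = Cfsg.sigmaCore Mstar ⊓ Subgroup.centralizer ((Cfsg.sigmaCore M ⊓ Subgroup.centralizer (K : Set G)) : Set G)) (hKstH : Cfsg.IsPiHallOf (Cfsg.kappa Mstar) (Cfsg.sigmaCore M ⊓ Subgroup.centralizer (K : Set G)) Mstar),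
    (∀ X : Subgroup G, X ≤ (Cfsg.sigmaCore M ⊓ Subgroup.centralizer (K : Set G)) → (Nat.card X).Prime →
        Subgroup.centralizer (X : Set G) ≤ M ∧ ∀ L : Subgroup G, IsCoatom L → Subgroup.centralizer (X : Set G) ≤ L → L = M) ∧
      (∀ Y : Subgroup G, Y ≤ K → (Nat.card Y).Prime →
        Subgroup.centralizer (Y : Set G) ≤ Mstar ∧ ∀ L : Subgroup G, IsCoatom L → Subgroup.centralizer (Y : Set G) ≤ L → L = Mstar)

variable {G}

/-- The configuration of B&G Corollary 15.9 after the set-up step (see the module docstring). -/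
structure Ctx (M N Nstar K U : Subgroup G) (x : G) (p t : ℕ) : Prop where
  hM : IsCoatom M
  hN : IsCoatom N
  hNs : IsCoatom Nstar
  pp : p.Prime
  tp : t.Prime
  hxo : orderOf x = p
  hxσ : x ∈ sigmaCore M
  hCxN : Subgroup.centralizer ({x} : Set G) ≤ N
  hCxM : ¬ Subgroup.centralizer ({x} : Set G) ≤ M
  huniq : ∀ L : Subgroup G, IsCoatom L → Subgroup.centralizer ({x} : Set G) ≤ L → L = N
  hNx : Subgroup.normalizer ((Subgroup.zpowers x : Subgroup G) : Set G) ≤ N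
  hconj : ∀ g : G, N ≠ M.map (MulAut.conj g).toMonoidHom
  hσσ : ∀ q ∈ sigma M, q ∉ sigma N
  hNσnil : Group.IsNilpotent (sigmaCore N)
  hNσM : sigmaCore N ⊓ M = ⊥
  hfact : ∀ n ∈ N, ∃ e ∈ M ⊓ N, ∃ s ∈ sigmaCore N, n = e * s
  hr : ∃ r ∈ sigmaCore N ⊓ Subgroup.centralizer ({x} : Set G), r ≠ 1
  hpτ : p ∈ tau2 N
  hKU : IsSigmaDecomposition N K U
  hUab : ∀ a ∈ U, ∀ b ∈ U, a * b = b * a
  hUfpf : ∀ k ∈ K, k ≠ 1 → U ⊓ Subgroup.centralizer ({k} : Set G) = ⊥
  hUhall : IsPiHallOf {q | q.Prime ∧ q ∉ kappa N ∧ q ∉ sigma N} U N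
  hKt : Nat.card K = t
  hKst : K = sigmaCore Nstar ⊓
    Subgroup.centralizer ((sigmaCore N ⊓ Subgroup.centralizer (K : Set G) : Subgroup G) : Set G)
  hKstH : IsPiHallOf (kappa Nstar) (sigmaCore N ⊓ Subgroup.centralizer (K : Set G)) Nstar
  hCK : Subgroup.centralizer (K : Set G) ≤ Nstar
  hCKuniq : ∀ L : Subgroup G, IsCoatom L → Subgroup.centralizer (K : Set G) ≤ L → L = Nstar
  hCKs : ∀ X : Subgroup G, X ≤ sigmaCore N ⊓ Subgroup.centralizer (K : Set G) →
    (Nat.card X).Prime → Subgroup.centralizer (X : Set G) ≤ N ∧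
      ∀ L : Subgroup G, IsCoatom L → Subgroup.centralizer (X : Set G) ≤ L → L = N
  hκM : kappa M = ∅
  hUσ : U ≤ sigmaCore M
  hNM : N ⊓ M = U ⊔ K
  hNU : ¬ M ⊓ Subgroup.normalizer (U : Set G) ≤ N
  hKF : K ≤ fittingOf (M ⊓ Nstar)
  hE : IsComplIn (M ⊓ Nstar) (sigmaCore M) M

end Cfsg.Agent.Lib.Helper22.BGFifteenNine
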