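import Mathlib
import Cfsg.Agent.S1350
import Cfsg.Agent.S1351
import Cfsg.Agent.S1403
import Cfsg.Agent.S1409
import Cfsg.Agent.S1416
import Cfsg.Agent.S1417
import Cfsg.Agent.S1420
import Cfsg.Agent.S1424
import Cfsg.Agent.S1429
import Cfsg.Agent.S1430
import Cfsg.Agent.S1431
import Cfsg.Agent.S1432
import Cfsg.Agent.S1434
import Cfsg.Agent.S1435
import Cfsg.Agent.S1378
import Cfsg.Agent.Lib.Helper22.BGFourteenFourC
import Cfsg.Agent.Lib.Helper22.BGFifteenNineDefs
import Cfsg.Agent.Lib.Helper50.Lemma141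
import Cfsg.Agent.Lib.Helper50.SigmaDecomp
import Cfsg.Agent.Lib.Helper23.BGFourteenB
import Cfsg.Agent.Lib.Helper34.FittingSigma

/-!
# B&G Corollary 15.9 (S1376): unconditional basics and consequences of `Ctx` (helper22)
-/

set_option autoImplicit false
set_option linter.style.haveILetI false
set_option linter.unusedVariables false
set_option linter.unusedSectionVars false

namespace Cfsg.Agent.Lib.Helper22.BGFifteenNine

open scoped Pointwise
open Cfsg
open Cfsg.Agent.Lib.Helper34 (UniquenessThm)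
open Cfsg.Agent.Lib.Helper54
open Cfsg.Agent.Lib.Helper22.BGFourteenFour

universe u

variable {G : Type u} [Group G] [Finite G]

/-- The Uniqueness Theorem (landed S1403). -/
theorem uniq (hG : IsMinSimpleOddOrder G) : UniquenessThm G :=
  fun K h1 h2 h3 => Cfsg.Agent.S1403.result hG K h1 h2 h3

/-- The rank-three part of the Uniqueness Theorem. -/
theorem uniq3 (hG : IsMinSimpleOddOrder G) : Cfsg.Agent.Lib.Helper50.UniqThree G :=
  fun K hK h1 h2 => Cfsg.Agent.S1403.result hG K hK h1 (Or.inl h2)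

/-- B&G Theorem 13.9 in the form `SigmaDisjoint` (landed S1378). -/
theorem sdisj (hG : IsMinSimpleOddOrder G) : SigmaDisjoint G := by
  intro M L hM hL hconj p hpM hpL
  obtain ⟨g, hg⟩ := (Cfsg.Agent.S1378.result hG).2 M L hM hL ⟨p, hpM, hpL⟩
  apply hconj g⁻¹
  rw [hg]
  exact Cfsg.Agent.Lib.Helper34.map_conj_inv_map_conj M g

/-- B&G Theorem 14.4 (a)–(f), unconditional form of `BGFourteenFour.core`. -/
theorem coreU (hG : IsMinSimpleOddOrder G)
    (M : Subgroup G) (hM : IsCoatom M) (x : G) (hx : x ∈ sigmaCore M) (hx1 : x ≠ 1)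
    (hxM : ¬ Subgroup.centralizer ({x} : Set G) ≤ M) :
    ∃ N : Subgroup G, IsCoatom N ∧ Subgroup.centralizer ({x} : Set G) ≤ N ∧
      (∀ g : G, N ≠ M.map (MulAut.conj g).toMonoidHom) ∧
      (∀ q ∈ sigma M, q ∉ sigma N) ∧
      Group.IsNilpotent (sigmaCore N) ∧ sigmaCore N ⊓ M = ⊥ ∧
      (∀ n ∈ N, ∃ e ∈ M ⊓ N, ∃ s ∈ sigmaCore N, n = e * s) ∧
      (∃ r ∈ sigmaCore N ⊓ Subgroup.centralizer ({x} : Set G), r ≠ 1) ∧
      (∀ q : ℕ, q.Prime → q ∣ orderOf x → q ∈ tau2 N) ∧
      (∀ L : Subgroup G, IsCoatom L → Subgroup.centralizer ({x} : Set G) ≤ L → L = N) :=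
  core hG (uniq hG)
    (fun M hM p _ hp X hX hN => Cfsg.Agent.S1409.result hG M hM p hp X hX hN)
    (fun M hM p _ A hA => (Cfsg.Agent.S1416.result hG M hM p A hA).1)
    (fun M hM p _ hp A hA => Cfsg.Agent.S1417.result hG M hM p hp A hA)
    (fun M hM q _ hq X hX hX1 hXM Ms hMs hne hN S hS =>
      Cfsg.Agent.S1424.result hG M hM q hq X hX hX1 hXM Ms hMs hne hN S hS)
    (fun M hM x hx hx1 x' hx' hx'1 h =>
      Cfsg.Agent.S1432.result hG M hM x hx hx1 x' hx' hx'1 h)
    (sdisj hG) M hM x hx hx1 hxM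

/-! ### Consequences of `Ctx` -/

section CtxFacts

variable {M N Nstar K U : Subgroup G} {x : G} {p t : ℕ}

theorem mem_centralizer_zpowers_of_commute {y k : G} (h : y * k = k * y) :
    y ∈ Subgroup.centralizer ((Subgroup.zpowers k : Subgroup G) : Set G) := by
  rw [Subgroup.mem_centralizer_iff]
  intro g hg
  obtain ⟨n, rfl⟩ := Subgroup.mem_zpowers_iff.mp hg
  exact ((show Commute y k from h).zpow_right n).eq.symm

namespace Ctx

theorem hx1 (h : Ctx M N Nstar K U x p t) : x ≠ 1 := by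
  intro hx
  have := h.hxo
  rw [hx, orderOf_one] at this
  exact h.pp.one_lt.ne this

theorem inf_sigmaCore (h : Ctx M N Nstar K U x p t) : (M ⊓ Nstar) ⊓ sigmaCore M = ⊥ :=
  h.hE.2.2.1

theorem sigmaCore_inf_Nstar (h : Ctx M N Nstar K U x p t) : sigmaCore M ⊓ Nstar = ⊥ := by
  rw [eq_bot_iff, ← h.inf_sigmaCore]
  intro g hg
  exact ⟨⟨sigmaCore_le M hg.1, hg.2⟩, hg.1⟩

theorem sigmaCore_inf_centralizer (h : Ctx M N Nstar K U x p t) :
    sigmaCore M ⊓ Subgroup.centralizer (K : Set G) = ⊥ := by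
  rw [eq_bot_iff, ← h.sigmaCore_inf_Nstar]
  exact inf_le_inf_left _ h.hCK

theorem K_ne_bot (h : Ctx M N Nstar K U x p t) : K ≠ ⊥ := by
  intro hK
  have := h.hKt
  rw [hK, Subgroup.card_bot] at this
  exact h.tp.one_lt.ne this

theorem K_le (h : Ctx M N Nstar K U x p t) : K ≤ M ⊓ Nstar :=
  fun k hk => Cfsg.Agent.Lib.Helper34.fittingOf_le _ (h.hKF hk)

theorem K_inf_sigmaCore (h : Ctx M N Nstar K U x p t) : K ⊓ sigmaCore M = ⊥ := by
  rw [eq_bot_iff, ← h.inf_sigmaCore]
  exact inf_le_inf_right _ h.K_le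

/-- a generator of `K` -/
theorem exists_gen (h : Ctx M N Nstar K U x p t) :
    ∃ k ∈ K, k ≠ 1 ∧ k ^ t = 1 ∧ K = Subgroup.zpowers k := by
  haveI := h.hKU.cyclic
  obtain ⟨g, hg⟩ := IsCyclic.exists_generator (α := K)
  refine ⟨g, g.2, ?_, ?_, ?_⟩
  · intro h1
    apply h.K_ne_bot
    rw [eq_bot_iff]
    intro y hy
    have := hg ⟨y, hy⟩
    obtain ⟨n, hn⟩ := Subgroup.mem_zpowers_iff.mp this
    have h2 : (g : G) ^ n = y := by
      have := congrArg Subtype.val hn
      simpa using this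
    rw [Subgroup.mem_bot, ← h2, h1, one_zpow]
  · have : g ^ Nat.card K = 1 := pow_card_eq_one'
    rw [h.hKt] at this
    have := congrArg Subtype.val this
    simpa using this
  · apply le_antisymm
    · intro y hy
      obtain ⟨n, hn⟩ := Subgroup.mem_zpowers_iff.mp (hg ⟨y, hy⟩)
      have h2 : (g : G) ^ n = y := by
        have := congrArg Subtype.val hn
        simpa using this
      rw [← h2]
      exact Subgroup.zpow_mem_zpowers _ n
    · exact Subgroup.zpowers_le.mpr g.2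

/-- `M_σ` is nilpotent (Thompson: `K` of prime order acts on it without fixed points). -/
theorem sigmaCore_nilpotent (h : Ctx M N Nstar K U x p t) : Group.IsNilpotent (sigmaCore M) := by
  obtain ⟨k, hk, hk1, hkt, hKk⟩ := h.exists_gen
  have hkM : k ∈ M := (h.K_le hk).1
  refine Cfsg.Agent.Lib.Helper50.isNilpotent_of_fpf_conj h.tp (sigmaCore M) k hkt ?_ ?_
  · intro y hy
    exact Cfsg.Agent.Lib.Helper50.conj_mem_sigmaCore hkM hy
  · intro y hy hky
    have h1 : y ∈ sigmaCore M ⊓ Subgroup.centralizer (K : Set G) := by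
      refine ⟨hy, ?_⟩
      rw [hKk]
      exact mem_centralizer_zpowers_of_commute hky.symm
    rw [h.sigmaCore_inf_centralizer] at h1
    exact Subgroup.mem_bot.mp h1

theorem U_le_N (h : Ctx M N Nstar K U x p t) : U ≤ N := h.hKU.compl.1

theorem K_le_N (h : Ctx M N Nstar K U x p t) : K ≤ N := h.hKU.hall.1

/-- `U = M_σ ∩ N`. -/
theorem U_eq (h : Ctx M N Nstar K U x p t) : U = sigmaCore M ⊓ N := by
  apply le_antisymm
  · exact le_inf h.hUσ h.U_le_N
  · intro g hg
    have hgNM : g ∈ N ⊓ M := ⟨hg.2, sigmaCore_le M hg.1⟩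
    rw [h.hNM, sup_comm] at hgNM
    obtain ⟨k, hk, u, hu, rfl⟩ :=
      Cfsg.Agent.Lib.Helper23.exists_mul_of_mem_sup_h23 h.hKU.normal hgNM
    have hkσ : k ∈ sigmaCore M := by
      have := (sigmaCore M).mul_mem hg.1 ((sigmaCore M).inv_mem (h.hUσ hu))
      simpa using this
    have : k ∈ K ⊓ sigmaCore M := ⟨hk, hkσ⟩
    rw [h.K_inf_sigmaCore, Subgroup.mem_bot] at this
    rw [this, one_mul]
    exact hu

theorem hxN (h : Ctx M N Nstar K U x p t) : x ∈ N :=
  h.hCxN (Subgroup.mem_centralizer_singleton_iff.mpr rfl)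

theorem hxU (h : Ctx M N Nstar K U x p t) : x ∈ U := by
  rw [h.U_eq]
  exact ⟨h.hxσ, h.hxN⟩

/-- `C_{M_σ}(x) = U`. -/
theorem sigmaCore_inf_centralizer_x (h : Ctx M N Nstar K U x p t) :
    sigmaCore M ⊓ Subgroup.centralizer ({x} : Set G) = U := by
  apply le_antisymm
  · rw [h.U_eq]
    exact inf_le_inf_left _ h.hCxN
  · refine le_inf h.hUσ ?_
    intro u hu
    rw [Subgroup.mem_centralizer_singleton_iff]
    exact h.hUab u hu x h.hxU

theorem p_mem_sigma (h : Ctx M N Nstar K U x p t) : p ∈ sigma M := by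
  have := prime_mem_sigma_of_mem_sigmaCore (M := M) h.hxσ
  exact this p h.pp (by rw [h.hxo])

end Ctx

end CtxFacts

end Cfsg.Agent.Lib.Helper22.BGFifteenNine
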