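import Mathlib
import Cfsg.Agent.S1352
import Cfsg.Agent.S1353
import Cfsg.Agent.S1354
import Cfsg.Agent.S1361
import Cfsg.Agent.S1366
import Cfsg.Agent.S1367
import Cfsg.Agent.Lib.Helper22.BGFifteenNineA
import Cfsg.Agent.Lib.Helper21.BGFourteenSevenC
import Cfsg.Agent.Lib.Helper55.BGThirteenN
import Cfsg.Agent.Lib.Helper62.PiHall
import Cfsg.Agent.Lib.Helper23.BGFourteenA
import Cfsg.Agent.Lib.Helper30.BGNonab
import Cfsg.Agent.Lib.Helper23.TypeP
import Cfsg.Agent.Lib.Helper97.BGTwelveCor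

/-!
# B&G Corollary 15.9 (S1376): the set-up step, producing `Ctx` (helper22)
-/

set_option autoImplicit false
set_option linter.style.haveILetI false
set_option linter.unusedVariables false
set_option linter.unusedSectionVars false

namespace Cfsg.Agent.Lib.Helper22.BGFifteenNine

open scoped Pointwise
open Cfsg
open Cfsg.Agent.Lib.Helper34 (UniquenessThm)
open Cfsg.Agent.Lib.Helper54
open Cfsg.Agent.Lib.Helper22.BGFourteenFour

universe u

variable {G : Type u} [Group G] [Finite G]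

/-! ### Transport of a standard factorisation by an element of `N` -/

theorem conj_smul_le_of_mem {N A : Subgroup G} (hA : A ≤ N) {n : G} (hn : n ∈ N) :
    MulAut.conj n • A ≤ N := by
  intro y hy
  rw [mem_conj_smul_iff] at hy
  have h1 : n⁻¹ * y * n ∈ N := hA hy
  have h2 : n * (n⁻¹ * y * n) * n⁻¹ ∈ N := N.mul_mem (N.mul_mem hn h1) (N.inv_mem hn)
  have h3 : n * (n⁻¹ * y * n) * n⁻¹ = y := by group
  rwa [h3] at h2

theorem conj_smul_eq_of_mem (N : Subgroup G) {n : G} (hn : n ∈ N) : MulAut.conj n • N = N :=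
  mem_normalizer_iff_conj_smul.mp (Subgroup.le_normalizer hn)

theorem conj_smul_sigmaCore (N : Subgroup G) {n : G} (hn : n ∈ N) :
    MulAut.conj n • sigmaCore N = sigmaCore N :=
  mem_normalizer_iff_conj_smul.mp (le_normalizer_sigmaCore N hn)

theorem isComplIn_conj_smul {A B N : Subgroup G} (h : IsComplIn A B N) {n : G} (hn : n ∈ N) :
    IsComplIn (MulAut.conj n • A) (MulAut.conj n • B) N := by
  obtain ⟨hA, hB, hAB, hf⟩ := h
  refine ⟨conj_smul_le_of_mem hA hn, conj_smul_le_of_mem hB hn, ?_, ?_⟩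
  · rw [eq_bot_iff]
    intro y hy
    have h1 : n⁻¹ * y * n ∈ A ⊓ B :=
      ⟨mem_conj_smul_iff.mp hy.1, mem_conj_smul_iff.mp hy.2⟩
    rw [hAB, Subgroup.mem_bot] at h1
    rw [Subgroup.mem_bot]
    have h2 : y = n * (n⁻¹ * y * n) * n⁻¹ := by group
    rw [h2, h1]
    group
  · intro m hm
    have hm' : n⁻¹ * m * n ∈ N := N.mul_mem (N.mul_mem (N.inv_mem hn) hm) hn
    obtain ⟨a, ha, b, hb, hab⟩ := hf _ hm'
    refine ⟨n * a * n⁻¹, conj_mem_conj_smul ha, n * b * n⁻¹, conj_mem_conj_smul hb, ?_⟩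
    calc m = n * (n⁻¹ * m * n) * n⁻¹ := by group
      _ = n * (a * b) * n⁻¹ := by rw [hab]
      _ = n * a * n⁻¹ * (n * b * n⁻¹) := by group

theorem isSigmaDecomposition_conj_smul {N K U : Subgroup G} (h : IsSigmaDecomposition N K U)
    {n : G} (hn : n ∈ N) :
    IsSigmaDecomposition N (MulAut.conj n • K) (MulAut.conj n • U) := by
  refine ⟨?_, ?_, ?_, ?_⟩
  · haveI := h.cyclic
    exact isCyclic_of_surjective (Subgroup.equivSMul (MulAut.conj n) K)
      (Subgroup.equivSMul (MulAut.conj n) K).surjective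
  · exact Cfsg.Agent.Lib.Helper62.isPiHallOf_conj_smul h.hall (Subgroup.le_normalizer hn)
  · have h1 := isComplIn_conj_smul h.compl hn
    rwa [Subgroup.smul_sup, conj_smul_sigmaCore N hn] at h1
  · intro y hy
    rw [mem_conj_smul_iff] at hy
    have h1 := h.normal hy
    rw [mem_normalizer_iff_conj_smul] at h1 ⊢
    -- conj y • conj n • U = conj n • conj (n⁻¹ y n) • U
    have h2 : MulAut.conj y • MulAut.conj n • U = MulAut.conj n • MulAut.conj (n⁻¹ * y * n) • U := by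
      rw [smul_smul, smul_smul, ← map_mul, ← map_mul]
      congr 2
      group
    rw [h2, h1]

/-- a proper subgroup of `G` is solvable -/
theorem solvable_of_le_coatom (hG : IsMinSimpleOddOrder G) {N A : Subgroup G} (hN : IsCoatom N)
    (hA : A ≤ N) : Group.IsSolvable A :=
  hG.2.2.2 A (fun h => hN.1 (top_le_iff.mp (h ▸ hA)))

/-- **Set-up for B&G 15.9**: the configuration `Ctx`. -/
theorem exists_ctx (hG : IsMinSimpleOddOrder G) (M : Subgroup G) (hM : IsCoatom M) (x : G)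
    (hx : x ∈ sigmaCore M) {p : ℕ} (hp : p.Prime) (hxo : orderOf x = p)
    (hxM : ¬ Subgroup.centralizer ({x} : Set G) ≤ M) (N : Subgroup G) (hN : IsCoatom N)
    (hxN : Subgroup.centralizer ({x} : Set G) ≤ N) (hkN : (kappa N).Nonempty) :
    ∃ (Nstar K U : Subgroup G) (t : ℕ), Ctx M N Nstar K U x p t := by
  classical
  haveI : Fact p.Prime := ⟨hp⟩
  have hU := uniq hG
  have hx1 : x ≠ 1 := by
    intro h
    rw [h, orderOf_one] at hxo
    exact hp.one_lt.ne hxo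
  obtain ⟨N₀, hN₀, hxN₀, hconj, hσσ, hnil, hNσM, hfact, hr, hτ, huniq⟩ :=
    coreU hG M hM x hx hx1 hxM
  obtain rfl : N = N₀ := huniq N hN hxN
  have hxMm : x ∈ M := sigmaCore_le M hx
  have hxNm : x ∈ N := hxN (Subgroup.mem_centralizer_singleton_iff.mpr rfl)
  have hpσM : p ∈ sigma M := prime_mem_sigma_of_mem_sigmaCore hx p hp (by rw [hxo])
  have hpτ : p ∈ tau2 N := hτ p hp (by rw [hxo])
  have hpσ : p ∉ sigma N := hpτ.2.1
  have hpκ : p ∉ kappa N := not_mem_kappa_of_mem_tau2 hpτ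
  have hpN : p ∣ Nat.card N := by
    have h1 : orderOf (⟨x, hxNm⟩ : N) = orderOf x := Subgroup.orderOf_mk x hxNm
    rw [← hxo, ← h1]
    exact orderOf_dvd_natCard _
  -- `N_G(⟨x⟩) ≤ N`
  have hNx : Subgroup.normalizer ((Subgroup.zpowers x : Subgroup G) : Set G) ≤ N := by
    have hZ1 : Subgroup.zpowers x ≠ ⊥ := by
      intro h
      exact hx1 (Subgroup.zpowers_eq_bot.mp h)
    have hZM : Subgroup.zpowers x ≤ M := Subgroup.zpowers_le.mpr hxMm
    have hZtop : Subgroup.zpowers x ≠ ⊤ := fun h => hM.1 (top_le_iff.mp (h ▸ hZM))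
    obtain ⟨L, hL, hNL⟩ := exists_isCoatom_ge (normalizer_ne_top_of_simple hG.2.1 hZ1 hZtop)
    have hCL : Subgroup.centralizer ({x} : Set G) ≤ L := by
      refine le_trans ?_ hNL
      refine le_trans ?_ (Subgroup.centralizer_le_normalizer _)
      intro c hc
      rw [Subgroup.mem_centralizer_singleton_iff] at hc
      exact mem_centralizer_zpowers_of_commute hc
    rw [← huniq L hL hCL]
    exact hNL
  -- Hall subgroups
  have hHallN := (sigmaCore_hall_of hG hU N hN).1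
  have hHallM := (sigmaCore_hall_of hG hU M hM).1
  obtain ⟨⟨K₀, hK₀⟩, hcyc⟩ := Cfsg.Agent.S1351.result hG N hN
  have hK₀c : IsCyclic K₀ := hcyc K₀ hK₀
  have hK₀1 : K₀ ≠ ⊥ := by
    obtain ⟨q, hq⟩ := hkN
    intro h
    have h1 := hK₀.2.2 q hq.1 hq
    have h2 := card_mul_relIndex hK₀.1
    rw [h, Subgroup.card_bot, one_mul] at h2
    rw [h, h2] at h1
    exact h1 hq.2.1
  obtain ⟨-, ⟨U₀, hU₀c, hU₀H, hKU₀n, hU₀fpf⟩, -⟩ := Cfsg.Agent.S1430.result hG N hN K₀ hK₀ hK₀1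
  have hKU₀ : IsSigmaDecomposition N K₀ U₀ :=
    Cfsg.Agent.Lib.Helper23.isSigmaDecomposition_of_hall hHallN hK₀c hK₀ hU₀H hKU₀n
  obtain ⟨hcompl₀, -, -⟩ :=
    Cfsg.Agent.Lib.Helper55.BGThirteen.sigmaDecomposition_compl hG N hN K₀ U₀ hKU₀
  have hD : IsComplIn (M ⊓ N) (sigmaCore N) N := by
    refine ⟨inf_le_right, sigmaCore_le N, ?_, hfact⟩
    rw [eq_bot_iff, ← hNσM]
    intro y hy
    exact ⟨hy.2, hy.1.1⟩
  have hc1 := Cfsg.Agent.Lib.Helper23.card_of_isComplIn hcompl₀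
  have hc2 := Cfsg.Agent.Lib.Helper23.card_of_isComplIn hD
  have hcardσ : 0 < Nat.card (sigmaCore N) := Nat.card_pos
  have hAB : Nat.card (M ⊓ N : Subgroup G) = Nat.card (K₀ ⊔ U₀ : Subgroup G) := by
    have : Nat.card (M ⊓ N : Subgroup G) * Nat.card (sigmaCore N) =
        Nat.card (K₀ ⊔ U₀ : Subgroup G) * Nat.card (sigmaCore N) := by rw [← hc1, ← hc2]
    exact Nat.eq_of_mul_eq_mul_right hcardσ this
  have hrel : (sigmaCore N).relIndex N = Nat.card (K₀ ⊔ U₀ : Subgroup G) := by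
    have h1 := card_mul_relIndex (sigmaCore_le N)
    rw [hc1, mul_comm] at h1
    exact Nat.eq_of_mul_eq_mul_right hcardσ h1
  have hcop : (Nat.card (sigmaCore N)).Coprime (Nat.card (K₀ ⊔ U₀ : Subgroup G)) := by
    rw [← hrel]
    exact Cfsg.Agent.Lib.Helper62.coprime_of_pi hHallN.2.1 hHallN.2.2
  obtain ⟨l, hl, hlD⟩ := sz_conj_rel N (sigmaCore N) (K₀ ⊔ U₀) (M ⊓ N) (sigmaCore_le N)
    (le_normalizer_sigmaCore N) hcompl₀.1 inf_le_right (by rw [hc1, mul_comm]) hAB hcop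
    (Or.inr (solvable_of_le_coatom hG hN (sigmaCore_le N)))
  have hlN : l ∈ N := sigmaCore_le N hl
  set K := MulAut.conj l • K₀ with hKdef
  set U := MulAut.conj l • U₀ with hUdef
  have hKU : IsSigmaDecomposition N K U := isSigmaDecomposition_conj_smul hKU₀ hlN
  have hKD : K ≤ M ⊓ N := by
    rw [← hlD]
    exact conj_smul_le_conj_smul le_sup_left
  have hUD : U ≤ M ⊓ N := by
    rw [← hlD]
    exact conj_smul_le_conj_smul le_sup_right
  have hK1 : K ≠ ⊥ := by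
    intro h
    apply hK₀1
    have h1 : Nat.card K = 1 := by rw [h, Subgroup.card_bot]
    rw [hKdef, card_conj_smul] at h1
    exact Subgroup.eq_bot_of_card_eq K₀ h1
  have hUab : ∀ a ∈ U, ∀ b ∈ U, a * b = b * a := by
    intro a ha b hb
    rw [hUdef, mem_conj_smul_iff] at ha hb
    have h1 : (⟨l⁻¹ * a * l, ha⟩ : U₀) * ⟨l⁻¹ * b * l, hb⟩ = ⟨l⁻¹ * b * l, hb⟩ * ⟨l⁻¹ * a * l, ha⟩ :=
      hU₀c.is_comm.comm _ _
    have h2 : (l⁻¹ * a * l) * (l⁻¹ * b * l) = (l⁻¹ * b * l) * (l⁻¹ * a * l) :=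
      congrArg Subtype.val h1
    calc a * b = l * ((l⁻¹ * a * l) * (l⁻¹ * b * l)) * l⁻¹ := by group
      _ = l * ((l⁻¹ * b * l) * (l⁻¹ * a * l)) * l⁻¹ := by rw [h2]
      _ = b * a := by group
  have hUfpf : ∀ k ∈ K, k ≠ 1 → U ⊓ Subgroup.centralizer ({k} : Set G) = ⊥ :=
    Cfsg.Agent.S1353.result hG N hN K U hKU
  have hUhall : IsPiHallOf {q | q.Prime ∧ q ∉ kappa N ∧ q ∉ sigma N} U N :=
    Cfsg.Agent.Lib.Helper62.isPiHallOf_conj_smul hU₀H (Subgroup.le_normalizer hlN)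
  -- `|K|` is a prime
  have hKt : (Nat.card K).Prime :=
    Cfsg.Agent.Lib.Helper21.prime_card_of_not_P1 hG
      (fun M hM K hK hK1 => Cfsg.Agent.S1430.result hG M hM K hK hK1)
      (fun M hM hP1 p _ hpM hp S => Cfsg.Agent.S1429.result hG M hM hP1 p hpM hp S)
      N hN K hKU.hall hK1 p hp hpN hpσ hpκ
  -- the partner
  obtain ⟨Nstar, ⟨hNs, hKst, hKstH⟩, -⟩ := Cfsg.Agent.S1366.result hG N hN K U hKU hK1
  obtain ⟨h67a, h67b⟩ := Cfsg.Agent.S1367.result hG N hN K U hKU hK1 Nstar hNs hKst hKstH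
  obtain ⟨hCK, hCKuniq⟩ := h67b K le_rfl hKt
  -- the Sylow `p`-subgroup of `U`
  have hpU : p ∣ Nat.card U := by
    have h1 := hUhall.2.2 p hp ⟨hp, hpκ, hpσ⟩
    have h2 := card_mul_relIndex hUhall.1
    rw [← h2] at hpN
    exact (hp.dvd_mul.mp hpN).resolve_right h1
  have hU1 : U ≠ ⊥ := by
    intro h
    rw [h, Subgroup.card_bot] at hpU
    exact hp.one_lt.ne' (Nat.dvd_one.mp hpU)
  obtain ⟨R⟩ : Nonempty (Sylow p U) := inferInstance
  set R' : Subgroup G := (R : Subgroup U).map U.subtype with hR'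
  have hR'U : R' ≤ U := Subgroup.map_subtype_le _
  have hR'p : IsPGroup p R' := R.2.map _
  have hR'idx : ¬ p ∣ R'.relIndex N := by
    have h1 : R'.relIndex U = (R : Subgroup U).index := by
      rw [Subgroup.relIndex, hR', Subgroup.subgroupOf,
        Subgroup.comap_map_eq_self_of_injective U.subtype_injective]
    have h2 := Subgroup.relIndex_mul_relIndex R' U N hR'U hUhall.1
    rw [← h2, h1]
    intro h
    rcases hp.dvd_mul.mp h with h | h
    · exact R.not_dvd_index h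
    · exact hUhall.2.2 p hp ⟨hp, hpκ, hpσ⟩ h
  have hR'nc : ¬ IsCyclic R' := by
    obtain ⟨A₀, hA₀N, hA₀e, hA₀c⟩ :=
      Cfsg.Agent.Lib.Helper97.BGTwelve.exists_elemAb_sq_of_not_pRankLE_one N hpτ.2.2.2
    have hA₀p : IsPGroup p A₀ := IsPGroup.of_card (n := 2) hA₀c
    obtain ⟨n, -, hnA⟩ :=
      exists_conj_le_of_not_dvd_relIndex (hR'U.trans hUhall.1) hR'p hR'idx hA₀N hA₀p
    intro hc
    have hAe : IsElementaryAbelian p (MulAut.conj n • A₀) := isElementaryAbelian_conj_smul n hA₀e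
    have hAc : Nat.card (MulAut.conj n • A₀ : Subgroup G) = p ^ 2 := by
      rw [card_conj_smul, hA₀c]
    apply not_isCyclic_of_elemAb_sq hp hAe hAc
    haveI := hc
    exact isCyclic_of_injective (Subgroup.inclusion hnA) (Subgroup.inclusion_injective hnA)
  obtain ⟨E₀, hE₀⟩ := Cfsg.Agent.Lib.Helper30.BGNonab.exists_isComplIn M hHallM
  have hNR : Subgroup.normalizer (R' : Set G) ≤ M :=
    (Cfsg.Agent.S1420.result hG M hM E₀ hE₀).2.2.1 p R' hpσM hR'p
      (hR'U.trans (hUD.trans inf_le_left)) hR'nc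
  obtain ⟨h1, h2, h3, h4, h5, h6⟩ :=
    Cfsg.Agent.S1435.result hG N hN K U hKU hK1 hU1 Nstar hNs hKst hKstH p hpU R M hM hNR
  exact ⟨Nstar, K, U, Nat.card K, ⟨hM, hN, hNs, hp, hKt, hxo, hx, hxN, hxM, huniq, hNx, hconj,
    hσσ, hnil, hNσM, hfact, hr, hpτ, hKU, hUab, hUfpf, hUhall, rfl, hKst, hKstH, hCK, hCKuniq,
    h67a, h1, h2, h3, h4, h5, h6⟩⟩

end Cfsg.Agent.Lib.Helper22.BGFifteenNine
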