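import Mathlib
import Cfsg.Agent.S0039
import Cfsg.Agent.Lib.Helper22.BGFifteenNineB
import Cfsg.Agent.Lib.Helper52.NilpSub
import Cfsg.Agent.Lib.Helper54.UqRank
import Cfsg.Agent.Lib.Helper50.AlphaCore

/-!
# B&G Corollary 15.9 (S1376): `M_F` is not TI, and `M` is a Frobenius group with cyclic complement
(helper22)
-/

set_option autoImplicit false
set_option linter.style.haveILetI false
set_option linter.unusedVariables false
set_option linter.unusedSectionVars false

namespace Cfsg.Agent.Lib.Helper22.BGFifteenNine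

open scoped Pointwise
open Cfsg
open Cfsg.Agent.Lib.Helper34 (UniquenessThm)
open Cfsg.Agent.Lib.Helper54
open Cfsg.Agent.Lib.Helper22.BGFourteenFour

universe u

variable {G : Type u} [Group G] [Finite G]

/-- The statement of module [SEMI]: an odd-order solvable group acting semiregularly on an
elementary abelian `p`-group of order at most `p ^ 2` is cyclic. -/
def SemiStmt (G : Type u) [Group G] : Prop :=
  ∀ (p : ℕ) [Fact p.Prime] (E V : Subgroup G),
    E ≤ Subgroup.normalizer (V : Set G) → (∀ a ∈ V, ∀ b ∈ V, a * b = b * a) →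
    (∀ v ∈ V, v ^ p = 1) → V ≠ ⊥ → Nat.card V ≤ p ^ 2 → Odd (Nat.card E) → Group.IsSolvable E →
    (∀ e ∈ E, e ≠ 1 → ∀ v ∈ V, e * v = v * e → v = 1) → IsCyclic E

section CtxFacts

variable {M N Nstar K U : Subgroup G} {x : G} {p t : ℕ}

/-- **[TI]** `M_F` is not a TI-subset. -/
theorem not_isTISubset (hG : IsMinSimpleOddOrder G) (h : Ctx M N Nstar K U x p t) :
    ¬ IsTISubset (fittingHallOf M : Set G) := by
  rw [← sigmaCore_eq_fittingHallOf hG (uniq hG) h.hM h.sigmaCore_nilpotent]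
  intro hTI
  have hσ1 : sigmaCore M ≠ ⊥ := by
    intro hb
    have := h.hxσ
    rw [hb, Subgroup.mem_bot] at this
    exact h.hx1 this
  -- `N_G(M_σ) = M`
  have hσtop : sigmaCore M ≠ ⊤ := fun ht => h.hM.1 (top_le_iff.mp (ht ▸ sigmaCore_le M))
  have hNσ : Subgroup.normalizer ((sigmaCore M : Subgroup G) : Set G) = M := by
    have h1 := normalizer_ne_top_of_simple hG.2.1 hσ1 hσtop
    rcases eq_or_lt_of_le (le_normalizer_sigmaCore M) with h2 | h2
    · exact h2.symm
    · exact absurd (h.hM.2 _ h2) h1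
  obtain ⟨c, hc, hcM⟩ := SetLike.not_le_iff_exists.mp h.hCxM
  have hcn : c ∉ Subgroup.normalizer ((sigmaCore M : Subgroup G) : Set G) := by
    rw [hNσ]; exact hcM
  rw [Subgroup.mem_centralizer_singleton_iff] at hc
  have hcx : c * x * c⁻¹ = x := by rw [hc]; group
  exact h.hx1 (hTI c hcn x h.hxσ (by rw [hcx]; exact h.hxσ))

end CtxFacts

/-- In a nilpotent subgroup `H`, the `p`-elements form a `p`-subgroup normalized by `N_G(H)`. -/
theorem exists_char_sylow_of_nilpotent (H : Subgroup G) (hH : Group.IsNilpotent H) (p : ℕ)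
    [Fact p.Prime] :
    ∃ P : Subgroup G, P ≤ H ∧ IsPGroup p P ∧ (∀ h ∈ H, ∀ k : ℕ, orderOf h = p ^ k → h ∈ P) ∧
      Subgroup.normalizer (H : Set G) ≤ Subgroup.normalizer (P : Set G) := by
  obtain ⟨P, hPH, hPp, hP⟩ := Cfsg.Agent.Lib.Helper52.exists_pSubgroup_of_nilpotent H hH p
  refine ⟨P, hPH, hPp, hP, ?_⟩
  have key : ∀ m ∈ Subgroup.normalizer (H : Set G), ∀ y ∈ P, m * y * m⁻¹ ∈ P := by
    intro m hm y hy
    have hyH : m * y * m⁻¹ ∈ H := (Subgroup.mem_normalizer_iff.mp hm y).mp (hPH hy)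
    obtain ⟨k, hk⟩ := (IsPGroup.iff_orderOf.mp hPp) ⟨y, hy⟩
    rw [Subgroup.orderOf_mk] at hk
    refine hP _ hyH k ?_
    rw [← hk]
    exact (SemiconjBy.orderOf_eq m (show SemiconjBy m y (m * y * m⁻¹) by
      unfold SemiconjBy; group)).symm
  intro m hm
  rw [Subgroup.mem_normalizer_iff]
  intro y
  constructor
  · exact key m hm y
  · intro hy
    have := key m⁻¹ (Subgroup.inv_mem _ hm) _ hy
    have h2 : m⁻¹ * (m * y * m⁻¹) * m⁻¹⁻¹ = y := by group
    rwa [h2] at this

section CtxFacts2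

variable {M N Nstar K U : Subgroup G} {x : G} {p t : ℕ}

/-- Every nonidentity element of `E = M ∩ N*` acts without fixed points on `M_σ`, if
`τ₂(M) = ∅`. -/
theorem fpf_of_tau2_empty (hG : IsMinSimpleOddOrder G) (h : Ctx M N Nstar K U x p t)
    (hτ : tau2 M = ∅) :
    ∀ e ∈ M ⊓ Nstar, e ≠ 1 → ∀ y ∈ sigmaCore M, e * y = y * e → y = 1 := by
  intro e he he1 y hy hey
  have heo : orderOf e ≠ 1 := fun h1 => he1 (orderOf_eq_one_iff.mp h1)
  obtain ⟨q, hq, hqe⟩ := Nat.exists_prime_and_dvd heo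
  haveI : Fact q.Prime := ⟨hq⟩
  set e' := e ^ (orderOf e / q) with he'
  have he'o : orderOf e' = q := orderOf_pow_orderOf_div (orderOf_pos e).ne' hqe
  have he'E : e' ∈ M ⊓ Nstar := Subgroup.pow_mem _ he _
  have he'1 : e' ≠ 1 := by
    intro h1
    rw [h1, orderOf_one] at he'o
    exact hq.one_lt.ne he'o
  have he'y : e' * y = y * e' := ((show Commute e y from hey).pow_left _).eq
  have hHall := (sigmaCore_hall_of hG (uniq hG) M h.hM).1
  -- `q ∣ |E|`
  have hqE : q ∣ Nat.card (M ⊓ Nstar : Subgroup G) := by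
    have h1 : orderOf (⟨e', he'E⟩ : (M ⊓ Nstar : Subgroup G)) = orderOf e' :=
      Subgroup.orderOf_mk e' he'E
    rw [← he'o, ← h1]
    exact orderOf_dvd_natCard _
  have hcard := Cfsg.Agent.Lib.Helper23.card_of_isComplIn h.hE
  have hqM : q ∣ Nat.card M := by rw [hcard]; exact hqE.mul_right _
  have hqσ : q ∉ sigma M := by
    intro hqσ
    apply hHall.2.2 q hq hqσ
    have h1 := card_mul_relIndex (sigmaCore_le M)
    rw [hcard, mul_comm] at h1
    have h2 : (sigmaCore M).relIndex M = Nat.card (M ⊓ Nstar : Subgroup G) :=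
      Nat.eq_of_mul_eq_mul_right Nat.card_pos h1
    rw [h2]; exact hqE
  have hqκ : q ∉ kappa M := by rw [h.hκM]; exact Set.notMem_empty q
  have hr2 : PRankLE q 2 M := by
    by_contra hcon
    exact hqσ (Cfsg.Agent.Lib.Helper50.alpha_subset_sigma hG (uniq3 hG) M h.hM ⟨hq, hcon⟩)
  have hr1 : PRankLE q 1 M := by
    by_contra hcon
    have : q ∈ tau2 M := ⟨hq, hqσ, hr2, hcon⟩
    rw [hτ] at this
    exact this
  have hq2 : q ≠ 2 := by
    rintro rfl
    have h2 : 2 ∣ Nat.card G := hqM.trans (Subgroup.card_subgroup_dvd_card M)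
    exact (Nat.not_even_iff_odd.mpr hG.1) (even_iff_two_dvd.mpr h2)
  have he'p : IsPGroup q (Subgroup.zpowers e') := by
    apply IsPGroup.of_card (n := 1)
    rw [Nat.card_zpowers, he'o, pow_one]
  exact Cfsg.Agent.Lib.Helper50.eq_one_of_commute_of_not_mem_kappa hq2 hqM hqσ hqκ hr1
    he'E.1 he'1 he'p hy he'y

end CtxFacts2

/-- An elementary abelian `p`-subgroup `V ≤ N` has order at most `p ^ k` if `N` has `p`-rank `≤ k`. -/
theorem card_le_of_pRankLE {p k : ℕ} {N V : Subgroup G} (hVN : V ≤ N)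
    (hab : ∀ a ∈ V, ∀ b ∈ V, a * b = b * a) (hexp : ∀ v ∈ V, v ^ p = 1)
    (hr : PRankLE p k N) : Nat.card V ≤ p ^ k := by
  have h1 : IsMulCommutative (V.subgroupOf N) :=
    ⟨⟨fun a b => Subtype.ext (Subtype.ext (hab _ a.2 _ b.2))⟩⟩
  have h2 : ∀ a ∈ V.subgroupOf N, a ^ p = 1 := by
    intro a ha
    apply Subtype.ext
    simpa using hexp _ ha
  have h3 := hr (V.subgroupOf N) h1 h2
  rwa [Nat.card_congr (Subgroup.subgroupOfEquivOfLe hVN).toEquiv] at h3

section CtxFacts3

variable {M N Nstar K U : Subgroup G} {x : G} {p t : ℕ}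

/-- **[F]** `M` is a Frobenius group with cyclic complement `E = M ∩ N*`, if `τ₂(M) = ∅`. -/
theorem exists_frobenius_cyclic (hG : IsMinSimpleOddOrder G) (hsemi : SemiStmt G)
    (h : Ctx M N Nstar K U x p t) (hτ : tau2 M = ∅) :
    ∃ E : Subgroup ↥M, IsFrobeniusComplement E ∧ IsCyclic E := by
  classical
  haveI : Fact p.Prime := ⟨h.pp⟩
  have hEM : M ⊓ Nstar ≤ M := inf_le_left
  have hfpf := fpf_of_tau2_empty hG h hτ
  have hEcyc : IsCyclic (M ⊓ Nstar : Subgroup G) := by
    obtain ⟨P, hPσ, hPp, hPall, hPn⟩ :=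
      exists_char_sylow_of_nilpotent (sigmaCore M) h.sigmaCore_nilpotent p
    have hxP : x ∈ P := hPall x h.hxσ 1 (by rw [h.hxo, pow_one])
    have hMP : M ≤ Subgroup.normalizer (P : Set G) := (le_normalizer_sigmaCore M).trans hPn
    let V : Subgroup G :=
      { carrier := {v | v ∈ P ∧ v ^ p = 1 ∧ ∀ y ∈ P, v * y = y * v}
        one_mem' := ⟨P.one_mem, one_pow p, fun y _ => by rw [one_mul, mul_one]⟩
        mul_mem' := by
          rintro a b ⟨ha, hap, hac⟩ ⟨hb, hbp, hbc⟩
          refine ⟨P.mul_mem ha hb, ?_, ?_⟩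
          · rw [(show Commute a b from hac b hb).mul_pow, hap, hbp, one_mul]
          · intro y hy
            rw [mul_assoc, hbc y hy, ← mul_assoc, hac y hy, mul_assoc]
        inv_mem' := by
          rintro a ⟨ha, hap, hac⟩
          refine ⟨P.inv_mem ha, by rw [inv_pow, hap, inv_one], ?_⟩
          intro y hy
          have := hac y hy
          calc a⁻¹ * y = a⁻¹ * (y * a) * a⁻¹ := by group
            _ = a⁻¹ * (a * y) * a⁻¹ := by rw [this]
            _ = y * a⁻¹ := by group }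
    have hVmem : ∀ v, v ∈ V ↔ v ∈ P ∧ v ^ p = 1 ∧ ∀ y ∈ P, v * y = y * v := fun v => Iff.rfl
    have hVab : ∀ a ∈ V, ∀ b ∈ V, a * b = b * a := fun a ha b hb => ha.2.2 b hb.1
    have hVexp : ∀ v ∈ V, v ^ p = 1 := fun v hv => hv.2.1
    have hVU : V ≤ U := by
      intro v hv
      rw [← h.sigmaCore_inf_centralizer_x]
      refine ⟨hPσ hv.1, ?_⟩
      exact Subgroup.mem_centralizer_singleton_iff.mpr (hv.2.2 x hxP)
    have hV1 : V ≠ ⊥ := by
      haveI hP1 : Nontrivial P :=
        ⟨⟨⟨x, hxP⟩, 1, fun hh => h.hx1 (congrArg Subtype.val hh)⟩⟩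
      have hPp' : IsPGroup p ↥P := hPp
      haveI hcen : Nontrivial (Subgroup.center P) := hPp'.center_nontrivial
      have hdvd : p ∣ Nat.card (Subgroup.center P) := by
        rcases (hPp'.to_subgroup (Subgroup.center P)).card_eq_or_dvd with h1 | h1
        · exact absurd h1 (Finite.one_lt_card (α := Subgroup.center P)).ne'
        · exact h1
      obtain ⟨z, hz⟩ := exists_prime_orderOf_dvd_card' p hdvd
      have hzp : ((z : P) : G) ^ p = 1 := by
        have h1 : z ^ p = 1 := by rw [← hz]; exact pow_orderOf_eq_one z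
        have h2 := congrArg (fun w : Subgroup.center P => ((w : P) : G)) h1
        simpa using h2
      have hz1 : ((z : P) : G) ≠ 1 := by
        intro h1
        have h2 : z = 1 := Subtype.ext (Subtype.ext h1)
        rw [h2, orderOf_one] at hz
        exact h.pp.one_lt.ne hz
      have hzV : ((z : P) : G) ∈ V := by
        refine ⟨(z : P).2, hzp, ?_⟩
        intro y hy
        have h1 := Subgroup.mem_center_iff.mp z.2 ⟨y, hy⟩
        have h2 := congrArg Subtype.val h1
        simpa using h2.symm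
      intro hb
      rw [hb, Subgroup.mem_bot] at hzV
      exact hz1 hzV
    have hVcard : Nat.card V ≤ p ^ 2 :=
      card_le_of_pRankLE (hVU.trans h.U_le_N) hVab hVexp h.hpτ.2.2.1
    have hEV : M ⊓ Nstar ≤ Subgroup.normalizer (V : Set G) := by
      have key : ∀ e ∈ M, ∀ v ∈ V, e * v * e⁻¹ ∈ V := by
        intro e he v hv
        have hconj : ∀ y ∈ P, e * y * e⁻¹ ∈ P := fun y hy =>
          (Subgroup.mem_normalizer_iff.mp (hMP he) y).mp hy
        have hconj' : ∀ y ∈ P, e⁻¹ * y * e ∈ P := fun y hy => by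
          have := (Subgroup.mem_normalizer_iff.mp (hMP (M.inv_mem he)) y).mp hy
          simpa using this
        refine ⟨hconj v hv.1, ?_, ?_⟩
        · rw [conj_pow, hv.2.1]; group
        · intro y hy
          have h1 := hv.2.2 (e⁻¹ * y * e) (hconj' y hy)
          calc e * v * e⁻¹ * y = e * (v * (e⁻¹ * y * e)) * e⁻¹ := by group
            _ = e * ((e⁻¹ * y * e) * v) * e⁻¹ := by rw [h1]
            _ = y * (e * v * e⁻¹) := by group
      intro e he
      rw [Subgroup.mem_normalizer_iff]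
      intro v
      constructor
      · exact key e he.1 v
      · intro hv
        have := key e⁻¹ (M.inv_mem he.1) _ hv
        have h2 : e⁻¹ * (e * v * e⁻¹) * e⁻¹⁻¹ = v := by group
        rwa [h2] at this
    have hEodd : Odd (Nat.card (M ⊓ Nstar : Subgroup G)) :=
      Odd.of_dvd_nat hG.1 (Subgroup.card_subgroup_dvd_card _)
    have hEsolv : Group.IsSolvable (M ⊓ Nstar : Subgroup G) := solvable_of_le_coatom hG h.hM hEM
    exact hsemi p (M ⊓ Nstar) V hEV hVab hVexp hV1 hVcard hEodd hEsolv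
      (fun e he he1 v hv hev => hfpf e he he1 v (h.hUσ (hVU hv)) hev)
  refine ⟨(M ⊓ Nstar).subgroupOf M, ?_, ?_⟩
  · haveI : ((sigmaCore M).subgroupOf M).Normal :=
      Subgroup.normal_subgroupOf_of_le_normalizer (le_normalizer_sigmaCore M)
    have hK : (sigmaCore M).subgroupOf M ≠ ⊥ := by
      intro hb
      have h1 : (⟨x, sigmaCore_le M h.hxσ⟩ : M) ∈ (sigmaCore M).subgroupOf M :=
        Subgroup.mem_subgroupOf.mpr h.hxσ
      rw [hb, Subgroup.mem_bot] at h1
      exact h.hx1 (congrArg Subtype.val h1)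
    have hH : (M ⊓ Nstar).subgroupOf M ≠ ⊥ := by
      obtain ⟨k, hk, hk1, -, -⟩ := h.exists_gen
      intro hb
      have h1 : (⟨k, (h.K_le hk).1⟩ : M) ∈ (M ⊓ Nstar).subgroupOf M :=
        Subgroup.mem_subgroupOf.mpr (h.K_le hk)
      rw [hb, Subgroup.mem_bot] at h1
      exact hk1 (congrArg Subtype.val h1)
    have hc : Subgroup.IsComplement' ((sigmaCore M).subgroupOf M) ((M ⊓ Nstar).subgroupOf M) := by
      apply Subgroup.IsComplement'.symm
      apply Subgroup.isComplement'_of_disjoint_and_mul_eq_univ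
      · rw [disjoint_iff, eq_bot_iff]
        intro m hm
        have h1 : (m : G) ∈ (M ⊓ Nstar) ⊓ sigmaCore M :=
          ⟨Subgroup.mem_subgroupOf.mp hm.1, Subgroup.mem_subgroupOf.mp hm.2⟩
        rw [h.inf_sigmaCore, Subgroup.mem_bot] at h1
        exact Subgroup.mem_bot.mpr (Subtype.ext h1)
      · rw [Set.eq_univ_iff_forall]
        intro m
        obtain ⟨a, ha, b, hb, hab⟩ := h.hE.2.2.2 m m.2
        refine ⟨⟨a, ha.1⟩, Subgroup.mem_subgroupOf.mpr ha, ⟨b, sigmaCore_le M hb⟩,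
          Subgroup.mem_subgroupOf.mpr hb, ?_⟩
        exact Subtype.ext hab.symm
    rw [Cfsg.Agent.S0039.result ((sigmaCore M).subgroupOf M) ((M ⊓ Nstar).subgroupOf M) hc hK hH]
    intro e he he1
    rw [eq_bot_iff]
    intro y hy
    have h1 : (e : G) * (y : G) = (y : G) * (e : G) := by
      have := Subgroup.mem_centralizer_singleton_iff.mp hy.2
      have h2 := congrArg Subtype.val this
      simpa using h2.symm
    have h2 := hfpf (e : G) (Subgroup.mem_subgroupOf.mp he)
      (fun hh => he1 (Subtype.ext hh)) (y : G) (Subgroup.mem_subgroupOf.mp hy.1) h1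
    exact Subgroup.mem_bot.mpr (Subtype.ext h2)
  · haveI := hEcyc
    exact isCyclic_of_surjective (Subgroup.subgroupOfEquivOfLe hEM).symm
      (Subgroup.subgroupOfEquivOfLe hEM).symm.surjective

end CtxFacts3

/-! ### Assembly of S1376 -/

/-- The statement of module [T]. -/
def TStmt (G : Type u) [Group G] : Prop :=
  ∀ (M N Nstar K U : Subgroup G) (x : G) (p t : ℕ), Ctx M N Nstar K U x p t → t ∉ tau2 M

/-- The statement of module [S1]. -/
def S1Stmt (G : Type u) [Group G] : Prop :=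
  ∀ (M N Nstar K U : Subgroup G) (x : G) (p t : ℕ), Ctx M N Nstar K U x p t →
    ∀ s ∈ tau2 M, s ≠ t →
      ∃ B : Subgroup G, B ≤ M ⊓ Nstar ∧ IsElementaryAbelian s B ∧ Nat.card B = s ^ 2 ∧
        (∀ k ∈ K, ∀ b ∈ B, k * b = b * k) ∧
        sigmaCore N ⊓ Subgroup.centralizer (K : Set G) ≤ Subgroup.normalizer (B : Set G)

/-- The statement of module [S2]. -/
def S2Stmt (G : Type u) [Group G] : Prop :=
  ∀ (M N Nstar K U : Subgroup G) (x : G) (p t : ℕ), Ctx M N Nstar K U x p t →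
    ∀ s ∈ tau2 M, s ≠ t → ∀ B : Subgroup G, B ≤ M ⊓ Nstar → IsElementaryAbelian s B →
      Nat.card B = s ^ 2 →
      sigmaCore N ⊓ Subgroup.centralizer (K : Set G) ≤ Subgroup.normalizer (B : Set G) → False

theorem tau2_eq_empty {M N Nstar K U : Subgroup G} {x : G} {p t : ℕ}
    (hT : TStmt G) (hS1 : S1Stmt G) (hS2 : S2Stmt G) (h : Ctx M N Nstar K U x p t) :
    tau2 M = ∅ := by
  rw [Set.eq_empty_iff_forall_notMem]
  intro s hs
  by_cases hst : s = t
  · subst hst
    exact hT M N Nstar K U x p s h hs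
  · obtain ⟨B, hBE, hBel, hBc, -, hKsB⟩ := hS1 M N Nstar K U x p t h s hs hst
    exact hS2 M N Nstar K U x p t h s hs hst B hBE hBel hBc hKsB

/-- Reduction to an element of prime order: `C_G(x) ≤ C_G(x ^ k)`. -/
theorem centralizer_le_centralizer_pow (x : G) (k : ℕ) :
    Subgroup.centralizer ({x} : Set G) ≤ Subgroup.centralizer ({x ^ k} : Set G) := by
  intro c hc
  rw [Subgroup.mem_centralizer_singleton_iff] at hc ⊢
  exact ((show Commute c x from hc).pow_right k).eq

/-- the configuration `Ctx` for a prime-order power of `x`. -/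
theorem exists_ctx_pow (hG : IsMinSimpleOddOrder G) (M : Subgroup G) (hM : IsCoatom M) (x : G)
    (hx : x ∈ sigmaCore M) (hx1 : x ≠ 1)
    (hxM : ¬ Subgroup.centralizer ({x} : Set G) ≤ M) (N : Subgroup G) (hN : IsCoatom N)
    (hxN : Subgroup.centralizer ({x} : Set G) ≤ N) (hkN : (kappa N).Nonempty) :
    ∃ (k p : ℕ) (Nstar K U : Subgroup G) (t : ℕ), Ctx M N Nstar K U (x ^ k) p t := by
  have hxo : orderOf x ≠ 1 := fun h => hx1 (orderOf_eq_one_iff.mp h)
  obtain ⟨p, hp, hpx⟩ := Nat.exists_prime_and_dvd hxo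
  have hzo : orderOf (x ^ (orderOf x / p)) = p :=
    orderOf_pow_orderOf_div (orderOf_pos x).ne' hpx
  set z := x ^ (orderOf x / p) with hz
  have hz1 : z ≠ 1 := by
    intro h
    rw [h, orderOf_one] at hzo
    exact hp.one_lt.ne hzo
  have hzσ : z ∈ sigmaCore M := pow_mem hx _
  have hCxz := centralizer_le_centralizer_pow x (orderOf x / p)
  have hzM : ¬ Subgroup.centralizer ({z} : Set G) ≤ M := fun h => hxM (hCxz.trans h)
  obtain ⟨N₁, hN₁, hzN₁, -⟩ := coreU hG M hM z hzσ hz1 hzM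
  obtain ⟨N₀, hN₀, hxN₀, -, -, -, -, -, -, -, huniq⟩ := coreU hG M hM x hx hx1 hxM
  have e1 : N = N₀ := huniq N hN hxN
  have e2 : N₁ = N₀ := huniq N₁ hN₁ (hCxz.trans hzN₁)
  have hzN : Subgroup.centralizer ({z} : Set G) ≤ N := by rw [e1, ← e2]; exact hzN₁
  obtain ⟨Nstar, K, U, t, h⟩ := exists_ctx hG M hM z hzσ hp hzo hzM N hN hzN hkN
  exact ⟨_, p, Nstar, K, U, t, h⟩

/-- **S1376** (B&G Corollary 15.9) from the modules [SEMI], [T], [S1], [S2]. -/
theorem s1376_of (hG : IsMinSimpleOddOrder G) (hsemi : SemiStmt G) (hT : TStmt G)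
    (hS1 : S1Stmt G) (hS2 : S2Stmt G)
    (M : Subgroup G) (hM : IsCoatom M) (x : G) (hx : x ∈ Cfsg.sigmaCore M) (hx1 : x ≠ 1)
    (hxM : ¬ Subgroup.centralizer ({x} : Set G) ≤ M) (N : Subgroup G) (hN : IsCoatom N)
    (hxN : Subgroup.centralizer ({x} : Set G) ≤ N) (hkN : (Cfsg.kappa N).Nonempty) :
    Cfsg.kappa M = ∅ ∧ (∃ E : Subgroup ↥M, Cfsg.IsFrobeniusComplement E ∧ IsCyclic E) ∧
      ¬ Cfsg.IsTISubset (Cfsg.fittingHallOf M : Set G) := by
  obtain ⟨k, p, Nstar, K, U, t, h⟩ := exists_ctx_pow hG M hM x hx hx1 hxM N hN hxN hkN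
  exact ⟨h.hκM, exists_frobenius_cyclic hG hsemi h (tau2_eq_empty hT hS1 hS2 h),
    not_isTISubset hG h⟩

end Cfsg.Agent.Lib.Helper22.BGFifteenNine
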