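import Mathlib
import Cfsg.Agent.Lib.Helper22.BGFifteenNineC
import Cfsg.Agent.Lib.Helper54.BGFifteenA0
import Cfsg.Agent.Lib.Helper34.TildeEquiv

/-!
# B&G Lemmas 14.10/14.11 (S1436): assembly (helper22)
-/

set_option autoImplicit false
set_option linter.style.haveILetI false
set_option linter.unusedVariables false
set_option linter.unusedSectionVars false

namespace Cfsg.Agent.Lib.Helper22.BGFifteenNine

open scoped Pointwise
open Cfsg
open Cfsg.Agent.Lib.Helper34 (UniquenessThm)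
open Cfsg.Agent.Lib.Helper54
open Cfsg.Agent.Lib.Helper22.BGFourteenFour

universe u

variable {G : Type u} [Group G] [Finite G]

/-- **S1436, second clause**: a `G`-conjugate `N'` of `N` attached to some `y ∈ M_σ` is an
`M`-conjugate of `N`. -/
theorem exists_conj_mem (hG : IsMinSimpleOddOrder G) (M : Subgroup G) (hM : IsCoatom M) (x : G)
    (hx : x ∈ sigmaCore M) (hx1 : x ≠ 1)
    (hxM : ¬ Subgroup.centralizer ({x} : Set G) ≤ M) (N : Subgroup G) (hN : IsCoatom N)
    (hxN : Subgroup.centralizer ({x} : Set G) ≤ N)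
    (y : G) (N' : Subgroup G) (g : G) (hy : y ∈ sigmaCore M) (hy1 : y ≠ 1)
    (hyM : ¬ Subgroup.centralizer ({y} : Set G) ≤ M) (hN' : IsCoatom N')
    (hyN' : Subgroup.centralizer ({y} : Set G) ≤ N')
    (hg : N'.map (MulAut.conj g).toMonoidHom = N) :
    ∃ m ∈ M, N'.map (MulAut.conj m).toMonoidHom = N := by
  classical
  have hU := uniq hG
  -- data for `(M, x, N)`
  obtain ⟨N₀, hN₀, hxN₀, -, hσσ, -, hNσM, hfact, -, -, huniq⟩ := coreU hG M hM x hx hx1 hxM
  obtain rfl : N = N₀ := huniq N hN hxN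
  -- a prime-order power of `y`
  have hyo : orderOf y ≠ 1 := fun h => hy1 (orderOf_eq_one_iff.mp h)
  obtain ⟨p, hp, hpy⟩ := Nat.exists_prime_and_dvd hyo
  haveI : Fact p.Prime := ⟨hp⟩
  have hzo : orderOf (y ^ (orderOf y / p)) = p :=
    orderOf_pow_orderOf_div (orderOf_pos y).ne' hpy
  set z := y ^ (orderOf y / p) with hz
  have hz1 : z ≠ 1 := by
    intro h
    rw [h, orderOf_one] at hzo
    exact hp.one_lt.ne hzo
  have hzσ : z ∈ sigmaCore M := pow_mem hy _
  have hCyz := centralizer_le_centralizer_pow y (orderOf y / p)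
  have hzM : ¬ Subgroup.centralizer ({z} : Set G) ≤ M := fun h => hyM (hCyz.trans h)
  obtain ⟨N₁, hN₁, hzN₁, -, -, -, -, -, -, -, -⟩ := coreU hG M hM z hzσ hz1 hzM
  obtain ⟨N₂, hN₂, hyN₂, -, hσσ', -, -, -, -, -, huniq'⟩ := coreU hG M hM y hy hy1 hyM
  have e1 : N' = N₂ := huniq' N' hN' hyN'
  have e2 : N₁ = N₂ := huniq' N₁ hN₁ (hCyz.trans hzN₁)
  have hzN' : Subgroup.centralizer ({z} : Set G) ≤ N' := by rw [e1, ← e2]; exact hzN₁
  have hpσM : p ∈ sigma M := prime_mem_sigma_of_mem_sigmaCore hzσ p hp (by rw [hzo])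
  have hpσN : p ∉ sigma N := hσσ p hpσM
  have hzMm : z ∈ M := sigmaCore_le M hzσ
  have hzN'm : z ∈ N' := hzN' (Subgroup.mem_centralizer_singleton_iff.mpr rfl)
  -- a Sylow `p`-subgroup `S` of `M ∩ N'` containing `z`
  have hZle : Subgroup.zpowers z ≤ M ⊓ N' := Subgroup.zpowers_le.mpr ⟨hzMm, hzN'm⟩
  have hZp : IsPGroup p (Subgroup.zpowers z) := by
    apply IsPGroup.of_card (n := 1)
    rw [Nat.card_zpowers, hzo, pow_one]
  obtain ⟨S, hS⟩ := (hZp.comap_subtype (K := (M ⊓ N' : Subgroup G))).exists_le_sylow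
  set S' : Subgroup G := (S : Subgroup (M ⊓ N' : Subgroup G)).map (M ⊓ N').subtype with hS'
  have hS'le : S' ≤ M ⊓ N' := Subgroup.map_subtype_le _
  have hS'p : IsPGroup p S' := S.2.map _
  have hzS' : z ∈ S' := by
    refine ⟨⟨z, hzMm, hzN'm⟩, hS ?_, rfl⟩
    exact Subgroup.mem_subgroupOf.mpr (Subgroup.mem_zpowers z)
  -- a Sylow `p`-subgroup `P` of `M ∩ N`, of index prime to `p` in `N`
  have hD : IsComplIn (M ⊓ N) (sigmaCore N) N := by
    refine ⟨inf_le_right, sigmaCore_le N, ?_, hfact⟩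
    rw [eq_bot_iff, ← hNσM]
    intro w hw
    exact ⟨hw.2, hw.1.1⟩
  obtain ⟨P⟩ : Nonempty (Sylow p (M ⊓ N : Subgroup G)) := inferInstance
  set P' : Subgroup G := (P : Subgroup (M ⊓ N : Subgroup G)).map (M ⊓ N).subtype with hP'
  have hP'le : P' ≤ M ⊓ N := Subgroup.map_subtype_le _
  have hP'p : IsPGroup p P' := P.2.map _
  have hP'idx : ¬ p ∣ P'.relIndex N := by
    have h1 : P'.relIndex (M ⊓ N) = (P : Subgroup (M ⊓ N : Subgroup G)).index := by
      rw [Subgroup.relIndex, hP', Subgroup.subgroupOf,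
        Subgroup.comap_map_eq_self_of_injective (M ⊓ N).subtype_injective]
    have h2 := Subgroup.relIndex_mul_relIndex P' (M ⊓ N) N hP'le inf_le_right
    have h3 : (M ⊓ N).relIndex N = Nat.card (sigmaCore N) := by
      have h4 := card_mul_relIndex (inf_le_right : M ⊓ N ≤ N)
      rw [Cfsg.Agent.Lib.Helper23.card_of_isComplIn hD] at h4
      exact Nat.eq_of_mul_eq_mul_left Nat.card_pos h4
    rw [← h2, h1, h3]
    intro h
    rcases hp.dvd_mul.mp h with h | h
    · exact P.not_dvd_index h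
    · exact hpσN (sigmaCore_isPi N p hp h)
  -- conjugate `g S' g⁻¹ ≤ N` into `P'`
  have hgS : MulAut.conj g • S' ≤ N := by
    rw [← hg, map_conj_eq_smul]
    exact conj_smul_le_conj_smul (hS'le.trans inf_le_right)
  have hgSp : IsPGroup p (MulAut.conj g • S' : Subgroup G) :=
    hS'p.of_equiv (Subgroup.equivSMul (MulAut.conj g) S')
  obtain ⟨n, hn, hnS⟩ := exists_conj_le_of_not_dvd_relIndex (hP'le.trans inf_le_right) hP'p
    hP'idx hgS hgSp
  have hngS : S'.map (MulAut.conj (n * g)).toMonoidHom ≤ M := by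
    rw [map_conj_eq_smul, map_mul, mul_smul]
    exact hnS.trans (hP'le.trans inf_le_left)
  obtain ⟨m, hm, c, hc, hngmc⟩ :=
    (sigma_ctrl hG hU M hM p hpσM S' hS'p (hS'le.trans inf_le_left)).1 (n * g) hngS
  have hcN' : c ∈ N' := by
    apply hzN'
    rw [Subgroup.mem_centralizer_singleton_iff]
    exact (Subgroup.mem_centralizer_iff.mp hc z hzS').symm
  refine ⟨m, hm, ?_⟩
  have h1 : MulAut.conj n • N = N := conj_smul_eq_of_mem N hn
  have h2 : MulAut.conj c • N' = N' := conj_smul_eq_of_mem N' hcN'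
  calc N'.map (MulAut.conj m).toMonoidHom = MulAut.conj m • N' := rfl
    _ = MulAut.conj m • MulAut.conj c • N' := by rw [h2]
    _ = MulAut.conj (m * c) • N' := by rw [map_mul, mul_smul]
    _ = MulAut.conj (n * g) • N' := by rw [hngmc]
    _ = MulAut.conj n • MulAut.conj g • N' := by rw [map_mul, mul_smul]
    _ = MulAut.conj n • N := by rw [← map_conj_eq_smul g N', hg]
    _ = N := h1

/-- **S1436** (B&G 14.10/14.11) from the modules [T], [S1], [S2] (and helper54's [A0], [L2]). -/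
theorem s1436_of (hG : IsMinSimpleOddOrder G) (hT : TStmt G) (hS1 : S1Stmt G) (hS2 : S2Stmt G)
    (M : Subgroup G) (hM : IsCoatom M) (x : G) (hx : x ∈ Cfsg.sigmaCore M) (hx1 : x ≠ 1)
    (hxM : ¬ Subgroup.centralizer ({x} : Set G) ≤ M) (N : Subgroup G) (hN : IsCoatom N)
    (hxN : Subgroup.centralizer ({x} : Set G) ≤ N) :
    ((∃ p ∈ Cfsg.sigma N, p ∣ Nat.card M) → Cfsg.kappa M = ∅ ∧ Cfsg.tau2 M = ∅) ∧
      ∀ (y : G) (N' : Subgroup G) (g : G), y ∈ Cfsg.sigmaCore M → y ≠ 1 →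
        ¬ Subgroup.centralizer ({y} : Set G) ≤ M → IsCoatom N' →
        Subgroup.centralizer ({y} : Set G) ≤ N' →
        N'.map (MulAut.conj g).toMonoidHom = N → ∃ m ∈ M, N'.map (MulAut.conj m).toMonoidHom = N := by
  refine ⟨?_, ?_⟩
  · rintro ⟨q, hq, hqM⟩
    by_cases hκ : (kappa N).Nonempty
    · obtain ⟨k, p, Nstar, K, U, t, h⟩ := exists_ctx_pow hG M hM x hx hx1 hxM N hN hxN hκ
      exact ⟨h.hκM, tau2_eq_empty hT hS1 hS2 h⟩
    · exact Cfsg.Agent.Lib.Helper54.kappa_tau2_empty_of_kappa_empty hG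
        (fun M hM K U hKU hK1 => Cfsg.Agent.S1366.result hG M hM K U hKU hK1)
        (fun M hM K U hKU hK1 Ms hMs hKst hKstH =>
          Cfsg.Agent.S1367.result hG M hM K U hKU hK1 Ms hMs hKst hKstH)
        M N hM hN x hx hx1 hxM hxN (Set.not_nonempty_iff_eq_empty.mp hκ) hq hqM
  · intro y N' g hy hy1 hyM hN' hyN' hg
    exact exists_conj_mem hG M hM x hx hx1 hxM N hN hxN y N' g hy hy1 hyM hN' hyN' hg

end Cfsg.Agent.Lib.Helper22.BGFifteenNine
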