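/-
helper22 shared library, part 4: the layer of a subnormal subgroup, splitting the layer along a
subnormal subgroup, subnormal subgroups of `F*(G)`.
All declarations live in `Cfsg.Agent.Lib.Helper22`.
-/
import Mathlib
import Cfsg.Prelude.Def_Local
import Cfsg.Agent.Lib.Helper1.Fitting
import Cfsg.Agent.Lib.Helper29.Iso
import Cfsg.Agent.Lib.Helper22.FStar

set_option autoImplicit false
set_option linter.style.haveILetI false

namespace Cfsg.Agent.Lib.Helper22

open Cfsg
open scoped commutatorElement

section LayerSubnormal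

variable {G : Type*} [Group G]

/-- The layer of a subnormal subgroup `H`, viewed in `G`, is generated by the components of `G`
contained in `H`. -/
theorem layer_map_subtype_of_isSubnormal {H : Subgroup G} (hH : H.IsSubnormal) :
    (layer H).map H.subtype = sSup {L : Subgroup G | IsComponent L ∧ L ≤ H} := by
  apply le_antisymm
  · unfold layer
    rw [sSup_eq_iSup, Subgroup.map_iSup]
    refine iSup_le fun K => ?_
    rw [Subgroup.map_iSup]
    refine iSup_le fun hK => ?_
    exact le_sSup ⟨component_map_subtype hH hK, Subgroup.map_subtype_le K⟩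
  · apply sSup_le
    rintro L ⟨hL, hLH⟩
    have h1 : L.subgroupOf H ≤ layer H := le_sSup (component_subgroupOf hL hLH)
    have h2 := Subgroup.map_mono (f := H.subtype) h1
    rwa [Subgroup.map_subgroupOf_eq_of_le hLH] at h2

/-- The layer of a subnormal subgroup lies in the layer. -/
theorem layer_map_subtype_le_of_isSubnormal {H : Subgroup G} (hH : H.IsSubnormal) :
    (layer H).map H.subtype ≤ layer G := by
  rw [layer_map_subtype_of_isSubnormal hH]
  apply sSup_le
  rintro L ⟨hL, _⟩
  exact component_le_layer hL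

/-- Monotonicity of the layer along subnormal inclusions `S ≤ B`. -/
theorem layer_map_subtype_mono_of_isSubnormal {S B : Subgroup G} (hSB : S ≤ B)
    (h : (S.subgroupOf B).IsSubnormal) :
    (layer S).map S.subtype ≤ (layer B).map B.subtype := by
  have h1 := layer_map_subtype_le_of_isSubnormal h
  have h2 := Subgroup.map_mono (f := B.subtype) h1
  have e := Cfsg.Agent.Lib.Helper29.layer_map_mulEquiv (Subgroup.subgroupOfEquivOfLe hSB)
  rw [← e, Subgroup.map_map]
  rw [Subgroup.map_map] at h2
  exact h2

/-- Monotonicity of the Fitting subgroup along subnormal inclusions `S ≤ B`. -/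
theorem fittingSubgroup_map_subtype_mono_of_isSubnormal [Finite G] {S B : Subgroup G}
    (hSB : S ≤ B) (h : (S.subgroupOf B).IsSubnormal) :
    (fittingSubgroup S).map S.subtype ≤ (fittingSubgroup B).map B.subtype := by
  have h1 := fittingSubgroup_map_subtype_le_of_isSubnormal h
  have h2 := Subgroup.map_mono (f := B.subtype) h1
  have e := Cfsg.Agent.Lib.Helper29.fittingSubgroup_map_mulEquiv
    (Subgroup.subgroupOfEquivOfLe hSB)
  rw [← e, Subgroup.map_map]
  rw [Subgroup.map_map] at h2
  exact h2

end LayerSubnormal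

section Split

variable {G : Type*} [Group G]

/-- The join of the components of `G` contained in `S`. -/
def layerIn (S : Subgroup G) : Subgroup G := sSup {L : Subgroup G | IsComponent L ∧ L ≤ S}

/-- The join of the components of `G` not contained in `S`. -/
def layerOut (S : Subgroup G) : Subgroup G := sSup {L : Subgroup G | IsComponent L ∧ ¬ L ≤ S}

theorem layerIn_le (S : Subgroup G) : layerIn S ≤ S :=
  sSup_le fun _ h => h.2

theorem layerIn_le_layer (S : Subgroup G) : layerIn S ≤ layer G :=
  sSup_le fun _ h => component_le_layer h.1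

theorem layerOut_le_layer (S : Subgroup G) : layerOut S ≤ layer G :=
  sSup_le fun _ h => component_le_layer h.1

theorem layer_eq_layerIn_sup_layerOut (S : Subgroup G) : layer G = layerIn S ⊔ layerOut S := by
  unfold layer layerIn layerOut
  rw [← sSup_union]
  congr 1
  ext L
  simp only [Set.mem_setOf_eq, Set.mem_union]
  tauto

theorem layerIn_eq_layer_map_subtype {S : Subgroup G} (hS : S.IsSubnormal) :
    layerIn S = (layer S).map S.subtype :=
  (layer_map_subtype_of_isSubnormal hS).symm

/-- Components not contained in a subnormal subgroup `S` centralize `S`. -/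
theorem commutator_layerOut_eq_bot [Finite G] {S : Subgroup G} (hS : S.IsSubnormal) :
    ⁅layerOut S, S⁆ = ⊥ := by
  rw [Subgroup.commutator_eq_bot_iff_le_centralizer]
  apply sSup_le
  rintro L ⟨hL, hLS⟩
  rw [← Subgroup.commutator_eq_bot_iff_le_centralizer]
  exact (component_le_or_commutator_eq_bot hL hS).resolve_left hLS

theorem commutator_layerIn_layerOut_eq_bot [Finite G] (S : Subgroup G) :
    ⁅layerIn S, layerOut S⁆ = ⊥ := by
  rw [Subgroup.commutator_eq_bot_iff_le_centralizer]
  apply sSup_le
  rintro L ⟨hL, hLS⟩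
  rw [← Subgroup.commutator_eq_bot_iff_le_centralizer, Subgroup.commutator_comm,
    Subgroup.commutator_eq_bot_iff_le_centralizer]
  apply sSup_le
  rintro K ⟨hK, hKS⟩
  rw [← Subgroup.commutator_eq_bot_iff_le_centralizer]
  apply component_commutator_eq_bot_of_ne hK hL
  rintro rfl
  exact hKS hLS

/-- An element of the layer centralizing the layer lies in the Fitting subgroup. -/
theorem mem_fittingSubgroup_of_mem_layer_of_centralizes [Finite G] {x : G} (hx : x ∈ layer G)
    (hc : x ∈ Subgroup.centralizer (layer G : Set G)) : x ∈ fittingSubgroup G := by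
  haveI hEn : (layer G).Normal := Cfsg.Agent.Lib.Helper29.layer_normal G
  have hn : ((Subgroup.center ↥(layer G)).map (layer G).subtype).Normal :=
    ConjAct.normal_of_characteristic_of_normal
  have hcomm : IsMulCommutative ((Subgroup.center ↥(layer G)).map (layer G).subtype) :=
    inferInstance
  have h0 : ((Subgroup.center ↥(layer G)).map (layer G).subtype).lowerCentralSeries 1 = ⊥ :=
    Subgroup.commutator_self_eq_bot_iff.mpr hcomm
  have hnil : Group.IsNilpotent ((Subgroup.center ↥(layer G)).map (layer G).subtype) :=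
    Subgroup.isNilpotent_of_lowerCentralSeries_eq_bot h0
  have hle : (Subgroup.center ↥(layer G)).map (layer G).subtype ≤ fittingSubgroup G :=
    le_sSup ⟨hn, hnil⟩
  apply hle
  refine ⟨⟨x, hx⟩, ?_, rfl⟩
  show (⟨x, hx⟩ : layer G) ∈ Subgroup.center ↥(layer G)
  rw [Subgroup.mem_center_iff]
  rintro ⟨y, hy⟩
  rw [Subgroup.mem_centralizer_iff] at hc
  exact Subtype.ext (hc y hy)

end Split

end Cfsg.Agent.Lib.Helper22

namespace Cfsg.Agent.Lib.Helper22

open Cfsg
open scoped commutatorElement

section SubnormalFStar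

variable {G : Type*} [Group G]

/-- A subgroup of a nilpotent subgroup is nilpotent. -/
theorem isNilpotent_of_le {T F : Subgroup G} (h : T ≤ F) (hF : Group.IsNilpotent F) :
    Group.IsNilpotent T := by
  obtain ⟨n, hn⟩ := (Subgroup.isNilpotent_iff_lowerCentralSeries F).mp hF
  apply Subgroup.isNilpotent_of_lowerCentralSeries_eq_bot (n := n)
  rw [eq_bot_iff, ← hn]
  exact Subgroup.lowerCentralSeries_mono n h

/-- For a subnormal subgroup `S` of a finite group, `F(S) = F(G) ∩ S`. -/
theorem fittingSubgroup_map_subtype_eq_inf_of_isSubnormal [Finite G] {S : Subgroup G}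
    (hS : S.IsSubnormal) : (fittingSubgroup S).map S.subtype = fittingSubgroup G ⊓ S := by
  apply le_antisymm
  · exact le_inf (fittingSubgroup_map_subtype_le_of_isSubnormal hS) (Subgroup.map_subtype_le _)
  · have hFn : (fittingSubgroup G).Normal := Cfsg.Agent.Lib.Helper29.fittingSubgroup_normal G
    have hn : ((fittingSubgroup G).subgroupOf S).Normal := hFn.subgroupOf S
    have hnilF : Group.IsNilpotent (fittingSubgroup G) :=
      Cfsg.Agent.Lib.Helper1.fittingSubgroup_isNilpotent
    have hnil1 : Group.IsNilpotent (fittingSubgroup G ⊓ S : Subgroup G) :=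
      isNilpotent_of_le inf_le_left hnilF
    have e : ((fittingSubgroup G ⊓ S).subgroupOf S) ≃* (fittingSubgroup G ⊓ S : Subgroup G) :=
      Subgroup.subgroupOfEquivOfLe inf_le_right
    have hnil2 : Group.IsNilpotent ((fittingSubgroup G ⊓ S).subgroupOf S) :=
      Group.nilpotent_of_mulEquiv e.symm
    rw [Subgroup.inf_subgroupOf_right] at hnil2
    have hle : (fittingSubgroup G).subgroupOf S ≤ fittingSubgroup S := le_sSup ⟨hn, hnil2⟩
    have := Subgroup.map_mono (f := S.subtype) hle
    rwa [Subgroup.subgroupOf_map_subtype] at this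

/-- Structure of a subnormal subgroup `S` of `F*(G)`: it is generated by the components of `G`
inside it and by `F(G) ∩ S`. -/
theorem le_layerIn_sup_fittingSubgroup_inf [Finite G] {S : Subgroup G} (hS : S.IsSubnormal)
    (hSF : S ≤ generalizedFittingSubgroup G) : S ≤ layerIn S ⊔ (fittingSubgroup G ⊓ S) := by
  intro s hs
  haveI hFn : (fittingSubgroup G).Normal := Cfsg.Agent.Lib.Helper29.fittingSubgroup_normal G
  have hs' : s ∈ ((layer G ⊔ fittingSubgroup G : Subgroup G) : Set G) := hSF hs
  rw [Subgroup.mul_normal] at hs'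
  obtain ⟨e, he, f, hf, rfl⟩ := Set.mem_mul.mp hs'
  have h12 := commutator_layerIn_layerOut_eq_bot S
  have hnorm : layerIn S ≤ Subgroup.normalizer (layerOut S : Set G) :=
    (Subgroup.commutator_eq_bot_iff_le_centralizer.mp h12).trans
      (Subgroup.centralizer_le_normalizer _)
  have he' : e ∈ ((layerIn S ⊔ layerOut S : Subgroup G) : Set G) := by
    rw [← layer_eq_layerIn_sup_layerOut]; exact he
  rw [Subgroup.coe_mul_of_left_le_normalizer_right _ _ hnorm] at he'
  obtain ⟨e₁, he₁, e₂, he₂, rfl⟩ := Set.mem_mul.mp he'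
  -- `t = e₂ * f ∈ S`
  have ht : e₂ * f ∈ S := by
    have : e₂ * f = e₁⁻¹ * (e₁ * e₂ * f) := by group
    rw [this]
    exact S.mul_mem (S.inv_mem (layerIn_le S he₁)) hs
  -- `f` centralizes the layer
  have hfc : ∀ y ∈ layer G, y * f = f * y := by
    intro y hy
    have : ⁅y, f⁆ ∈ ⁅layer G, fittingSubgroup G⁆ := Subgroup.commutator_mem_commutator hy hf
    rwa [layer_commutator_fittingSubgroup, Subgroup.mem_bot,
      commutatorElement_eq_one_iff_mul_comm] at this
  -- `e₂` centralizes `layerOut S`
  have h2c : ∀ y ∈ layerOut S, y * e₂ = e₂ * y := by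
    intro y hy
    have h1 : ⁅y, e₂ * f⁆ ∈ ⁅layerOut S, S⁆ := Subgroup.commutator_mem_commutator hy ht
    rw [commutator_layerOut_eq_bot hS, Subgroup.mem_bot,
      commutatorElement_eq_one_iff_mul_comm] at h1
    have h2 := hfc y (layerOut_le_layer S hy)
    have : y * e₂ * f = e₂ * y * f := by
      calc y * e₂ * f = y * (e₂ * f) := by group
        _ = e₂ * f * y := h1
        _ = e₂ * (f * y) := by group
        _ = e₂ * (y * f) := by rw [h2]
        _ = e₂ * y * f := by group
    exact mul_right_cancel this
  -- `e₂` centralizes `layerIn S`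
  have h1c : ∀ y ∈ layerIn S, y * e₂ = e₂ * y := by
    intro y hy
    have : ⁅y, e₂⁆ ∈ ⁅layerIn S, layerOut S⁆ := Subgroup.commutator_mem_commutator hy he₂
    rwa [h12, Subgroup.mem_bot, commutatorElement_eq_one_iff_mul_comm] at this
  have hcE : e₂ ∈ Subgroup.centralizer (layer G : Set G) := by
    rw [Subgroup.mem_centralizer_iff]
    intro y hy
    have hy' : y ∈ ((layerIn S ⊔ layerOut S : Subgroup G) : Set G) := by
      rw [← layer_eq_layerIn_sup_layerOut]; exact hy
    rw [Subgroup.coe_mul_of_left_le_normalizer_right _ _ hnorm] at hy'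
    obtain ⟨y₁, hy₁, y₂, hy₂, rfl⟩ := Set.mem_mul.mp hy'
    calc y₁ * y₂ * e₂ = y₁ * (y₂ * e₂) := by group
      _ = y₁ * (e₂ * y₂) := by rw [h2c y₂ hy₂]
      _ = (y₁ * e₂) * y₂ := by group
      _ = (e₂ * y₁) * y₂ := by rw [h1c y₁ hy₁]
      _ = e₂ * (y₁ * y₂) := by group
  have he₂F : e₂ ∈ fittingSubgroup G :=
    mem_fittingSubgroup_of_mem_layer_of_centralizes (layerOut_le_layer S he₂) hcE
  have htF : e₂ * f ∈ fittingSubgroup G ⊓ S :=
    Subgroup.mem_inf.mpr ⟨(fittingSubgroup G).mul_mem he₂F hf, ht⟩
  have : e₁ * e₂ * f = e₁ * (e₂ * f) := by group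
  rw [this]
  exact Subgroup.mul_mem_sup he₁ htF

/-- A subnormal subgroup `S` of `F*(G)` satisfies `S = F(S) E(S)`. -/
theorem fittingSubgroup_sup_layer_eq_top_of_isSubnormal_of_le [Finite G] {S : Subgroup G}
    (hS : S.IsSubnormal) (hSF : S ≤ generalizedFittingSubgroup G) :
    fittingSubgroup S ⊔ layer S = ⊤ := by
  apply Subgroup.map_injective S.subtype_injective
  rw [Subgroup.map_sup, fittingSubgroup_map_subtype_eq_inf_of_isSubnormal hS,
    ← layerIn_eq_layer_map_subtype hS, ← MonoidHom.range_eq_map, Subgroup.range_subtype]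
  apply le_antisymm
  · exact sup_le inf_le_right (layerIn_le S)
  · rw [sup_comm]
    exact le_layerIn_sup_fittingSubgroup_inf hS hSF

/-- `F*(S) = S` for subnormal `S ≤ F*(G)`. -/
theorem generalizedFittingSubgroup_eq_top_of_isSubnormal_of_le [Finite G] {S : Subgroup G}
    (hS : S.IsSubnormal) (hSF : S ≤ generalizedFittingSubgroup G) :
    generalizedFittingSubgroup S = ⊤ := by
  unfold generalizedFittingSubgroup
  rw [sup_comm]
  exact fittingSubgroup_sup_layer_eq_top_of_isSubnormal_of_le hS hSF

end SubnormalFStar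

end Cfsg.Agent.Lib.Helper22
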