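import Mathlib
import Cfsg.Prelude.Def_CaseTheorems
import Cfsg.Agent.Lib.Helper22.PPrimeCore

set_option autoImplicit false

namespace Cfsg.Agent.Lib.Helper22.GT

open Cfsg

universe u

variable {G : Type*} [Group G]

/-- restriction to an invariant subgroup `M` of a group `A` of automorphisms. -/
def resHom (A : Subgroup (MulAut G)) (M : Subgroup G) (hA : ∀ a ∈ A, ∀ m ∈ M, a m ∈ M) :
    A →* MulAut M where
  toFun a :=
    { toFun := fun m => ⟨(a : MulAut G) m, hA a a.2 m m.2⟩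
      invFun := fun m => ⟨(a : MulAut G)⁻¹ m, hA _ (inv_mem a.2) m m.2⟩
      left_inv := fun m => by ext; simp
      right_inv := fun m => by ext; simp
      map_mul' := fun m m' => by ext; simp }
  map_one' := by ext; rfl
  map_mul' := by intro a b; ext; rfl

@[simp] theorem resHom_apply_coe (A : Subgroup (MulAut G)) (M : Subgroup G)
    (hA : ∀ a ∈ A, ∀ m ∈ M, a m ∈ M) (a : A) (m : M) :
    ((resHom A M hA a m : M) : G) = (a : MulAut G) (m : G) := rfl

theorem map_eq_of_forall_mem (A : Subgroup (MulAut G)) (N : Subgroup G)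
    (hA : ∀ a ∈ A, ∀ x ∈ N, a x ∈ N) (a : A) :
    N.map ((a : MulAut G) : G ≃* G).toMonoidHom = N := by
  apply le_antisymm
  · rintro _ ⟨x, hx, rfl⟩
    exact hA a a.2 x hx
  · intro x hx
    refine ⟨(a : MulAut G)⁻¹ x, hA _ (inv_mem a.2) x hx, ?_⟩
    simp

/-- action on the quotient by an invariant normal subgroup `N` of a group `A` of automorphisms. -/
def quotHom (A : Subgroup (MulAut G)) (N : Subgroup G) [N.Normal]
    (hA : ∀ a ∈ A, ∀ x ∈ N, a x ∈ N) : A →* MulAut (G ⧸ N) where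
  toFun a := QuotientGroup.congr N N (a : MulAut G) (map_eq_of_forall_mem A N hA a)
  map_one' := by
    ext x
    induction x using QuotientGroup.induction_on with
    | H g => rfl
  map_mul' := by
    intro a b
    ext x
    induction x using QuotientGroup.induction_on with
    | H g => rfl

@[simp] theorem quotHom_apply_mk (A : Subgroup (MulAut G)) (N : Subgroup G) [N.Normal]
    (hA : ∀ a ∈ A, ∀ x ∈ N, a x ∈ N) (a : A) (g : G) :
    quotHom A N hA a (QuotientGroup.mk g) = QuotientGroup.mk ((a : MulAut G) g) := rfl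

/-- the subgroup of automorphisms fixing `S` pointwise. -/
def fixer (S : Subgroup G) : Subgroup (MulAut G) where
  carrier := {a | ∀ s ∈ S, a s = s}
  one_mem' := fun s _ => rfl
  mul_mem' := by
    intro a b ha hb s hs
    rw [MulAut.mul_apply, hb s hs, ha s hs]
  inv_mem' := by
    intro a ha s hs
    have := ha s hs
    rw [MulAut.inv_apply]
    exact (MulEquiv.symm_apply_eq a).mpr (ha s hs).symm

theorem mem_fixer {S : Subgroup G} {a : MulAut G} : a ∈ fixer S ↔ ∀ s ∈ S, a s = s := Iff.rfl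

/-- the commutator subgroup `[R, c]`. -/
def comm {A : Type*} [Group A] (R : Subgroup A) (c : A) : Subgroup A :=
  Subgroup.closure {x | ∃ r ∈ R, x = r * c * r⁻¹ * c⁻¹}

theorem comm_le {A : Type*} [Group A] {R : Subgroup A} {c : A}
    (hc : c ∈ Subgroup.normalizer (R : Set A)) : comm R c ≤ R := by
  unfold comm
  rw [Subgroup.closure_le]
  rintro _ ⟨r, hr, rfl⟩
  have h1 : c * r⁻¹ * c⁻¹ ∈ R := (Subgroup.mem_normalizer_iff.mp hc r⁻¹).mp (inv_mem hr)
  have : r * c * r⁻¹ * c⁻¹ = r * (c * r⁻¹ * c⁻¹) := by group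
  rw [this]
  exact mul_mem hr h1

theorem map_comm_le {A A' : Type*} [Group A] [Group A'] (ψ : A →* A') (R : Subgroup A) (c : A) :
    (comm R c).map ψ ≤ comm (R.map ψ) (ψ c) := by
  unfold comm
  rw [MonoidHom.map_closure, Subgroup.closure_le]
  rintro _ ⟨_, ⟨r, hr, rfl⟩, rfl⟩
  apply Subgroup.subset_closure
  exact ⟨ψ r, Subgroup.mem_map_of_mem ψ hr, by simp⟩

/-- The literal statement of S0215 (Glauberman's Z*-theorem) at universe `u`. -/
def ZStarHyp : Prop :=
  ∀ (H : Type u) [Group H] [Finite H] (P : Sylow 2 H) (u : H), orderOf u = 2 → u ∈ P →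
    (∀ g : H, g * u * g⁻¹ ∈ P → g * u * g⁻¹ = u) →
    ∃ N : Subgroup H, N.Normal ∧ Odd (Nat.card N) ∧ ∀ g : H, (u * g * u⁻¹ * g⁻¹) ∈ N

/-- hypotheses on `(S, R, c)`. -/
structure Setup (G : Type*) [Group G] (S : Sylow 2 G) (R : Subgroup (MulAut G)) (c : MulAut G) :
    Prop where
  pR : IsPGroup 2 R
  oc : Odd (orderOf c)
  nR : c ∈ Subgroup.normalizer (R : Set (MulAut G))
  fR : R ≤ fixer (S : Subgroup G)
  fc : c ∈ fixer (S : Subgroup G)

/-- conclusion: `[R, c]` acts trivially on `G / O(G)`. -/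
def Concl (G : Type*) [Group G] (R : Subgroup (MulAut G)) (c : MulAut G) : Prop :=
  ∀ ρ ∈ comm R c, ∀ g : G, g⁻¹ * ρ g ∈ oddCore G

/-- the statement for a given group. -/
def GTFor (X : Type*) [Group X] : Prop :=
  ∀ (S : Sylow 2 X) (R : Subgroup (MulAut X)) (c : MulAut X), Setup X S R c → Concl X R c

/-- hom form of the statement. -/
theorem GTFor.hom {X : Type*} [Group X] (hX : GTFor X) {A : Type*} [Group A]
    (ψ : A →* MulAut X) (S : Sylow 2 X) (R : Subgroup A) (c : A) (pR : IsPGroup 2 R)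
    (oc : Odd (orderOf c)) (nR : c ∈ Subgroup.normalizer (R : Set A))
    (fR : ∀ r ∈ R, ψ r ∈ fixer (S : Subgroup X)) (fc : ψ c ∈ fixer (S : Subgroup X)) :
    ∀ ρ ∈ comm R c, ∀ x : X, x⁻¹ * ψ ρ x ∈ oddCore X := by
  intro ρ hρ x
  have hs : Setup X S (R.map ψ) (ψ c) := by
    refine ⟨pR.map ψ, ?_, ?_, ?_, fc⟩
    · exact Odd.of_dvd_nat oc (orderOf_map_dvd ψ c)
    · rw [Subgroup.mem_normalizer_iff]
      intro h
      constructor
      · rintro ⟨r, hr, rfl⟩
        refine ⟨c * r * c⁻¹, (Subgroup.mem_normalizer_iff.mp nR r).mp hr, by simp⟩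
      · rintro ⟨r, hr, hrr⟩
        refine ⟨c⁻¹ * r * c, ?_, ?_⟩
        · have := (Subgroup.mem_normalizer_iff.mp (inv_mem nR) r).mp hr
          simpa using this
        · rw [map_mul, map_mul, hrr, map_inv]; group
    · rintro _ ⟨r, hr, rfl⟩
      exact fR r hr
  exact hX S _ _ hs (ψ ρ) (map_comm_le ψ R c (Subgroup.mem_map_of_mem ψ hρ)) x

end Cfsg.Agent.Lib.Helper22.GT
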