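import Mathlib

set_option autoImplicit false

namespace Cfsg.Agent.Lib.Helper22.GT

/-- **Averaging lemma** (injectivity of restriction `H¹(U,Z) → H¹(U₀,Z)` for `|U:U₀|` prime to `|Z|`):
a crossed homomorphism `f : U → Z` (w.r.t. maps `φ h : Z →* Z`) vanishing on `U₀` is principal. -/
theorem averaging {U Z : Type*} [Group U] [Finite U] [CommGroup Z] [Finite Z] (U₀ : Subgroup U)
    (hcop : (Nat.card Z).Coprime U₀.index) (φ : U → Z →* Z) (f : U → Z)
    (hf : ∀ h u, f (h * u) = f h * φ h (f u)) (h0 : ∀ u ∈ U₀, f u = 1) :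
    ∃ w : Z, ∀ h, f h = w * (φ h w)⁻¹ := by
  classical
  letI : Fintype (U ⧸ U₀) := Fintype.ofFinite _
  -- f is constant on left cosets
  have hconst : ∀ a b : U, QuotientGroup.leftRel U₀ a b → f a = f b := by
    intro a b hab
    rw [QuotientGroup.leftRel_apply] at hab
    have : b = a * (a⁻¹ * b) := by group
    rw [this, hf, h0 _ hab, map_one, mul_one]
  let F : U ⧸ U₀ → Z := Quotient.lift f hconst
  have hF : ∀ u : U, F (QuotientGroup.mk u) = f u := fun u => rfl
  let a : Z := ∏ q : U ⧸ U₀, F q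
  have key : ∀ h : U, f h ^ U₀.index = a * (φ h a)⁻¹ := by
    intro h
    have h1 : ∏ q : U ⧸ U₀, F (h • q) = a :=
      Equiv.prod_comp (MulAction.toPerm h : Equiv.Perm (U ⧸ U₀)) F
    have h2 : ∀ q : U ⧸ U₀, F (h • q) = f h * φ h (F q) := by
      intro q
      induction q using QuotientGroup.induction_on with
      | H u =>
        change F (QuotientGroup.mk (h * u)) = _
        rw [hF, hF, hf]
    have h3 : ∏ q : U ⧸ U₀, F (h • q) = f h ^ U₀.index * φ h a := by
      simp only [h2]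
      rw [Finset.prod_mul_distrib, Finset.prod_const, Finset.card_univ, map_prod]
      congr 2
      rw [Subgroup.index, Nat.card_eq_fintype_card]
    rw [h1] at h3
    rw [eq_mul_inv_iff_mul_eq]
    exact h3.symm
  -- invert the power
  let e := powCoprime hcop
  obtain ⟨w, hw⟩ : ∃ w : Z, w ^ U₀.index = a := by
    refine ⟨e.symm a, ?_⟩
    have := e.apply_symm_apply a
    rwa [powCoprime_apply] at this
  refine ⟨w, ?_⟩
  intro h
  have h4 : e (f h) = a * (φ h a)⁻¹ := by
    rw [powCoprime_apply]; exact key h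
  have h5 : e (w * (φ h w)⁻¹) = a * (φ h a)⁻¹ := by
    rw [powCoprime_apply, mul_pow, inv_pow, ← map_pow (φ h), hw]
  exact e.injective (h4.trans h5.symm)

end Cfsg.Agent.Lib.Helper22.GT

namespace Cfsg.Agent.Lib.Helper22.GT

/-- Subgroup form of the averaging lemma: an endomorphism `r` of `G` which is the identity on `U₀`,
with `r u * u⁻¹ ∈ Z` on `U ≥ U₀`, where `Z` is an abelian subgroup normalized by `U` of order prime to
`|U : U₀|`, agrees on `U` with conjugation by an element of `Z`. -/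
theorem inner_of_trivial_mod {G : Type*} [Group G] [Finite G] (U U₀ Z : Subgroup G)
    (hZU : ∀ u ∈ U, ∀ z ∈ Z, u * z * u⁻¹ ∈ Z) (hZc : ∀ z ∈ Z, ∀ z' ∈ Z, z * z' = z' * z)
    (hcop : (Nat.card Z).Coprime (U₀.relIndex U)) (r : G →* G) (hr0 : ∀ u ∈ U₀, r u = u)
    (hrZ : ∀ u ∈ U, r u * u⁻¹ ∈ Z) : ∃ w ∈ Z, ∀ u ∈ U, r u = w * u * w⁻¹ := by
  classical
  letI : CommGroup ↥Z :=
    { (inferInstance : Group ↥Z) with mul_comm := fun a b => Subtype.ext (hZc a a.2 b b.2) }
  let φ : ↥U → (↥Z →* ↥Z) := fun u =>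
    { toFun := fun z => ⟨(u : G) * z * (u : G)⁻¹, hZU u u.2 z z.2⟩
      map_one' := by ext; simp
      map_mul' := by intro a b; ext; simp }
  let f : ↥U → ↥Z := fun u => ⟨r u * (u : G)⁻¹, hrZ u u.2⟩
  have hf : ∀ h u, f (h * u) = f h * φ h (f u) := by
    intro h u
    ext
    simp only [f, φ, Subgroup.coe_mul, map_mul, MonoidHom.coe_mk, OneHom.coe_mk, mul_inv_rev]
    group
  have h0 : ∀ u ∈ U₀.subgroupOf U, f u = 1 := by
    intro u hu
    ext
    simp only [f, Subgroup.coe_one]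
    rw [hr0 _ (Subgroup.mem_subgroupOf.mp hu), mul_inv_cancel]
  obtain ⟨w, hw⟩ := averaging (U₀.subgroupOf U) hcop φ f hf h0
  refine ⟨w, w.2, ?_⟩
  intro u hu
  have := congrArg Subtype.val (hw ⟨u, hu⟩)
  simp only [f, φ, Subgroup.coe_mul, MonoidHom.coe_mk, OneHom.coe_mk, Subgroup.coe_inv,
    mul_inv_rev, inv_inv] at this
  calc r u = (r u * u⁻¹) * u := by group
    _ = _ := by rw [this]; group

end Cfsg.Agent.Lib.Helper22.GT
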