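import Mathlib
import Cfsg.Prelude.Def_CaseTheorems
import Cfsg.Agent.Lib.Helper22.PPrimeCore
import Cfsg.Agent.Lib.Helper22.GTAct
import Cfsg.Agent.Lib.Helper34.NormalPComplement

set_option autoImplicit false
set_option linter.style.haveILetI false

namespace Cfsg.Agent.Lib.Helper22.GT

open Cfsg

universe u

section small

variable {G : Type*} [Group G]

theorem eq_one_of_two_pow_of_odd {x : G} (h2 : ∃ k : ℕ, orderOf x = 2 ^ k) (ho : Odd (orderOf x)) :
    x = 1 := by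
  obtain ⟨k, hk⟩ := h2
  rw [hk] at ho
  rcases Nat.eq_zero_or_pos k with rfl | hpos
  · simpa using hk
  · exact absurd ho (by rw [Nat.not_odd_iff_even]; exact (Nat.even_pow.mpr ⟨even_two, hpos.ne'⟩))

theorem odd_iff_coprime_two (n : ℕ) : Odd n ↔ n.Coprime 2 := by
  rw [Nat.coprime_comm, Nat.Prime.coprime_iff_not_dvd Nat.prime_two, Nat.odd_iff, Nat.two_dvd_ne_zero]

theorem le_oddCore {N : Subgroup G} (hN : N.Normal) (h : Odd (Nat.card N)) : N ≤ oddCore G :=
  Cfsg.Agent.Lib.Helper1.le_pPrimeCore hN ((odd_iff_coprime_two _).mp h)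

theorem odd_card_oddCore [Finite G] : Odd (Nat.card (oddCore G)) :=
  (odd_iff_coprime_two _).mpr (Cfsg.Agent.Lib.Helper22.pPrimeCore_card_coprime 2)

theorem oddCore_map_mulEquiv (e : G ≃* G) : (oddCore G).map e.toMonoidHom = oddCore G :=
  Cfsg.Agent.Lib.Helper22.pPrimeCore_map_mulEquiv 2 e

theorem mulAut_apply_mem_oddCore (a : MulAut G) {x : G} (hx : x ∈ oddCore G) : a x ∈ oddCore G := by
  have := oddCore_map_mulEquiv (G := G) a
  rw [← this]
  exact ⟨x, hx, rfl⟩

theorem odd_orderOf_of_mem_oddCore [Finite G] {x : G} (hx : x ∈ oddCore G) : Odd (orderOf x) := by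
  have h1 : orderOf (⟨x, hx⟩ : oddCore G) ∣ Nat.card (oddCore G) := orderOf_dvd_natCard _
  rw [Subgroup.orderOf_mk] at h1
  exact Odd.of_dvd_nat odd_card_oddCore h1

theorem card_quotient_lt [Finite G] {N : Subgroup G} [N.Normal] (h : N ≠ ⊥) :
    Nat.card (G ⧸ N) < Nat.card G := by
  have h1 := Subgroup.card_eq_card_quotient_mul_card_subgroup N
  have h2 : 1 < Nat.card N := by
    rw [Finite.one_lt_card_iff_nontrivial]
    exact (Subgroup.nontrivial_iff_ne_bot N).mpr h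
  have h3 : 0 < Nat.card (G ⧸ N) := Nat.card_pos
  rw [h1]
  nlinarith

theorem isPGroup_two_orderOf {P : Subgroup G} (hP : IsPGroup 2 P) {x : G} (hx : x ∈ P) :
    ∃ k : ℕ, orderOf x = 2 ^ k := by
  obtain ⟨k, hk⟩ := hP ⟨x, hx⟩
  have h1 : x ^ 2 ^ k = 1 := by
    have := congrArg Subtype.val hk
    simpa using this
  obtain ⟨j, _, hj⟩ := (Nat.dvd_prime_pow Nat.prime_two).mp (orderOf_dvd_of_pow_eq_one h1)
  exact ⟨j, hj⟩

end small

section comm

variable {A : Type*} [Group A]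

theorem conj_mem_comm {R : Subgroup A} {c d : A} (hd : d ∈ Subgroup.normalizer (R : Set A))
    (hdc : d * c = c * d) : ∀ h ∈ comm R c, d * h * d⁻¹ ∈ comm R c := by
  intro h hh
  have hle : comm R c ≤ (comm R c).comap (MulAut.conj d).toMonoidHom := by
    unfold comm
    rw [Subgroup.closure_le]
    rintro _ ⟨r, hr, rfl⟩
    change MulAut.conj d (r * c * r⁻¹ * c⁻¹) ∈ Subgroup.closure _
    apply Subgroup.subset_closure
    refine ⟨d * r * d⁻¹, (Subgroup.mem_normalizer_iff.mp hd r).mp hr, ?_⟩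
    rw [MulAut.conj_apply]
    have hc1 : d * c * d⁻¹ = c := by rw [hdc]; group
    have : d * (r * c * r⁻¹ * c⁻¹) * d⁻¹ =
        d * r * d⁻¹ * (d * c * d⁻¹) * (d * r * d⁻¹)⁻¹ * (d * c * d⁻¹)⁻¹ := by group
    rw [this, hc1]
  have := hle hh
  simpa [MulAut.conj_apply] using this

theorem mem_normalizer_comm {R : Subgroup A} {c : A} (hc : c ∈ Subgroup.normalizer (R : Set A)) :
    c ∈ Subgroup.normalizer (comm R c : Set A) := by
  rw [Subgroup.mem_normalizer_iff]
  intro h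
  constructor
  · exact conj_mem_comm hc rfl h
  · intro hh
    have := conj_mem_comm (inv_mem hc) (by group) _ hh
    simpa [mul_assoc] using this

/-- coprime action: if the odd order element `c` commutes with the `2`-element `[r,c]` then `[r,c]=1`. -/
theorem comm_eq_one_of_commute {r c : A} (hz2 : ∃ k : ℕ, orderOf (r * c * r⁻¹ * c⁻¹) = 2 ^ k)
    (hc : Odd (orderOf c)) (hcomm : (r * c * r⁻¹ * c⁻¹) * c = c * (r * c * r⁻¹ * c⁻¹)) :
    r * c * r⁻¹ * c⁻¹ = 1 := by
  set z := r * c * r⁻¹ * c⁻¹ with hz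
  have h1 : r * c * r⁻¹ = z * c := by rw [hz]; group
  have h2 : (r * c * r⁻¹) ^ orderOf c = 1 := by
    rw [conj_pow, pow_orderOf_eq_one]; group
  rw [h1, (show Commute z c from hcomm).mul_pow, pow_orderOf_eq_one, mul_one] at h2
  exact eq_one_of_two_pow_of_odd hz2 (Odd.of_dvd_nat hc (orderOf_dvd_of_pow_eq_one h2))

theorem comm_eq_bot_of_forall {R : Subgroup A} {c : A} (h : ∀ r ∈ R, r * c * r⁻¹ * c⁻¹ = 1) :
    comm R c = ⊥ := by
  unfold comm
  rw [Subgroup.closure_eq_bot_iff]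
  rintro _ ⟨r, hr, rfl⟩
  exact h r hr

theorem mem_comm_of_mem {R : Subgroup A} {c r : A} (hr : r ∈ R) : r * c * r⁻¹ * c⁻¹ ∈ comm R c :=
  Subgroup.subset_closure ⟨r, hr, rfl⟩

end comm

end Cfsg.Agent.Lib.Helper22.GT
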