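import Mathlib
import Cfsg.Prelude.Def_CaseTheorems
import Cfsg.Agent.Lib.Helper22.PPrimeCore
import Cfsg.Agent.Lib.Helper22.GTAct
import Cfsg.Agent.Lib.Helper22.GTBasic

set_option autoImplicit false
set_option linter.style.haveILetI false

namespace Cfsg.Agent.Lib.Helper22.GT

open Cfsg

universe u

/-- induction hypothesis: the statement holds for all smaller groups. -/
def IHyp (G : Type u) [Group G] : Prop :=
  ∀ (X : Type u) [Group X] [Finite X], Nat.card X < Nat.card G → GTFor X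

variable {G : Type u} [Group G]

/-- the ambient group of automorphisms: those fixing `S` pointwise and normalizing `R`. -/
def amb (S : Subgroup G) (R : Subgroup (MulAut G)) : Subgroup (MulAut G) :=
  fixer S ⊓ Subgroup.normalizer (R : Set (MulAut G))

theorem le_amb {S : Sylow 2 G} {R : Subgroup (MulAut G)} {c : MulAut G} (hs : Setup G S R c) :
    R ≤ amb (S : Subgroup G) R :=
  le_inf hs.fR Subgroup.le_normalizer

theorem mem_amb {S : Sylow 2 G} {R : Subgroup (MulAut G)} {c : MulAut G} (hs : Setup G S R c) :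
    c ∈ amb (S : Subgroup G) R :=
  ⟨hs.fc, hs.nR⟩

theorem amb_apply {S : Subgroup G} {R : Subgroup (MulAut G)} {a : MulAut G} (ha : a ∈ amb S R)
    {s : G} (hs : s ∈ S) : a s = s := ha.1 s hs

/-- working form of the induction hypothesis when `R = [R, c]`. -/
theorem wih [Finite G] (IH : IHyp G) {S : Sylow 2 G} {R : Subgroup (MulAut G)} {c : MulAut G}
    (hs : Setup G S R c) (hRc : comm R c = R) {X : Type u} [Group X] [Finite X]
    (hX : Nat.card X < Nat.card G) (ψ : ↥(amb (S : Subgroup G) R) →* MulAut X) (SX : Sylow 2 X)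
    (hfix : ∀ a : ↥(amb (S : Subgroup G) R), ψ a ∈ fixer (SX : Subgroup X)) :
    ∀ (ρ : MulAut G) (hρ : ρ ∈ R), ∀ x : X, x⁻¹ * ψ ⟨ρ, le_amb hs hρ⟩ x ∈ oddCore X := by
  intro ρ hρ x
  let c' : ↥(amb (S : Subgroup G) R) := ⟨c, mem_amb hs⟩
  have pR : IsPGroup 2 (R.subgroupOf (amb (S : Subgroup G) R)) := hs.pR.comap_subtype
  have oc : Odd (orderOf c') := by
    rw [Subgroup.orderOf_mk]; exact hs.oc
  have nR : c' ∈ Subgroup.normalizer ((R.subgroupOf (amb (S : Subgroup G) R) : Subgroup (amb (S : Subgroup G) R)) : Set (amb (S : Subgroup G) R)) := by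
    rw [Subgroup.mem_normalizer_iff]
    intro h
    rw [Subgroup.mem_subgroupOf, Subgroup.mem_subgroupOf]
    exact Subgroup.mem_normalizer_iff.mp hs.nR h
  have key := GTFor.hom (IH X hX) ψ SX (R.subgroupOf (amb (S : Subgroup G) R)) c' pR oc nR (fun r _ => hfix r) (hfix c')
  apply key
  -- membership in the commutator subgroup
  have hle : comm R c ≤ (comm (R.subgroupOf (amb (S : Subgroup G) R)) c').map (amb (S : Subgroup G) R).subtype := by
    unfold comm
    rw [Subgroup.closure_le]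
    rintro _ ⟨r, hr, rfl⟩
    refine ⟨⟨r, le_amb hs hr⟩ * c' * ⟨r, le_amb hs hr⟩⁻¹ * c'⁻¹, ?_, rfl⟩
    apply Subgroup.subset_closure
    exact ⟨⟨r, le_amb hs hr⟩, Subgroup.mem_subgroupOf.mpr hr, rfl⟩
  have hρ' : ρ ∈ comm R c := by rw [hRc]; exact hρ
  obtain ⟨ρ', hρ'1, hρ'2⟩ := hle hρ'
  have : (⟨ρ, le_amb hs hρ⟩ : ↥(amb (S : Subgroup G) R)) = ρ' := Subtype.ext hρ'2.symm
  rw [this]
  exact hρ'1

/-- reduction to the case `O(G) = 1`. -/
theorem concl_of_oddCore_ne_bot [Finite G] (IH : IHyp G) (hO : oddCore G ≠ ⊥) : GTFor G := by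
  intro S R c hs ρ hρ g
  haveI : (oddCore G).Normal := Cfsg.Agent.Lib.Helper1.pPrimeCore_normal 2
  have hlt : Nat.card (G ⧸ oddCore G) < Nat.card G := card_quotient_lt hO
  let ψ0 : ↥(⊤ : Subgroup (MulAut G)) →* MulAut (G ⧸ oddCore G) :=
    quotHom ⊤ (oddCore G) (fun a _ x hx => mulAut_apply_mem_oddCore a hx)
  let ψ : MulAut G →* MulAut (G ⧸ oddCore G) :=
    ψ0.comp (Subgroup.topEquiv (G := MulAut G)).symm.toMonoidHom
  let SX : Sylow 2 (G ⧸ oddCore G) := S.mapSurjective (QuotientGroup.mk'_surjective (oddCore G))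
  have hfixS : ∀ a ∈ fixer (S : Subgroup G), ψ a ∈ fixer (SX : Subgroup (G ⧸ oddCore G)) := by
    intro a ha x hx
    obtain ⟨s, hs', rfl⟩ := hx
    change QuotientGroup.mk (a s) = QuotientGroup.mk s
    rw [ha s hs']
  have key := GTFor.hom (IH _ hlt) ψ SX R c hs.pR hs.oc hs.nR (fun r hr => hfixS r (hs.fR hr))
    (hfixS c hs.fc) ρ hρ (QuotientGroup.mk g)
  have hbot : oddCore (G ⧸ oddCore G) = ⊥ := Cfsg.Agent.Lib.Helper22.pPrimeCore_quotient_eq_bot 2
  rw [hbot, Subgroup.mem_bot] at key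
  have h1 : (QuotientGroup.mk (g⁻¹ * ρ g) : G ⧸ oddCore G) = 1 := by
    rw [← key]; rfl
  exact (QuotientGroup.eq_one_iff _).mp h1

end Cfsg.Agent.Lib.Helper22.GT
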