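import Mathlib
import Cfsg.Prelude.Def_CaseTheorems
import Cfsg.Agent.Lib.Helper22.GTBasic

set_option autoImplicit false
set_option linter.style.haveILetI false

namespace Cfsg.Agent.Lib.Helper22.GT

open Cfsg SemidirectProduct

universe u

variable {G : Type u} [Group G]

/-- the semidirect product of `G` with a subgroup `B` of its automorphism group. -/
abbrev SD (B : Subgroup (MulAut G)) : Type u := G ⋊[B.subtype] ↥B

variable {B : Subgroup (MulAut G)}

theorem sd_decomp (x : SD B) : x = inl x.left * inr x.right := (inl_left_mul_inr_right x).symm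

theorem sd_inr_mul_inl (β : B) (g : G) :
    (inr β : SD B) * inl g = inl ((β : MulAut G) g) * inr β := by
  ext <;> simp

theorem sd_inl_conj_inr (g : G) (β : B) :
    (inl g : SD B)⁻¹ * inr β * inl g = inl (g⁻¹ * (β : MulAut G) g) * inr β := by
  ext <;> simp

theorem sd_commute_iff (g : G) (β : B) :
    (inl g : SD B) * inr β = inr β * inl g ↔ (β : MulAut G) g = g := by
  rw [sd_inr_mul_inl]
  constructor
  · intro h
    have := congrArg SemidirectProduct.left h
    simpa using this.symm
  · intro h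
    rw [h]

theorem sd_inr_comm (hab : ∀ x ∈ B, ∀ y ∈ B, x * y = y * x) (β γ : B) :
    (inr β : SD B) * inr γ = inr γ * inr β := by
  rw [← map_mul, ← map_mul]
  congr 1
  exact Subtype.ext (hab β β.2 γ γ.2)

/-- cardinality of a subgroup of the semidirect product cut out by a condition on the left
component. -/
theorem sd_card_of_left [Finite G] (X : Subgroup (SD B)) (L : Subgroup G)
    (h : ∀ x : SD B, x ∈ X ↔ x.left ∈ L) : Nat.card X = Nat.card L * Nat.card B := by
  rw [← Nat.card_prod]
  apply Nat.card_congr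
  exact
    { toFun := fun x => (⟨x.1.left, (h x.1).mp x.2⟩, x.1.right)
      invFun := fun y => ⟨⟨y.1.1, y.2⟩, (h _).mpr y.1.2⟩
      left_inv := fun x => by ext <;> rfl
      right_inv := fun y => by ext <;> rfl }

/-- the subgroup `L ⋊ B` for a subgroup `L` of `G` fixed pointwise by `B`. -/
def sdSub (L : Subgroup G) (hL : B ≤ fixer L) : Subgroup (SD B) where
  carrier := {x | x.left ∈ L}
  one_mem' := L.one_mem
  mul_mem' := by
    intro a b ha hb
    change (a * b).left ∈ L
    rw [mul_left]
    have : (B.subtype a.right) b.left = b.left := hL a.right.2 b.left hb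
    rw [this]
    exact L.mul_mem ha hb
  inv_mem' := by
    intro a ha
    change (a⁻¹).left ∈ L
    rw [inv_left]
    have : (B.subtype a.right⁻¹) a.left⁻¹ = a.left⁻¹ := hL (a.right⁻¹).2 _ (L.inv_mem ha)
    rw [this]
    exact L.inv_mem ha

theorem mem_sdSub {L : Subgroup G} {hL : B ≤ fixer L} {x : SD B} :
    x ∈ sdSub L hL ↔ x.left ∈ L := Iff.rfl

theorem sd_isPGroup [Finite G] {X : Subgroup (SD B)} {L : Subgroup G}
    (h : ∀ x : SD B, x ∈ X ↔ x.left ∈ L) (hL : IsPGroup 2 L) (hB : IsPGroup 2 B) :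
    IsPGroup 2 X := by
  haveI : Fact (Nat.Prime 2) := ⟨Nat.prime_two⟩
  obtain ⟨a, ha⟩ := hL.exists_card_eq
  obtain ⟨b, hb⟩ := hB.exists_card_eq
  apply IsPGroup.of_card (n := a + b)
  rw [sd_card_of_left X L h, ha, hb, pow_add]

theorem sd_index [Finite G] {X : Subgroup (SD B)} {L : Subgroup G}
    (h : ∀ x : SD B, x ∈ X ↔ x.left ∈ L) : X.index = L.index := by
  have h1 := X.card_mul_index
  have h2 := L.card_mul_index
  rw [sd_card_of_left X L h, SemidirectProduct.card, ← h2] at h1
  have hL : 0 < Nat.card L := Nat.card_pos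
  have hB : 0 < Nat.card B := Nat.card_pos
  have : Nat.card L * Nat.card B * X.index = Nat.card L * Nat.card B * L.index := by
    rw [h1]; ring
  exact Nat.eq_of_mul_eq_mul_left (Nat.mul_pos hL hB) this

theorem sd_relIndex [Finite G] {X Y : Subgroup (SD B)} {L M : Subgroup G}
    (hX : ∀ x : SD B, x ∈ X ↔ x.left ∈ L) (hY : ∀ x : SD B, x ∈ Y ↔ x.left ∈ M) (hLM : L ≤ M) :
    X.relIndex Y = L.relIndex M := by
  have hXY : X ≤ Y := fun x hx => (hY x).mpr (hLM ((hX x).mp hx))
  have h1 := Subgroup.relIndex_mul_relIndex ⊥ X Y bot_le hXY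
  have h2 := Subgroup.relIndex_mul_relIndex ⊥ L M bot_le hLM
  simp only [Subgroup.relIndex_bot_left] at h1 h2
  rw [sd_card_of_left X L hX, sd_card_of_left Y M hY, ← h2] at h1
  have hL : 0 < Nat.card L := Nat.card_pos
  have hB : 0 < Nat.card B := Nat.card_pos
  have : Nat.card L * Nat.card B * X.relIndex Y = Nat.card L * Nat.card B * L.relIndex M := by
    rw [h1]; ring
  exact Nat.eq_of_mul_eq_mul_left (Nat.mul_pos hL hB) this

/-- `O(G ⋊ B) = 1` if `O(G) = 1` and `B` is a `2`-group. -/
theorem sd_odd_normal_eq_bot [Finite G] (hO : oddCore G = ⊥) (hB : IsPGroup 2 B)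
    (N : Subgroup (SD B)) (hN : N.Normal) (hodd : Odd (Nat.card N)) : N = ⊥ := by
  rw [eq_bot_iff]
  intro x hx
  rw [Subgroup.mem_bot]
  have hxo : Odd (orderOf x) := by
    have h1 : orderOf (⟨x, hx⟩ : N) ∣ Nat.card N := orderOf_dvd_natCard _
    rw [Subgroup.orderOf_mk] at h1
    exact Odd.of_dvd_nat hodd h1
  -- the right component is trivial
  have hr : x.right = 1 := by
    have h2 : orderOf x.right ∣ orderOf x := by
      have := orderOf_map_dvd (rightHom : SD B →* B) x
      simpa using this
    have h3 : ∃ k : ℕ, orderOf x.right = 2 ^ k := by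
      obtain ⟨k, hk⟩ := hB x.right
      obtain ⟨j, _, hj⟩ := (Nat.dvd_prime_pow Nat.prime_two).mp (orderOf_dvd_of_pow_eq_one hk)
      exact ⟨j, hj⟩
    exact eq_one_of_two_pow_of_odd h3 (Odd.of_dvd_nat hxo h2)
  have hxl : x = inl x.left := by
    rw [sd_decomp x, hr]; simp
  -- the left component lies in a normal subgroup of odd order of G
  have hN' : (N.comap (inl : G →* SD B)).Normal := hN.comap _
  have hdvd : Nat.card (N.comap (inl : G →* SD B)) ∣ Nat.card N :=
    Subgroup.card_comap_dvd_of_injective N inl inl_injective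
  have hle := le_oddCore hN' (Odd.of_dvd_nat hodd hdvd)
  rw [hO] at hle
  have : x.left ∈ N.comap (inl : G →* SD B) := by
    rw [Subgroup.mem_comap, ← hxl]; exact hx
  have h4 := hle this
  rw [Subgroup.mem_bot] at h4
  rw [hxl, h4, map_one]

end Cfsg.Agent.Lib.Helper22.GT
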