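import Mathlib
import Cfsg.Prelude.Def_CaseTheorems
import Cfsg.Agent.Lib.Helper22.GTSemi

set_option autoImplicit false
set_option linter.style.haveILetI false

namespace Cfsg.Agent.Lib.Helper22.GT

open Cfsg SemidirectProduct

universe u

variable {G : Type u} [Group G] {B : Subgroup (MulAut G)}

/-- `T₀ = D ∩ G`. -/
def dT (D : Subgroup (SD B)) : Subgroup G := D.comap (inl : G →* SD B)

/-- `M = N(D) ∩ G`. -/
def dM (D : Subgroup (SD B)) : Subgroup G :=
  (Subgroup.normalizer (D : Set (SD B))).comap (inl : G →* SD B)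

variable {D : Subgroup (SD B)}

theorem mem_dT {t : G} : t ∈ dT D ↔ (inl t : SD B) ∈ D := Iff.rfl

theorem mem_dM {g : G} : g ∈ dM D ↔ (inl g : SD B) ∈ Subgroup.normalizer (D : Set (SD B)) := Iff.rfl

theorem D_mem_iff (hBD : ∀ β : B, (inr β : SD B) ∈ D) (d : SD B) : d ∈ D ↔ d.left ∈ dT D := by
  rw [mem_dT]
  constructor
  · intro hd
    have : (inl d.left : SD B) = d * (inr d.right)⁻¹ := by
      rw [eq_mul_inv_iff_mul_eq]; exact inl_left_mul_inr_right d
    rw [this]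
    exact D.mul_mem hd (D.inv_mem (hBD _))
  · intro hd
    rw [sd_decomp d]
    exact D.mul_mem hd (hBD _)

theorem N_mem_iff (hBD : ∀ β : B, (inr β : SD B) ∈ D) (x : SD B) :
    x ∈ Subgroup.normalizer (D : Set (SD B)) ↔ x.left ∈ dM D := by
  rw [mem_dM]
  have hB : ∀ β : B, (inr β : SD B) ∈ Subgroup.normalizer (D : Set (SD B)) :=
    fun β => Subgroup.le_normalizer (hBD β)
  constructor
  · intro hd
    have : (inl x.left : SD B) = x * (inr x.right)⁻¹ := by
      rw [eq_mul_inv_iff_mul_eq]; exact inl_left_mul_inr_right x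
    rw [this]
    exact Subgroup.mul_mem _ hd (Subgroup.inv_mem _ (hB _))
  · intro hd
    rw [sd_decomp x]
    exact Subgroup.mul_mem _ hd (hB _)

theorem dM_sub1 (hBD : ∀ β : B, (inr β : SD B) ∈ D) {g : G} (hg : g ∈ dM D) (β : B) :
    g⁻¹ * (β : MulAut G) g ∈ dT D := by
  rw [mem_dM] at hg
  have h1 : (inl g : SD B)⁻¹ * inr β * ((inl g : SD B)⁻¹)⁻¹ ∈ D :=
    (Subgroup.mem_normalizer_iff.mp (inv_mem hg) _).mp (hBD β)
  rw [inv_inv, sd_inl_conj_inr] at h1
  rw [mem_dT]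
  have := D.mul_mem h1 (D.inv_mem (hBD β))
  simpa using this

theorem dM_sub2 {g : G} (hg : g ∈ dM D) (t : G) : t ∈ dT D ↔ g * t * g⁻¹ ∈ dT D := by
  rw [mem_dM] at hg
  rw [mem_dT, mem_dT, Subgroup.mem_normalizer_iff.mp hg (inl t)]
  simp

theorem dM_char (hBD : ∀ β : B, (inr β : SD B) ∈ D) {g : G}
    (h1 : ∀ t : G, t ∈ dT D ↔ g * t * g⁻¹ ∈ dT D) (h2 : ∀ β : B, g⁻¹ * (β : MulAut G) g ∈ dT D) :
    g ∈ dM D := by
  rw [mem_dM, Subgroup.mem_normalizer_iff]
  intro d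
  rw [D_mem_iff hBD, D_mem_iff hBD]
  have hleft : ((inl g : SD B) * d * (inl g)⁻¹).left =
      (g * d.left * g⁻¹) * (g * (g⁻¹ * (d.right : MulAut G) g)⁻¹ * g⁻¹) := by
    simp only [mul_left, left_inl, right_inl, map_one, MulAut.one_apply, mul_right, one_mul,
      inv_left, inv_one, map_inv, Subgroup.coe_subtype]
    group
  rw [hleft]
  have hτ : g * (g⁻¹ * (d.right : MulAut G) g)⁻¹ * g⁻¹ ∈ dT D :=
    (h1 _).mp ((dT D).inv_mem (h2 d.right))
  rw [Subgroup.mul_mem_cancel_right _ hτ]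
  exact h1 d.left

end Cfsg.Agent.Lib.Helper22.GT
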