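import Mathlib
import Cfsg.Prelude.Def_CaseTheorems
import Cfsg.Agent.Lib.Helper22.GTCore
import Cfsg.Agent.Lib.Helper34.NormalPComplement

set_option autoImplicit false
set_option linter.style.haveILetI false

namespace Cfsg.Agent.Lib.Helper22.GT

open Cfsg

universe u

variable {G : Type u} [Group G]

/-- if `O(G) = 1`, a normal subgroup `L` with a central `2`-subgroup `T` of odd index equals `T`. -/
theorem le_of_central_of_odd_relIndex [Finite G] (hO : oddCore G = ⊥) (L T : Subgroup G) [hL : L.Normal]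
    (hT : IsPGroup 2 T) (hcen : ∀ t ∈ T, ∀ x ∈ L, t * x = x * t)
    (hodd : Odd (T.relIndex L)) : L ≤ T := by
  haveI : Fact (Nat.Prime 2) := ⟨Nat.prime_two⟩
  have hT' : IsPGroup 2 (T.subgroupOf L) := hT.comap_subtype
  have hidx : ¬ 2 ∣ (T.subgroupOf L).index := by
    intro h
    have : ¬ 2 ∣ T.relIndex L := by
      rw [Nat.two_dvd_ne_zero]; exact Nat.odd_iff.mp hodd
    exact this h
  let P : Sylow 2 L := hT'.toSylow hidx
  have hPc : (P : Subgroup L) ≤ Subgroup.center L := by
    intro x hx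
    rw [Subgroup.mem_center_iff]
    intro y
    have hx' : (x : G) ∈ T := Subgroup.mem_subgroupOf.mp hx
    exact Subtype.ext (hcen x hx' y y.2).symm
  obtain ⟨Y, hYn, hYc⟩ := Cfsg.Agent.Lib.Helper34.exists_normal_complement_of_sylow_le_center P hPc
  have hYcard : Nat.card Y = T.relIndex L := by
    have := hYc.index_eq_card
    rw [← this]; rfl
  have hYodd : Odd (Nat.card Y) := hYcard ▸ hodd
  have hn : (Y.map L.subtype).Normal := by
    constructor
    rintro _ ⟨y, hy, rfl⟩ g
    have hmem : g * (y : G) * g⁻¹ ∈ L := hL.conj_mem _ y.2 g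
    refine ⟨⟨g * (y : G) * g⁻¹, hmem⟩, ?_, rfl⟩
    apply Cfsg.Agent.Lib.Helper34.mem_of_coprime_orderOf_of_isComplement' P Y hYc
    rw [← odd_iff_coprime_two, Subgroup.orderOf_mk]
    have h1 : orderOf (g * (y : G) * g⁻¹) = orderOf (y : G) := by
      have := orderOf_injective (MulAut.conj g).toMonoidHom (MulAut.conj g).injective (y : G)
      simpa [MulAut.conj_apply] using this
    rw [h1, Subgroup.orderOf_coe]
    have h2 : orderOf (⟨y, hy⟩ : Y) ∣ Nat.card Y := orderOf_dvd_natCard _
    rw [Subgroup.orderOf_mk] at h2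
    exact Odd.of_dvd_nat hYodd h2
  have hcard : Nat.card (Y.map L.subtype) = Nat.card Y :=
    Subgroup.card_map_of_injective L.subtype_injective
  have hle : Y.map L.subtype ≤ oddCore G := le_oddCore hn (hcard ▸ hYodd)
  rw [hO, le_bot_iff, Subgroup.map_eq_bot_iff_of_injective _ L.subtype_injective] at hle
  rw [hle] at hYc
  have hP : (P : Subgroup L) = ⊤ := Subgroup.isComplement'_bot_left.mp hYc
  intro x hx
  have : (⟨x, hx⟩ : L) ∈ (P : Subgroup L) := by rw [hP]; trivial
  exact Subgroup.mem_subgroupOf.mp this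

end Cfsg.Agent.Lib.Helper22.GT
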