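import Mathlib
import Cfsg.Prelude.Def_CaseTheorems
import Cfsg.Agent.Lib.Helper22.GTCore
import Cfsg.Agent.Lib.Helper22.GTAvg
import Cfsg.Agent.Lib.Helper22.GTStep1a

set_option autoImplicit false
set_option linter.style.haveILetI false

namespace Cfsg.Agent.Lib.Helper22.GT

open Cfsg

universe u

variable {G : Type u} [Group G]

/-- an automorphism fixing `w` commutes with conjugation by `w`. -/
theorem conj_agree {U : Subgroup G} {a ρ : MulAut G} {w : G} (hw : a w = w)
    (hU : ∀ u ∈ U, a⁻¹ u ∈ U) (hρ : ∀ u ∈ U, ρ u = w * u * w⁻¹) :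
    ∀ u ∈ U, (a * ρ * a⁻¹) u = ρ u := by
  intro u hu
  rw [MulAut.mul_apply, MulAut.mul_apply, hρ _ (hU u hu), hρ u hu, map_mul, map_mul, map_inv, hw]
  simp

theorem step1_abelian [Finite G] (IH : IHyp G) {S : Sylow 2 G} {R : Subgroup (MulAut G)}
    {c : MulAut G} (hs : Setup G S R c) (hRc : comm R c = R) (hO : oddCore G = ⊥)
    (T : Subgroup G) [hTn : T.Normal] (hT : IsPGroup 2 T)
    (hab : ∀ x ∈ T, ∀ y ∈ T, x * y = y * x) (hT0 : T ≠ ⊥) : R = ⊥ := by
  haveI : Fact (Nat.Prime 2) := ⟨Nat.prime_two⟩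
  have hTS : T ≤ (S : Subgroup G) := hT.le_sylow_of_normal S
  have hAT : ∀ a ∈ amb (S : Subgroup G) R, ∀ x ∈ T, a x ∈ T := by
    intro a ha x hx
    rw [amb_apply ha (hTS hx)]; exact hx
  let ψ := quotHom (amb (S : Subgroup G) R) T hAT
  let SX : Sylow 2 (G ⧸ T) := S.mapSurjective (QuotientGroup.mk'_surjective T)
  have hfix : ∀ a : ↥(amb (S : Subgroup G) R), ψ a ∈ fixer (SX : Subgroup (G ⧸ T)) := by
    intro a x hx
    obtain ⟨s, hs', rfl⟩ := hx
    change QuotientGroup.mk ((a : MulAut G) s) = QuotientGroup.mk s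
    rw [amb_apply a.2 hs']
  have hlt : Nat.card (G ⧸ T) < Nat.card G := card_quotient_lt hT0
  have h1 := wih IH hs hRc hlt ψ SX hfix
  haveI : (oddCore (G ⧸ T)).Normal := Cfsg.Agent.Lib.Helper1.pPrimeCore_normal 2
  let K : Subgroup G := (oddCore (G ⧸ T)).comap (QuotientGroup.mk' T)
  have hKn : K.Normal := inferInstance
  have hK1 : ∀ ρ ∈ R, ∀ g : G, g⁻¹ * ρ g ∈ K := fun ρ hρ g => h1 ρ hρ (QuotientGroup.mk g)
  have hTK : T ≤ K := by
    intro t ht
    change QuotientGroup.mk' T t ∈ oddCore (G ⧸ T)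
    rw [QuotientGroup.mk'_apply, (QuotientGroup.eq_one_iff t).mpr ht]
    exact one_mem _
  have hKinv : ∀ a ∈ amb (S : Subgroup G) R, ∀ k ∈ K, a k ∈ K := by
    intro a ha k hk
    exact mulAut_apply_mem_oddCore (ψ ⟨a, ha⟩) hk
  have hKodd : Odd (T.relIndex K) := by
    have h2 : T = (⊥ : Subgroup (G ⧸ T)).comap (QuotientGroup.mk' T) :=
      (QuotientGroup.ker_mk' T).symm
    have h3 : T.relIndex K = Nat.card (oddCore (G ⧸ T)) := by
      conv_lhs => rw [h2]
      rw [Subgroup.relIndex_comap, Subgroup.relIndex_bot_left,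
        Subgroup.map_comap_eq_self_of_surjective (QuotientGroup.mk'_surjective T)]
    rw [h3]; exact odd_card_oddCore
  have hTc : T ≤ Subgroup.centralizer (T : Set G) := by
    intro x hx
    rw [Subgroup.mem_centralizer_iff]
    intro y hy
    exact hab y hy x hx
  have hCK : K ⊓ Subgroup.centralizer (T : Set G) ≤ T := by
    apply le_of_central_of_odd_relIndex hO (K ⊓ Subgroup.centralizer (T : Set G)) T hT
    · intro t ht x hx
      exact (Subgroup.mem_centralizer_iff.mp hx.2 t ht)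
    · have h4 := Subgroup.relIndex_mul_relIndex T (K ⊓ Subgroup.centralizer (T : Set G)) K
        (le_inf hTK hTc) inf_le_left
      exact Odd.of_dvd_nat hKodd (Dvd.intro _ h4)
  obtain ⟨n, hn⟩ := hT.exists_card_eq
  -- an element of R acts on K as conjugation by an element of T
  have hK2 : ∀ ρ ∈ R, ∃ w ∈ T, ∀ k ∈ K, ρ k = w * k * w⁻¹ := by
    intro ρ hρ
    have hρfix : ∀ t ∈ T, ρ t = t := fun t ht => hs.fR hρ t (hTS ht)
    have := inner_of_trivial_mod K T T (fun u _ z hz => hTn.conj_mem z hz u) hab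
      (by rw [hn]; exact Nat.Coprime.pow_left n ((odd_iff_coprime_two _).mp hKodd).symm)
      (ρ : G ≃* G).toMonoidHom (fun u hu => hρfix u hu) (by
        intro k hk
        apply hCK
        refine Subgroup.mem_inf.mpr ⟨K.mul_mem (hKinv ρ (le_amb hs hρ) k hk) (K.inv_mem hk), ?_⟩
        rw [Subgroup.mem_centralizer_iff]
        intro t ht
        change t * (ρ k * k⁻¹) = ρ k * k⁻¹ * t
        have h5 : k⁻¹ * t * k ∈ T := by
          have := hTn.conj_mem t ht k⁻¹
          simpa using this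
        have h6 : ρ (k⁻¹ * t * k) = k⁻¹ * t * k := hρfix _ h5
        rw [map_mul, map_mul, map_inv, hρfix t ht] at h6
        calc t * (ρ k * k⁻¹) = ρ k * ((ρ k)⁻¹ * t * ρ k) * k⁻¹ := by group
          _ = ρ k * (k⁻¹ * t * k) * k⁻¹ := by rw [h6]
          _ = ρ k * k⁻¹ * t := by group)
    exact this
  -- R centralizes K
  have hcinv : c⁻¹ ∈ amb (S : Subgroup G) R := inv_mem (mem_amb hs)
  have hK3 : ∀ ρ ∈ R, ∀ k ∈ K, ρ k = k := by
    have hle : comm R c ≤ fixer K := by
      unfold comm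
      rw [Subgroup.closure_le]
      rintro _ ⟨r, hr, rfl⟩ k hk
      obtain ⟨w, hw, hwk⟩ := hK2 r⁻¹ (inv_mem hr)
      have h7 := conj_agree (U := K) (a := c) (ρ := r⁻¹) (w := w) (hs.fc w (hTS (hw)))
        (fun u hu => hKinv _ hcinv u hu) hwk k hk
      have h8 : r * c * r⁻¹ * c⁻¹ = r * (c * r⁻¹ * c⁻¹) := by group
      rw [h8, MulAut.mul_apply, h7]
      simp
    intro ρ hρ k hk
    exact hle (hRc.symm ▸ hρ) k hk
  -- an element of R is conjugation by an element of T
  have hK4 : ∀ ρ ∈ R, ∃ w ∈ T, ∀ g : G, ρ g = w * g * w⁻¹ := by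
    intro ρ hρ
    have := inner_of_trivial_mod (⊤ : Subgroup G) (S : Subgroup G) T
      (fun u _ z hz => hTn.conj_mem z hz u) hab
      (by
        rw [hn, Subgroup.relIndex_top_right]
        apply Nat.Coprime.pow_left
        rw [Nat.coprime_comm, ← odd_iff_coprime_two, Nat.odd_iff, ← Nat.two_dvd_ne_zero]
        exact S.not_dvd_index)
      (ρ : G ≃* G).toMonoidHom (fun u hu => hs.fR hρ u hu) (by
        intro g _
        apply hCK
        have hgK : ρ g * g⁻¹ ∈ K := by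
          have := hKn.conj_mem _ (hK1 ρ hρ g) g
          have h9 : g * (g⁻¹ * ρ g) * g⁻¹ = ρ g * g⁻¹ := by group
          rwa [h9] at this
        refine Subgroup.mem_inf.mpr ⟨hgK, ?_⟩
        rw [Subgroup.mem_centralizer_iff]
        intro t ht
        change t * (ρ g * g⁻¹) = ρ g * g⁻¹ * t
        have h5 : g⁻¹ * t * g ∈ K := by
          have := hKn.conj_mem t (hTK ht) g⁻¹
          simpa using this
        have h6 : ρ (g⁻¹ * t * g) = g⁻¹ * t * g := hK3 ρ hρ _ h5
        rw [map_mul, map_mul, map_inv, hK3 ρ hρ t (hTK ht)] at h6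
        calc t * (ρ g * g⁻¹) = ρ g * ((ρ g)⁻¹ * t * ρ g) * g⁻¹ := by group
          _ = ρ g * (g⁻¹ * t * g) * g⁻¹ := by rw [h6]
          _ = ρ g * g⁻¹ * t := by group)
    obtain ⟨w, hw, hwg⟩ := this
    exact ⟨w, hw, fun g => hwg g trivial⟩
  -- hence c centralizes R
  have hfin : ∀ r ∈ R, r * c * r⁻¹ * c⁻¹ = 1 := by
    intro r hr
    obtain ⟨w, hw, hwg⟩ := hK4 r⁻¹ (inv_mem hr)
    have h7 : c * r⁻¹ * c⁻¹ = r⁻¹ := by
      ext g
      exact conj_agree (U := ⊤) (a := c) (ρ := r⁻¹) (w := w) (hs.fc w (hTS hw))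
        (fun _ _ => trivial) (fun u _ => hwg u) g trivial
    have h8 : r * c * r⁻¹ * c⁻¹ = r * (c * r⁻¹ * c⁻¹) := by group
    rw [h8, h7, mul_inv_cancel]
  rw [← hRc]
  exact comm_eq_bot_of_forall hfin

end Cfsg.Agent.Lib.Helper22.GT

namespace Cfsg.Agent.Lib.Helper22.GT

open Cfsg

universe u

variable {G : Type u} [Group G]

/-- **Step 1**: in a minimal counterexample `O₂(G) = 1`. -/
theorem step1 [Finite G] (IH : IHyp G) {S : Sylow 2 G} {R : Subgroup (MulAut G)}
    {c : MulAut G} (hs : Setup G S R c) (hRc : comm R c = R) (hO : oddCore G = ⊥) (hR : R ≠ ⊥)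
    (T : Subgroup G) [hTn : T.Normal] (hT : IsPGroup 2 T) : T = ⊥ := by
  haveI : Fact (Nat.Prime 2) := ⟨Nat.prime_two⟩
  by_contra hT0
  haveI : Nontrivial T := (Subgroup.nontrivial_iff_ne_bot T).mpr hT0
  have hc := hT.bot_lt_center
  let W : Subgroup G := (Subgroup.center T).map T.subtype
  haveI hWn : W.Normal := ConjAct.normal_of_characteristic_of_normal
  have hWT : W ≤ T := Subgroup.map_subtype_le _
  have hW : IsPGroup 2 W := hT.to_le hWT
  have hab : ∀ x ∈ W, ∀ y ∈ W, x * y = y * x := by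
    rintro _ ⟨x, hx, rfl⟩ _ ⟨y, _, rfl⟩
    have := Subgroup.mem_center_iff.mp hx y
    have h2 := congrArg Subtype.val this
    simpa using h2.symm
  have hW0 : W ≠ ⊥ := by
    intro h
    rw [Subgroup.map_eq_bot_iff_of_injective _ T.subtype_injective] at h
    exact hc.ne' h
  exact hR (step1_abelian IH hs hRc hO W hW hab hW0)

end Cfsg.Agent.Lib.Helper22.GT
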