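import Mathlib
import Cfsg.Prelude.Def_CaseTheorems
import Cfsg.Agent.Lib.Helper22.GTCore
import Cfsg.Agent.Lib.Helper22.GTStep1b
import Cfsg.Agent.Lib.Helper22.GTDAn
import Cfsg.Agent.Lib.Helper34.TameChain

set_option autoImplicit false
set_option linter.style.haveILetI false

namespace Cfsg.Agent.Lib.Helper22.GT

open Cfsg SemidirectProduct Cfsg.Agent.Lib.Helper34

universe u

variable {G : Type u} [Group G]

/-- the centre of `R` as a subgroup of the ambient group. -/
def zc (R : Subgroup (MulAut G)) : Subgroup (MulAut G) :=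
  R ⊓ Subgroup.centralizer (R : Set (MulAut G))

theorem zc_le (R : Subgroup (MulAut G)) : zc R ≤ R := inf_le_left

theorem zc_comm (R : Subgroup (MulAut G)) : ∀ x ∈ zc R, ∀ y ∈ zc R, x * y = y * x := by
  intro x hx y hy
  exact (Subgroup.mem_centralizer_iff.mp hx.2 y hy.1).symm

theorem zc_ne_bot [Finite G] {R : Subgroup (MulAut G)} (pR : IsPGroup 2 R) (hR : R ≠ ⊥) :
    zc R ≠ ⊥ := by
  haveI : Fact (Nat.Prime 2) := ⟨Nat.prime_two⟩
  haveI : Nontrivial R := (Subgroup.nontrivial_iff_ne_bot R).mpr hR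
  have hc := pR.center_nontrivial
  obtain ⟨z, hz⟩ := exists_ne (1 : Subgroup.center R)
  intro h
  have hmem : (z : R).1 ∈ zc R := by
    refine Subgroup.mem_inf.mpr ⟨(z : R).2, ?_⟩
    rw [Subgroup.mem_centralizer_iff]
    intro y hy
    have := Subgroup.mem_center_iff.mp z.2 ⟨y, hy⟩
    exact congrArg Subtype.val this
  rw [h, Subgroup.mem_bot] at hmem
  apply hz
  exact Subtype.ext (Subtype.ext hmem)

theorem zc_conj {R : Subgroup (MulAut G)} {a : MulAut G}
    (ha : a ∈ Subgroup.normalizer (R : Set (MulAut G))) {β : MulAut G} (hβ : β ∈ zc R) :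
    a * β * a⁻¹ ∈ zc R := by
  refine Subgroup.mem_inf.mpr ⟨(Subgroup.mem_normalizer_iff.mp ha β).mp hβ.1, ?_⟩
  rw [Subgroup.mem_centralizer_iff]
  intro y hy
  have hy' : a⁻¹ * y * a ∈ R := by
    have := (Subgroup.mem_normalizer_iff.mp (inv_mem ha) y).mp hy
    simpa using this
  have h1 := Subgroup.mem_centralizer_iff.mp hβ.2 _ hy'
  calc y * (a * β * a⁻¹) = a * ((a⁻¹ * y * a) * β) * a⁻¹ := by group
    _ = a * (β * (a⁻¹ * y * a)) * a⁻¹ := by rw [h1]
    _ = a * β * a⁻¹ * y := by group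

end Cfsg.Agent.Lib.Helper22.GT

namespace Cfsg.Agent.Lib.Helper22.GT

open Cfsg SemidirectProduct Cfsg.Agent.Lib.Helper34

universe u

variable {G : Type u} [Group G] [Finite G] {S : Sylow 2 G} {R : Subgroup (MulAut G)} {c : MulAut G}

omit [Finite G] in
theorem zc_fix (hs : Setup G S R c) : zc R ≤ fixer (S : Subgroup G) := (zc_le R).trans hs.fR

/-- the Sylow `2`-subgroup `S × B` of `G ⋊ B`. -/
noncomputable def PS (hs : Setup G S R c) : Sylow 2 (SD (zc R)) :=
  haveI : Fact (Nat.Prime 2) := ⟨Nat.prime_two⟩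
  IsPGroup.toSylow (P := sdSub (S : Subgroup G) (zc_fix hs))
    (sd_isPGroup (fun _ => Iff.rfl) S.isPGroup' (hs.pR.to_le (zc_le R)))
    (by rw [sd_index (L := (S : Subgroup G)) (fun _ => Iff.rfl)]; exact S.not_dvd_index)

theorem mem_PS (hs : Setup G S R c) (x : SD (zc R)) :
    x ∈ (PS hs : Subgroup (SD (zc R))) ↔ x.left ∈ (S : Subgroup G) := Iff.rfl

/-- **Step 2**: normalizers of tame intersections containing `B` centralize `B`. -/
theorem step2 (IH : IHyp G) (hs : Setup G S R c) (hRc : comm R c = R) (hO : oddCore G = ⊥)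
    (hR : R ≠ ⊥) (Q : Sylow 2 (SD (zc R))) (ht : TameInter (PS hs) Q)
    (hBD : ∀ β : zc R, (inr β : SD (zc R)) ∈
      ((PS hs : Subgroup (SD (zc R))) ⊓ (Q : Subgroup (SD (zc R))))) :
    ∀ x ∈ Subgroup.normalizer
      ((((PS hs : Subgroup (SD (zc R))) ⊓ (Q : Subgroup (SD (zc R)))) : Subgroup (SD (zc R))) :
        Set (SD (zc R))), ∀ β : zc R, x * inr β = inr β * x := by
  haveI : Fact (Nat.Prime 2) := ⟨Nat.prime_two⟩
  generalize hD : ((PS hs : Subgroup (SD (zc R))) ⊓ (Q : Subgroup (SD (zc R)))) = D at *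
  have hDP : D ≤ (PS hs : Subgroup (SD (zc R))) := hD ▸ inf_le_left
  have hT₀S : dT D ≤ (S : Subgroup G) := fun t ht => (mem_PS hs _).mp (hDP (mem_dT.mp ht))
  -- invariance of M
  have hMinv : ∀ a ∈ amb (S : Subgroup G) R, ∀ g ∈ dM D, a g ∈ dM D := by
    intro a ha g hg
    apply dM_char hBD
    · intro t
      constructor
      · intro ht
        have hta : a t = t := amb_apply ha (hT₀S ht)
        have h3 : g * t * g⁻¹ ∈ dT D := (dM_sub2 hg t).mp ht
        have : a g * t * (a g)⁻¹ = a (g * t * g⁻¹) := by rw [map_mul, map_mul, map_inv, hta]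
        rw [this, amb_apply ha (hT₀S h3)]; exact h3
      · intro hτ
        have h4 : a⁻¹ (a g * t * (a g)⁻¹) = a g * t * (a g)⁻¹ :=
          amb_apply (inv_mem ha) (hT₀S hτ)
        have h5 : a⁻¹ (a g * t * (a g)⁻¹) = g * a⁻¹ t * g⁻¹ := by
          simp [map_mul, map_inv]
        have h6 : g * a⁻¹ t * g⁻¹ ∈ dT D := by rw [← h5, h4]; exact hτ
        have h7 : a⁻¹ t ∈ dT D := (dM_sub2 hg _).mpr h6
        have h8 : a (a⁻¹ t) = a⁻¹ t := amb_apply ha (hT₀S h7)
        have h9 : t = a⁻¹ t := by simpa using h8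
        rw [h9]; exact h7
    · intro β
      have hβ' : a⁻¹ * (β : MulAut G) * a ∈ zc R := by
        have := zc_conj (inv_mem ha.2) β.2
        simpa using this
      have h3 := dM_sub1 hBD hg ⟨_, hβ'⟩
      have : (a g)⁻¹ * (β : MulAut G) (a g) = a (g⁻¹ * (a⁻¹ * (β : MulAut G) * a) g) := by
        simp [map_mul, map_inv]
      rw [this, amb_apply ha (hT₀S h3)]; exact h3
  -- S ∩ M is Sylow in M
  have hN := N_mem_iff hBD
  have hMS : ¬ 2 ∣ ((S : Subgroup G).subgroupOf (dM D)).index := by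
    have hPN : ∀ x : SD (zc R), x ∈ (PS hs : Subgroup (SD (zc R))) ⊓
        Subgroup.normalizer (D : Set (SD (zc R))) ↔ x.left ∈ (S : Subgroup G) ⊓ dM D := by
      intro x
      rw [Subgroup.mem_inf, Subgroup.mem_inf, hN x, mem_PS]
    have h1 := sd_relIndex hPN hN inf_le_right
    have h2 := ht.1
    rw [hD, h1, Subgroup.inf_relIndex_right] at h2
    exact h2
  -- M is proper
  have hMtop : dM D ≠ ⊤ := by
    intro htop
    have hall : ∀ g : G, g ∈ dM D := fun g => by rw [htop]; trivial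
    haveI hnorm : (dT D).Normal := ⟨fun t ht g => (dM_sub2 (hall g) t).mp ht⟩
    have hT0 : dT D = ⊥ := step1 IH hs hRc hO hR (dT D) (S.isPGroup'.to_le hT₀S)
    have : zc R = ⊥ := by
      rw [eq_bot_iff]
      intro β hβ
      rw [Subgroup.mem_bot]
      ext g
      have := dM_sub1 hBD (hall g) ⟨β, hβ⟩
      rw [hT0, Subgroup.mem_bot, inv_mul_eq_one] at this
      simpa using this.symm
    exact zc_ne_bot hs.pR hR this
  -- induction hypothesis on M
  have hfixM : ∀ β ∈ zc R, ∀ g ∈ dM D, β g = g := by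
    let ψ := resHom (amb (S : Subgroup G) R) (dM D) hMinv
    let SX : Sylow 2 (dM D) :=
      IsPGroup.toSylow (P := (S : Subgroup G).subgroupOf (dM D)) S.isPGroup'.comap_subtype hMS
    have hfix : ∀ a : ↥(amb (S : Subgroup G) R), ψ a ∈ fixer (SX : Subgroup (dM D)) := by
      intro a x hx
      apply Subtype.ext
      rw [resHom_apply_coe]
      exact amb_apply a.2 (Subgroup.mem_subgroupOf.mp hx)
    have hlt : Nat.card (dM D) < Nat.card G :=
      lt_of_le_of_ne (Subgroup.card_le_card_group _)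
        (fun h => hMtop ((Subgroup.card_eq_iff_eq_top _).mp h))
    have h1 := wih IH hs hRc hlt ψ SX hfix
    intro β hβ g hg
    have h2 := h1 β (zc_le R hβ) ⟨g, hg⟩
    have h3 := odd_orderOf_of_mem_oddCore h2
    have h4 : g⁻¹ * β g ∈ dT D := dM_sub1 hBD hg ⟨β, hβ⟩
    have h5 := isPGroup_two_orderOf S.isPGroup' (hT₀S h4)
    have h6 : ((⟨g, hg⟩ : dM D)⁻¹ * ψ ⟨β, le_amb hs (zc_le R hβ)⟩ ⟨g, hg⟩ : dM D).1 =
        g⁻¹ * β g := rfl
    rw [← Subgroup.orderOf_coe, h6] at h3
    have h7 := eq_one_of_two_pow_of_odd h5 h3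
    rw [inv_mul_eq_one] at h7
    exact h7.symm
  -- conclusion
  intro x hx β
  have hxl : x.left ∈ dM D := (hN x).mp hx
  have h1 := hfixM β β.2 x.left hxl
  calc x * inr β = inl x.left * inr x.right * inr β := by rw [inl_left_mul_inr_right]
    _ = inl x.left * (inr β * inr x.right) := by rw [mul_assoc, sd_inr_comm (zc_comm R)]
    _ = inr β * inl x.left * inr x.right := by rw [← mul_assoc, (sd_commute_iff _ _).mpr h1]
    _ = inr β * x := by rw [mul_assoc, inl_left_mul_inr_right]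

end Cfsg.Agent.Lib.Helper22.GT
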