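import Mathlib
import Cfsg.Prelude.Def_CaseTheorems
import Cfsg.Agent.Lib.Helper22.GTStep2
import Cfsg.Agent.Lib.Helper34.AlperinTame

set_option autoImplicit false
set_option linter.style.haveILetI false

namespace Cfsg.Agent.Lib.Helper22.GT

open Cfsg SemidirectProduct Cfsg.Agent.Lib.Helper34

universe u

/-- extremal conjugation: if `u` is centralized by the Sylow subgroup `P` and `u' = h u h⁻¹ ∈ P`,
there is `k` conjugating `u'` to `u` and `C_P(u')` into `P`. -/
theorem exists_conj_to_sylow {H : Type*} [Group H] [Finite H] {p : ℕ} [Fact p.Prime]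
    (P : Sylow p H) (u : H) (hPu : ∀ x ∈ P, x * u = u * x) (h : H) :
    ∃ k : H, k * (h * u * h⁻¹) * k⁻¹ = u ∧
      ∀ a ∈ P, a * (h * u * h⁻¹) = (h * u * h⁻¹) * a → k * a * k⁻¹ ∈ P := by
  let Cu : Subgroup H := Subgroup.centralizer {u}
  have hPCu : (P : Subgroup H) ≤ Cu := by
    intro x hx
    rw [Subgroup.mem_centralizer_iff]
    intro z hz
    rw [Set.mem_singleton_iff] at hz
    rw [hz]
    exact (hPu x hx).symm
  let E : Subgroup H := ((P : Subgroup H) ⊓ Subgroup.centralizer {h * u * h⁻¹}).map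
    (MulAut.conj h⁻¹).toMonoidHom
  have hmemE : ∀ a ∈ P, a * (h * u * h⁻¹) = (h * u * h⁻¹) * a → h⁻¹ * a * h ∈ E := by
    intro a haP hac
    refine ⟨a, Subgroup.mem_inf.mpr ⟨haP, ?_⟩, by simp⟩
    rw [Subgroup.mem_centralizer_iff]
    intro z hz
    rw [Set.mem_singleton_iff] at hz
    rw [hz]
    exact hac.symm
  have hE : E ≤ Cu := by
    rintro _ ⟨a, ha, rfl⟩
    replace ha : a ∈ (P : Subgroup H) ⊓ Subgroup.centralizer {h * u * h⁻¹} := ha
    rw [Subgroup.mem_inf] at ha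
    have hac := Subgroup.mem_centralizer_iff.mp ha.2 _ rfl
    rw [Subgroup.mem_centralizer_iff]
    intro z hz
    rw [Set.mem_singleton_iff] at hz
    rw [hz]
    simp only [MulEquiv.coe_toMonoidHom, MulAut.conj_apply, inv_inv]
    calc u * (h⁻¹ * a * h) = h⁻¹ * ((h * u * h⁻¹) * a) * h := by group
      _ = h⁻¹ * (a * (h * u * h⁻¹)) * h := by rw [hac]
      _ = h⁻¹ * a * h * u := by group
  have pE : IsPGroup p E := (P.isPGroup'.to_le inf_le_left).map _
  have pE' : IsPGroup p (E.subgroupOf Cu) := pE.comap_subtype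
  obtain ⟨Q', hQ'⟩ := pE'.exists_le_sylow
  let PCu : Sylow p Cu := P.subtype hPCu
  obtain ⟨y, hy⟩ := MulAction.exists_smul_eq Cu Q' PCu
  refine ⟨(y : H) * h⁻¹, ?_, ?_⟩
  · have hyu := Subgroup.mem_centralizer_iff.mp y.2 u rfl
    calc (y : H) * h⁻¹ * (h * u * h⁻¹) * ((y : H) * h⁻¹)⁻¹ = ((y : H) * u) * (y : H)⁻¹ := by group
      _ = (u * (y : H)) * (y : H)⁻¹ := by rw [hyu]
      _ = u := by group
  · intro a haP hac
    have he := hmemE a haP hac
    have he' : (⟨h⁻¹ * a * h, hE he⟩ : Cu) ∈ (Q' : Subgroup Cu) :=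
      hQ' (Subgroup.mem_subgroupOf.mpr he)
    have h1 : y * ⟨h⁻¹ * a * h, hE he⟩ * y⁻¹ ∈ ((y • Q' : Sylow p Cu) : Subgroup Cu) := by
      rw [mem_sylow_smul_iff]
      have : y⁻¹ * (y * ⟨h⁻¹ * a * h, hE he⟩ * y⁻¹) * y = ⟨h⁻¹ * a * h, hE he⟩ := by group
      rw [this]; exact he'
    rw [hy] at h1
    have h2 : ((y * ⟨h⁻¹ * a * h, hE he⟩ * y⁻¹ : Cu) : H) ∈ (P : Subgroup H) := h1
    have h3 : ((y * ⟨h⁻¹ * a * h, hE he⟩ * y⁻¹ : Cu) : H) = (y : H) * h⁻¹ * a * ((y : H) * h⁻¹)⁻¹ := by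
      simp only [Subgroup.coe_mul, Subgroup.coe_inv]
      group
    rw [h3] at h2
    exact h2

end Cfsg.Agent.Lib.Helper22.GT

namespace Cfsg.Agent.Lib.Helper22.GT

open Cfsg SemidirectProduct Cfsg.Agent.Lib.Helper34

universe u

variable {G : Type u} [Group G] [Finite G] {S : Sylow 2 G} {R : Subgroup (MulAut G)} {c : MulAut G}

/-- along a tame chain starting from a set containing `B`, everything centralizes `B`. -/
theorem chain_centralizes (hs : Setup G S R c)
    (hstep : ∀ Q : Sylow 2 (SD (zc R)), TameInter (PS hs) Q →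
      (∀ β : zc R, (inr β : SD (zc R)) ∈
        ((PS hs : Subgroup (SD (zc R))) ⊓ (Q : Subgroup (SD (zc R))))) →
      ∀ x ∈ Subgroup.normalizer
        ((((PS hs : Subgroup (SD (zc R))) ⊓ (Q : Subgroup (SD (zc R)))) : Subgroup (SD (zc R))) :
          Set (SD (zc R))), ∀ β : zc R, x * inr β = inr β * x)
    {A : Set (SD (zc R))} {g : SD (zc R)} (hch : TChain (PS hs) A g) :
    (∀ β : zc R, (inr β : SD (zc R)) ∈ A) → ∀ β : zc R, g * inr β = inr β * g := by
  induction hch with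
  | nil A => intro _ β; simp
  | cons A Q x g hx ht _ hA _ ih =>
    intro hBA
    have hBD : ∀ β : zc R, (inr β : SD (zc R)) ∈
        ((PS hs : Subgroup (SD (zc R))) ⊓ (Q : Subgroup (SD (zc R)))) := fun β => hA (hBA β)
    have hxc := hstep Q ht hBD x hx
    have hBA' : ∀ β : zc R, (inr β : SD (zc R)) ∈ rcj x A := by
      intro β
      rw [mem_rcj, hxc β, mul_assoc, mul_inv_cancel, mul_one]
      exact hBA β
    have h2 := ih hBA'
    intro β
    rw [mul_assoc, h2 β, ← mul_assoc, hxc β, mul_assoc]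

/-- **Steps 3 and 4**: the minimal configuration is impossible. -/
theorem step34 (hZ : ZStarHyp.{u}) (IH : IHyp G) (hs : Setup G S R c) (hRc : comm R c = R)
    (hO : oddCore G = ⊥) (hR : R ≠ ⊥) : False := by
  haveI : Fact (Nat.Prime 2) := ⟨Nat.prime_two⟩
  haveI : Finite (SD (zc R)) := Finite.of_equiv _ SemidirectProduct.equivProd.symm
  have pB : IsPGroup 2 (zc R) := hs.pR.to_le (zc_le R)
  have hB0 : zc R ≠ ⊥ := zc_ne_bot hs.pR hR
  -- an involution of B
  obtain ⟨β₀, hβ₀⟩ : ∃ β₀ : zc R, orderOf β₀ = 2 := by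
    apply exists_prime_orderOf_dvd_card'
    obtain ⟨k, hk⟩ := pB.exists_card_eq
    have h1 : 1 < Nat.card (zc R) := by
      rw [Finite.one_lt_card_iff_nontrivial]
      exact (Subgroup.nontrivial_iff_ne_bot _).mpr hB0
    rw [hk] at h1 ⊢
    rcases Nat.eq_zero_or_pos k with rfl | hpos
    · simp at h1
    · exact dvd_pow_self 2 hpos.ne'
  let u : SD (zc R) := inr β₀
  have hu2 : orderOf u = 2 := by
    rw [← hβ₀]
    exact orderOf_injective (inr : zc R →* SD (zc R)) inr_injective β₀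
  have hBP : ∀ β : zc R, (inr β : SD (zc R)) ∈ (PS hs : Subgroup (SD (zc R))) := by
    intro β
    rw [mem_PS]
    exact Subgroup.one_mem _
  -- B is central in P
  have hPB : ∀ x ∈ (PS hs : Subgroup (SD (zc R))), ∀ β : zc R, x * inr β = inr β * x := by
    intro x hx β
    have h1 : (β : MulAut G) x.left = x.left := zc_fix hs β.2 x.left ((mem_PS hs x).mp hx)
    calc x * inr β = inl x.left * inr x.right * inr β := by rw [inl_left_mul_inr_right]
      _ = inl x.left * (inr β * inr x.right) := by rw [mul_assoc, sd_inr_comm (zc_comm R)]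
      _ = inr β * inl x.left * inr x.right := by rw [← mul_assoc, (sd_commute_iff _ _).mpr h1]
      _ = inr β * x := by rw [mul_assoc, inl_left_mul_inr_right]
  have hstep := step2 IH hs hRc hO hR
  -- u is isolated
  have hiso : ∀ h : SD (zc R), h * u * h⁻¹ ∈ PS hs → h * u * h⁻¹ = u := by
    intro h hu'
    obtain ⟨k, hk1, hk2⟩ := exists_conj_to_sylow (PS hs) u (fun x hx => hPB x hx β₀) h
    let A : Set (SD (zc R)) :=
      {a | a ∈ (PS hs : Subgroup (SD (zc R))) ∧ a * (h * u * h⁻¹) = (h * u * h⁻¹) * a}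
    have hA : A ⊆ ((PS hs : Subgroup (SD (zc R))) : Set (SD (zc R))) := fun a ha => ha.1
    have hAg : rcj k⁻¹ A ⊆ ((PS hs : Subgroup (SD (zc R))) : Set (SD (zc R))) := by
      intro x hx
      rw [mem_rcj] at hx
      have := hk2 _ hx.1 hx.2
      have h3 : k * (k⁻¹ * x * k⁻¹⁻¹) * k⁻¹ = x := by group
      rwa [h3] at this
    have hch := alperin_tame_chain (PS hs) A k⁻¹ hA hAg
    have hBA : ∀ β : zc R, (inr β : SD (zc R)) ∈ A := by
      intro β
      exact ⟨hBP β, (hPB _ hu' β).symm⟩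
    have h4 := chain_centralizes hs hstep hch hBA β₀
    -- k⁻¹ commutes with u
    have h5 : k * u * k⁻¹ = u := by
      have : k⁻¹ * u = u * k⁻¹ := h4
      calc k * u * k⁻¹ = k * (u * k⁻¹) := by group
        _ = k * (k⁻¹ * u) := by rw [this]
        _ = u := by group
    calc h * u * h⁻¹ = k⁻¹ * (k * (h * u * h⁻¹) * k⁻¹) * k := by group
      _ = k⁻¹ * u * k := by rw [hk1]
      _ = k⁻¹ * (k * u * k⁻¹) * k := by rw [h5]
      _ = u := by group
  -- Z*
  obtain ⟨N, hN, hodd, hcomm⟩ := hZ (SD (zc R)) (PS hs) u hu2 (hBP β₀) hiso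
  have hNbot := sd_odd_normal_eq_bot hO pB N hN hodd
  have hβ₁ : (β₀ : MulAut G) = 1 := by
    ext g
    have h1 := hcomm (inl g)
    rw [hNbot, Subgroup.mem_bot] at h1
    have h2 : (inl g : SD (zc R)) * inr β₀ = inr β₀ * inl g := by
      have : u * inl g = inl g * u := by
        calc u * inl g = (u * inl g * u⁻¹ * (inl g)⁻¹) * (inl g * u) := by group
          _ = inl g * u := by rw [h1, one_mul]
      exact this.symm
    exact (sd_commute_iff g β₀).mp h2
  have : β₀ = 1 := Subtype.ext hβ₁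
  rw [this, orderOf_one] at hβ₀
  exact absurd hβ₀ (by norm_num)

end Cfsg.Agent.Lib.Helper22.GT
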