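import Mathlib
import Cfsg.Prelude.Def_CaseTheorems
import Cfsg.Agent.Lib.Helper22.GTStep3
import Cfsg.Agent.S0071

set_option autoImplicit false
set_option linter.style.haveILetI false

/-!
# Glauberman's theorem on `C_{Aut G}(S)` (from the Z*-theorem)

If `O(G) = 1` and `S` is a Sylow `2`-subgroup of the finite group `G`, then the group of automorphisms
of `G` fixing `S` pointwise has a normal `2`-complement.  The Z*-theorem (S0215) enters as the explicit
hypothesis `ZStarHyp`.
-/

namespace Cfsg.Agent.Lib.Helper22.GT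

open Cfsg Cfsg.Agent.Lib.Helper34

universe u

/-- the case `O(G) = 1`. -/
theorem gt_faithful (hZ : ZStarHyp.{u}) {G : Type u} [Group G] [Finite G] (IH : IHyp G)
    (hO : oddCore G = ⊥) : GTFor G := by
  intro S R c hs
  have key : ∀ (k : ℕ) (R : Subgroup (MulAut G)), Nat.card R = k → Setup G S R c →
      ∀ r ∈ R, r * c * r⁻¹ * c⁻¹ = 1 := by
    intro k
    induction k using Nat.strong_induction_on with
    | _ k ihk =>
      intro R hk hs r hr
      by_cases hRc : comm R c = R
      · by_cases hR : R = ⊥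
        · rw [hR, Subgroup.mem_bot] at hr
          rw [hr]; group
        · exact (step34 hZ IH hs hRc hO hR).elim
      · have hle : comm R c ≤ R := comm_le hs.nR
        have hlt : comm R c < R := lt_of_le_of_ne hle hRc
        have hcard : Nat.card (comm R c) < k := hk ▸ card_lt_card_of_lt hlt
        have hs' : Setup G S (comm R c) c :=
          ⟨hs.pR.to_le hle, hs.oc, mem_normalizer_comm hs.nR, hle.trans hs.fR, hs.fc⟩
        have h1 := ihk _ hcard (comm R c) rfl hs' (r * c * r⁻¹ * c⁻¹) (mem_comm_of_mem hr)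
        have hcomm : (r * c * r⁻¹ * c⁻¹) * c = c * (r * c * r⁻¹ * c⁻¹) := by
          calc (r * c * r⁻¹ * c⁻¹) * c
              = ((r * c * r⁻¹ * c⁻¹) * c * (r * c * r⁻¹ * c⁻¹)⁻¹ * c⁻¹) *
                (c * (r * c * r⁻¹ * c⁻¹)) := by group
            _ = c * (r * c * r⁻¹ * c⁻¹) := by rw [h1, one_mul]
        exact comm_eq_one_of_commute
          (isPGroup_two_orderOf hs.pR (hle (mem_comm_of_mem hr))) hs.oc hcomm
  intro ρ hρ g
  have : comm R c = ⊥ := comm_eq_bot_of_forall (key _ R rfl hs)
  rw [this, Subgroup.mem_bot] at hρ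
  rw [hρ]
  simp

/-- **Glauberman's theorem** (general form): if the `2`-group `R` of automorphisms and the odd order
automorphism `c` normalizing `R` both fix the Sylow `2`-subgroup `S` pointwise, then `[R, c]` acts
trivially on `G / O(G)`. -/
theorem gt_all (hZ : ZStarHyp.{u}) :
    ∀ (n : ℕ) (G : Type u) [Group G] [Finite G], Nat.card G = n → GTFor G := by
  intro n
  induction n using Nat.strong_induction_on with
  | _ n ih =>
    intro G _ _ hn
    have IH : IHyp G := fun X _ _ hX => ih (Nat.card X) (hn ▸ hX) X rfl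
    by_cases hO : oddCore G = ⊥
    · exact gt_faithful hZ IH hO
    · exact concl_of_oddCore_ne_bot IH hO

theorem gtFor (hZ : ZStarHyp.{u}) (G : Type u) [Group G] [Finite G] : GTFor G :=
  gt_all hZ _ G rfl

/-- `O(G) = 1` if `G` has no nontrivial normal subgroup of odd order. -/
theorem oddCore_eq_bot_of_forall {G : Type*} [Group G] [Finite G]
    (h : ∀ N : Subgroup G, N.Normal → Odd (Nat.card N) → N = ⊥) : oddCore G = ⊥ :=
  h _ (Cfsg.Agent.Lib.Helper1.pPrimeCore_normal 2) odd_card_oddCore

/-- **Glauberman**: with `O(G) = 1`, an odd order automorphism `c` fixing `S` pointwise and normalizing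
a `2`-group `R` of automorphisms fixing `S` pointwise centralizes `R`. -/
theorem glauberman_commute (hZ : ZStarHyp.{u}) {G : Type u} [Group G] [Finite G]
    (hO : oddCore G = ⊥) {S : Sylow 2 G} {R : Subgroup (MulAut G)} {c : MulAut G}
    (hs : Setup G S R c) : ∀ r ∈ R, r * c = c * r := by
  intro r hr
  have h1 := gtFor hZ G S R c hs (r * c * r⁻¹ * c⁻¹) (mem_comm_of_mem hr)
  have h2 : r * c * r⁻¹ * c⁻¹ = 1 := by
    ext g
    have := h1 g
    rw [hO, Subgroup.mem_bot, inv_mul_eq_one] at this
    simpa using this.symm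
  calc r * c = (r * c * r⁻¹ * c⁻¹) * (c * r) := by group
    _ = c * r := by rw [h2, one_mul]

/-- **Glauberman's theorem**: if `O(G) = 1` and `S ∈ Syl₂(G)`, then `C_{Aut G}(S)` has a normal
`2`-complement. -/
theorem glauberman_normal_complement (hZ : ZStarHyp.{u}) {G : Type u} [Group G] [Finite G]
    (hO : oddCore G = ⊥) (S : Sylow 2 G) (P : Sylow 2 ↥(fixer (S : Subgroup G))) :
    ∃ N : Subgroup ↥(fixer (S : Subgroup G)), N.Normal ∧ N.IsComplement' (P : Subgroup _) := by
  haveI : Fact (Nat.Prime 2) := ⟨Nat.prime_two⟩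
  rw [Cfsg.Agent.S0071.result P]
  intro Q hQ g hg hcop
  have hs : Setup G S (Q.map (fixer (S : Subgroup G)).subtype) (g : MulAut G) := by
    refine ⟨(P.isPGroup'.to_le hQ).map _, ?_, ?_, Subgroup.map_subtype_le _, g.2⟩
    · rw [Subgroup.orderOf_coe, odd_iff_coprime_two]; exact hcop
    · rw [Subgroup.mem_normalizer_iff]
      intro h
      constructor
      · rintro ⟨q, hq, rfl⟩
        exact ⟨g * q * g⁻¹, (Subgroup.mem_normalizer_iff.mp hg q).mp hq, rfl⟩
      · rintro ⟨q, hq, hqq⟩
        refine ⟨g⁻¹ * q * g, ?_, ?_⟩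
        · have := (Subgroup.mem_normalizer_iff.mp (inv_mem hg) q).mp hq
          simpa using this
        · simp only [Subgroup.coe_subtype, Subgroup.coe_mul, Subgroup.coe_inv] at hqq ⊢
          rw [hqq]; group
  have h1 := glauberman_commute hZ hO hs
  rw [Subgroup.mem_centralizer_iff]
  intro q hq
  have := h1 q ⟨q, hq, rfl⟩
  exact Subtype.ext this

end Cfsg.Agent.Lib.Helper22.GT
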