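import Mathlib
import Cfsg.Prelude.Def_CaseTheorems
import Cfsg.Agent.Lib.Helper22.GTMain
import Cfsg.Agent.S0215

set_option autoImplicit false

/-!
# Glauberman's theorem on `C_{Aut G}(S)`, hypothesis-free versions

`Cfsg.Agent.Lib.Helper22.GT.ZStarHyp` is discharged by the landed S0215 (Glauberman's Z*-theorem).
-/

namespace Cfsg.Agent.Lib.Helper22.GT

open Cfsg

universe u

/-- the Z*-theorem in the form used in `GTMain`. -/
theorem zStarHyp : ZStarHyp.{u} :=
  fun _ _ _ P u hu huP hiso => Cfsg.Agent.S0215.result P u hu huP hiso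

/-- **Glauberman** (general form): `[R, c]` acts trivially on `G / O(G)` when the `2`-group `R ≤ Aut G`
and the odd order automorphism `c` normalizing `R` fix a Sylow `2`-subgroup `S` pointwise. -/
theorem gtFor' (G : Type u) [Group G] [Finite G] : GTFor G := gtFor zStarHyp G

/-- **Glauberman**: with `O(G) = 1`, an odd order automorphism `c` fixing `S` pointwise and normalizing
a `2`-group `R` of automorphisms fixing `S` pointwise centralizes `R`. -/
theorem glauberman_commute' {G : Type u} [Group G] [Finite G]
    (hO : oddCore G = ⊥) {S : Sylow 2 G} {R : Subgroup (MulAut G)} {c : MulAut G}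
    (hs : Setup G S R c) : ∀ r ∈ R, r * c = c * r :=
  glauberman_commute zStarHyp hO hs

/-- **Glauberman's theorem**: if `O(G) = 1` and `S ∈ Syl₂(G)`, then `C_{Aut G}(S)` has a normal
`2`-complement. -/
theorem glauberman_normal_complement' {G : Type u} [Group G] [Finite G]
    (hO : oddCore G = ⊥) (S : Sylow 2 G) (P : Sylow 2 ↥(fixer (S : Subgroup G))) :
    ∃ N : Subgroup ↥(fixer (S : Subgroup G)), N.Normal ∧ N.IsComplement' (P : Subgroup _) :=
  glauberman_normal_complement zStarHyp hO S P

end Cfsg.Agent.Lib.Helper22.GT
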