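/-
helper22, project GOLD (S1329, Goldschmidt's generation lemma): MAIN induction and the reduction of
S1329.  Modules: [DAGGER]/[QUOT] helper77, [TRICK]/[MINN]/[TRANSFER] helper2, [GEN] helper87,
[NORM]/[SYL]/[ABFIX] helper93, [CLASS2] helper14.
All declarations live in `Cfsg.Agent.Lib.Helper22.Gold`.
-/
import Mathlib
import Cfsg.Agent.Lib.Helper22.GoldDefs
import Cfsg.Agent.Lib.Helper22.GoldPar
import Cfsg.Agent.Lib.Helper2.GoldMinn
import Cfsg.Agent.Lib.Helper2.GoldTransfer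
import Cfsg.Agent.Lib.Helper2.GoldTrick
import Cfsg.Agent.Lib.Helper87.GoldGen
import Cfsg.Agent.Lib.Helper77.GoldDagger
import Cfsg.Agent.Lib.Helper93.GoldNorm
import Cfsg.Agent.Lib.Helper93.GoldSyl
import Cfsg.Agent.Lib.Helper93.GoldAbFix
import Cfsg.Agent.Lib.Helper77.GoldQuot
import Cfsg.Agent.Lib.Helper14.GoldClass2Core

set_option autoImplicit false
set_option linter.style.haveILetI false

namespace Cfsg.Agent.Lib.Helper22.Gold

open Subgroup
open scoped commutatorElement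

universe u
variable {G : Type u} [Group G]


open Cfsg.Agent.Lib.Helper2.Gold (exists_min_normal mem_comm_of_center trick_core)
open Cfsg.Agent.Lib.Helper87.Gold (gen_comm)
open Cfsg.Agent.Lib.Helper77.Gold (dagger quot_step)
open Cfsg.Agent.Lib.Helper93.Gold (exists_inv_sylow exists_norm fix_le_comm)
open Cfsg.Agent.Lib.Helper14.Gold (class_two_of derived_comm_of_central norm_derived)

/-- Module [TRICK] assembled from `trick_core`, `exists_norm` and `gen_comm`. -/
theorem trick [Finite G] {A Y N0 : Subgroup G} (h : Hyp A Y) (hYA : ⁅Y, A⁆ = Y) (hN : N0 ≤ Y)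
    (hab : ∀ x ∈ N0, ∀ y ∈ N0, x * y = y * x) (hYN : Y ≤ normalizer (N0 : Set G))
    (hAN : A ≤ normalizer (N0 : Set G)) :
    ⁅N0, Y⁆ ⊓ centralizer (A : Set G) ≤ RR Y A :=
  trick_core h hYA hN hab hYN hAN (exists_norm hab hAN) (gen_comm h)

/-- Module [CLASS2] assembled from `class_two_of`, `exists_norm`, `fix_le_comm`, `gen_comm`. -/
theorem class_two [Finite G] {A Y : Subgroup G} (h : Hyp A Y) (hYA : ⁅Y, A⁆ = Y)
    (hc : ⁅Y, Y⁆ ≤ centralizer (Y : Set G)) : Y ⊓ centralizer (A : Set G) ≤ RR Y A :=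
  class_two_of h hYA hc (exists_norm (derived_comm_of_central hc) (norm_derived h))
    (fix_le_comm h hYA) (gen_comm h)

/-! ## MAIN -/

theorem exists_mul_of_mem_sup' {H N : Subgroup G} (hLE : H ≤ normalizer (N : Set G))
    {x : G} (hx : x ∈ H ⊔ N) : ∃ h ∈ H, ∃ n ∈ N, x = h * n := by
  have : x ∈ ((H ⊔ N : Subgroup G) : Set G) := hx
  rw [Subgroup.coe_mul_of_left_le_normalizer_right H N hLE] at this
  obtain ⟨h, hh, n, hn, rfl⟩ := this
  exact ⟨h, hh, n, hn, rfl⟩

theorem commute_of_comm_eq_bot {N Y : Subgroup G} (h : ⁅N, Y⁆ = ⊥) {n y : G} (hn : n ∈ N)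
    (hy : y ∈ Y) : n * y = y * n := by
  have h1 : ⁅n, y⁆ ∈ ⁅N, Y⁆ := commutator_mem_commutator hn hy
  rw [h, mem_bot, commutatorElement_eq_one_iff_mul_comm] at h1
  exact h1

theorem le_normalizer_of_le_centralizer {M A : Subgroup G} (hM : M ≤ centralizer (A : Set G)) :
    A ≤ normalizer (M : Set G) := by
  intro a ha
  rw [mem_normalizer_iff]
  intro x
  have key : ∀ x ∈ M, a * x * a⁻¹ = x := by
    intro x hx
    have := mem_centralizer_iff.mp (hM hx) a ha
    calc a * x * a⁻¹ = x * a * a⁻¹ := by rw [this]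
      _ = x := by group
  constructor
  · intro hx; rw [key x hx]; exact hx
  · intro hx
    have h1 := key _ hx
    have e : x = a * x * a⁻¹ := by
      calc x = a⁻¹ * (a * x * a⁻¹) * a := by group
        _ = a⁻¹ * (a * (a * x * a⁻¹) * a⁻¹) * a := by rw [h1]
        _ = a * x * a⁻¹ := by group
    rw [e]; exact hx

theorem comm_mul_left_of_commute {z x y : G} (hzx : Commute z x) (hzy : Commute z y) :
    ⁅z * x, y⁆ = ⁅x, y⁆ := by
  have hc : Commute z ⁅x, y⁆ := by
    rw [commutatorElement_def]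
    exact ((hzx.mul_right hzy).mul_right hzx.inv_right).mul_right hzy.inv_right
  have h2 : z⁻¹ * y⁻¹ = y⁻¹ * z⁻¹ := (hzy.inv_left.inv_right).eq
  calc ⁅z * x, y⁆ = z * x * y * x⁻¹ * (z⁻¹ * y⁻¹) := by
        rw [commutatorElement_def]; group
    _ = z * x * y * x⁻¹ * (y⁻¹ * z⁻¹) := by rw [h2]
    _ = z * ⁅x, y⁆ * z⁻¹ := by rw [commutatorElement_def]; group
    _ = ⁅x, y⁆ * z * z⁻¹ := by rw [hc.eq]
    _ = ⁅x, y⁆ := by group

theorem comm_mul_right_of_commute {z x y : G} (hzx : Commute z x) (hzy : Commute z y) :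
    ⁅x, z * y⁆ = ⁅x, y⁆ := by
  have h1 : ⁅x, z * y⁆ = (⁅z * y, x⁆)⁻¹ := by
    simp only [commutatorElement_def]; group
  have h2 : ⁅x, y⁆ = (⁅y, x⁆)⁻¹ := by
    simp only [commutatorElement_def]; group
  rw [h1, h2, comm_mul_left_of_commute hzy hzx]

theorem comm_central_aux {n1 n2 t1 t2 : G} (c11 : n1 * t1 = t1 * n1) (c12 : n1 * t2 = t2 * n1)
    (c21 : n2 * t1 = t1 * n2) (c22 : n2 * t2 = t2 * n2) (c1n : n1 * n2 = n2 * n1) :
    ⁅n1 * t1, n2 * t2⁆ = ⁅t1, t2⁆ := by
  have hc1 : Commute n1 t1 := c11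
  have hc2 : Commute n1 t2 := c12
  have hc3 : Commute n2 t1 := c21
  have hc4 : Commute n2 t2 := c22
  have hc5 : Commute n1 n2 := c1n
  rw [comm_mul_left_of_commute hc1 (hc5.mul_right hc2), comm_mul_right_of_commute hc3 hc4]

theorem gold_aux : ∀ (n : ℕ) (G : Type u) [Group G] [Finite G] (A Y : Subgroup G),
    Nat.card Y = n → Hyp A Y → Group.IsSolvable Y → ⁅Y, A⁆ = Y →
    Y ⊓ centralizer (A : Set G) ≤ RR Y A := by
  intro n
  induction n using Nat.strong_induction_on with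
  | _ n ih =>
  intro G _ _ A Y hn h hs hYA
  have IH : ∀ (Q : Type u) [Group Q] [Finite Q] (A' Y' : Subgroup Q), Nat.card Y' < Nat.card Y →
      Hyp A' Y' → Group.IsSolvable Y' → ⁅Y', A'⁆ = Y' →
      Y' ⊓ centralizer (A' : Set Q) ≤ RR Y' A' := by
    intro Q _ _ A' Y' hlt h' hs' hYA'
    exact ih (Nat.card Y') (hn ▸ hlt) Q A' Y' rfl h' hs' hYA'
  by_cases hY : Y = ⊥
  · intro c hc
    have : c ∈ Y := hc.1
    rw [hY, mem_bot] at this
    rw [this]; exact one_mem _
  by_cases hI : ∃ N0 : Subgroup G, N0 ≤ Y ∧ (∀ x ∈ N0, ∀ y ∈ N0, x * y = y * x) ∧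
      Y ≤ normalizer (N0 : Set G) ∧ A ≤ normalizer (N0 : Set G) ∧ ⁅N0, Y⁆ ≠ ⊥
  · -- Case (I)
    obtain ⟨N0, hN0, hab, hYN0, hAN0, hne⟩ := hI
    have hN1le : ⁅N0, Y⁆ ≤ N0 := by
      rw [commutator_le]
      intro x hx y hy
      have := (mem_normalizer_iff.mp (hYN0 (inv_mem hy)) x).mp hx
      rw [commutatorElement_def]
      have e : x * y * x⁻¹ * y⁻¹ = x * (y * x⁻¹ * y⁻¹) := by group
      rw [e]
      refine mul_mem hx ?_
      have := (mem_normalizer_iff.mp (hYN0 hy) x⁻¹).mp (inv_mem hx)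
      exact this
    have hYN1 : Y ≤ normalizer ((⁅N0, Y⁆ : Subgroup G) : Set G) := by
      intro y hy
      have h1 : y ∈ normalizer (N0 : Set G) := hYN0 hy
      have h2 : y ∈ normalizer (Y : Set G) := le_normalizer hy
      exact mem_normalizer_commutator h1 h2
    have hAN1 : A ≤ normalizer ((⁅N0, Y⁆ : Subgroup G) : Set G) := by
      intro a ha
      exact mem_normalizer_commutator (hAN0 ha) (h.norm ha)
    intro c hc
    obtain ⟨ρ, hρ, m, hm, rfl⟩ := quot_step h hs hYA (hN1le.trans hN0) hne hYN1 hAN1 IH c hc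
    have hmA : m ∈ centralizer (A : Set G) := by
      have h1 : ρ⁻¹ * (ρ * m) ∈ centralizer (A : Set G) :=
        mul_mem (inv_mem (RR_le_centralizer Y A hρ)) hc.2
      simpa using h1
    exact mul_mem hρ (trick h hYA hN0 hab hYN0 hAN0 ⟨hm, hmA⟩)
  -- Case (II)
  push Not at hI
  obtain ⟨N, hNY, hN1, hYN, hAN, hNab, hmin⟩ := exists_min_normal h hs hY
  have hNc : ⁅N, Y⁆ = ⊥ := hI N hNY hNab hYN hAN
  -- every subgroup of N is normalized by Y
  have hYsub : ∀ M : Subgroup G, M ≤ N → Y ≤ normalizer (M : Set G) := by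
    intro M hM y hy
    rw [mem_normalizer_iff]
    intro x
    constructor
    · intro hx
      have e : y * x * y⁻¹ = x := by
        have := commute_of_comm_eq_bot hNc (hM hx) hy
        calc y * x * y⁻¹ = (x * y) * y⁻¹ := by rw [this]
          _ = x := by group
      rw [e]; exact hx
    · intro hx
      have hx' : y * x * y⁻¹ ∈ N := hM hx
      have h3 := commute_of_comm_eq_bot hNc hx' hy
      have e : x = y * x * y⁻¹ := by
        calc x = y⁻¹ * ((y * x * y⁻¹) * y) := by group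
          _ = y⁻¹ * (y * (y * x * y⁻¹)) := by rw [h3]
          _ = y * x * y⁻¹ := by group
      rw [e]; exact hx
  intro c hc
  obtain ⟨ρ, hρ, z, hzN, rfl⟩ := quot_step h hs hYA hNY hN1 hYN hAN IH c hc
  have hzA : z ∈ centralizer (A : Set G) := by
    have h1 : ρ⁻¹ * (ρ * z) ∈ centralizer (A : Set G) :=
      mul_mem (inv_mem (RR_le_centralizer Y A hρ)) hc.2
    simpa using h1
  suffices hz : z ∈ RR Y A from mul_mem hρ hz
  by_contra hz
  have hz1 : z ≠ 1 := by
    rintro rfl; exact hz (one_mem _)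
  -- C_N(A) = N
  have hCN : N ⊓ centralizer (A : Set G) = N := by
    apply hmin _ inf_le_left
    · intro hbot
      have : z ∈ N ⊓ centralizer (A : Set G) := ⟨hzN, hzA⟩
      rw [hbot, mem_bot] at this
      exact hz1 this
    · exact hYsub _ inf_le_left
    · exact le_normalizer_of_le_centralizer inf_le_right
  have hNA : N ≤ centralizer (A : Set G) := by
    rw [← hCN]; exact inf_le_right
  -- every subgroup of N is normalized by A
  have hAsub : ∀ M : Subgroup G, M ≤ N → A ≤ normalizer (M : Set G) := by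
    intro M hM
    exact le_normalizer_of_le_centralizer (hM.trans hNA)
  -- N has prime order
  have hNnt : Nontrivial N := by
    rw [Subgroup.nontrivial_iff_ne_bot]; exact hN1
  obtain ⟨r, hr, hrdvd⟩ := Nat.exists_prime_and_dvd (n := Nat.card N)
    (by
      have := Finite.one_lt_card (α := N)
      omega)
  haveI : Fact r.Prime := ⟨hr⟩
  obtain ⟨⟨m, hmN⟩, hm⟩ := exists_prime_orderOf_dvd_card' r hrdvd
  have hmo : orderOf m = r := by
    rw [← hm]; exact (Subgroup.orderOf_mk m hmN).symm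
  have hNm : zpowers m = N := by
    apply hmin _ (by rw [zpowers_le]; exact hmN)
    · intro hbot
      have : m = 1 := by
        have : m ∈ zpowers m := mem_zpowers m
        rw [hbot, mem_bot] at this; exact this
      rw [this, orderOf_one] at hmo
      exact hr.one_lt.ne hmo
    · exact hYsub _ (by rw [zpowers_le]; exact hmN)
    · exact hAsub _ (by rw [zpowers_le]; exact hmN)
  have hNr : IsPGroup r N := by
    rw [← hNm]
    apply IsPGroup.of_card (n := 1)
    rw [Nat.card_zpowers, hmo, pow_one]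
  have hzY' : z ∈ ⁅Y, Y⁆ := fix_le_comm h hYA ⟨hNY hzN, hzA⟩
  have hzcY : z ∈ centralizer (Y : Set G) := by
    rw [mem_centralizer_iff]
    intro y hy
    exact (commute_of_comm_eq_bot hNc hzN hy).symm
  obtain ⟨S, hSY, hAS, hSr, hSind, hSmax⟩ := exists_inv_sylow h r
  have hNS : N ≤ S := hSmax N hNY hNr hYN
  by_cases hSeq : S = Y
  · -- Y is an r-group
    have hYr : IsPGroup r Y := hSeq ▸ hSr
    have hcl : ⁅Y, Y⁆ ≤ centralizer (Y : Set G) := dagger h hYr hI
    exact hz (class_two h hYA hcl ⟨hNY hzN, hzA⟩)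
  · -- S < Y
    have hSlt : Nat.card S < Nat.card Y :=
      lt_of_le_of_ne (Subgroup.card_le_of_le hSY)
        (fun e => hSeq (Subgroup.eq_of_le_of_card_ge hSY e.ge))
    have hzS' : z ∈ ⁅S, S⁆ := mem_comm_of_center hSY hSr hSind (hNS hzN) hzcY hzY'
    have hS : Hyp A S := h.of_le hSY hAS
    set S1 := ⁅S, A⁆ with hS1def
    have hS1S : S1 ≤ S := comm_le hAS
    have hS1n := comm_normalized (A := A) (Y := S) hAS
    have hS1 : Hyp A S1 := hS.of_le hS1S hS1n.2
    have hS1A : ⁅S1, A⁆ = S1 := comm_comm hS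
    have hS1sol : Group.IsSolvable S1 :=
      Group.isSolvable_of_isSolvable_injective (Subgroup.inclusion_injective (hS1S.trans hSY))
    have hS1lt : Nat.card S1 < Nat.card Y :=
      lt_of_le_of_lt (Subgroup.card_le_of_le hS1S) hSlt
    have hS1fix : S1 ⊓ centralizer (A : Set G) ≤ RR Y A :=
      (IH G A S1 hS1lt hS1 hS1sol hS1A).trans (RR_mono (hS1S.trans hSY))
    set T0 := S ⊓ centralizer (A : Set G) ⊓ RR Y A with hT0
    have hT0S : T0 ≤ S := inf_le_left.trans inf_le_left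
    -- every element of S is n' * t with n' ∈ N, t ∈ T0 ⊔ S1
    have hdecS : ∀ s ∈ S, ∃ n' ∈ N, ∃ t ∈ T0 ⊔ S1, s = n' * t := by
      intro s hsS
      obtain ⟨c, hc, d, hd, rfl⟩ := dec hS s hsS
      obtain ⟨ρ', hρ', n', hn', hcn⟩ := quot_step h hs hYA hNY hN1 hYN hAN IH c ⟨hSY hc.1, hc.2⟩
      have hρ'T : ρ' ∈ T0 := by
        have e : ρ' = c * n'⁻¹ := by rw [hcn]; group
        refine ⟨⟨?_, RR_le_centralizer Y A hρ'⟩, hρ'⟩
        rw [e]; exact S.mul_mem hc.1 (S.inv_mem (hNS hn'))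
      refine ⟨n', hn', ρ' * d, mul_mem (le_sup_left (a := T0) hρ'T) (le_sup_right (b := S1) hd), ?_⟩
      have hcomm : ρ' * n' = n' * ρ' :=
        (commute_of_comm_eq_bot hNc hn' (hSY (hT0S hρ'T))).symm
      rw [hcn, hcomm]; group
    have hS2 : ⁅S, S⁆ ≤ T0 ⊔ S1 := by
      rw [commutator_le]
      intro s hsS s' hsS'
      obtain ⟨n1, hn1, t1, ht1, rfl⟩ := hdecS s hsS
      obtain ⟨n2, hn2, t2, ht2, rfl⟩ := hdecS s' hsS'
      have hT0S1 : T0 ⊔ S1 ≤ Y := (sup_le hT0S hS1S).trans hSY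
      have e : ⁅n1 * t1, n2 * t2⁆ = ⁅t1, t2⁆ := by
        have c11 := commute_of_comm_eq_bot hNc hn1 (hT0S1 ht1)
        have c12 := commute_of_comm_eq_bot hNc hn1 (hT0S1 ht2)
        have c21 := commute_of_comm_eq_bot hNc hn2 (hT0S1 ht1)
        have c22 := commute_of_comm_eq_bot hNc hn2 (hT0S1 ht2)
        have c1n := commute_of_comm_eq_bot hNc hn1 (hNY hn2)
        exact comm_central_aux c11 c12 c21 c22 c1n
      rw [e]
      rw [commutatorElement_def]
      exact mul_mem (mul_mem (mul_mem ht1 ht2) (inv_mem ht1)) (inv_mem ht2)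
    have hzS2 : z ∈ T0 ⊔ S1 := hS2 hzS'
    obtain ⟨t, ht, s1, hs1, hzts⟩ := exists_mul_of_mem_sup' (hT0S.trans hS1n.1) hzS2
    have hs1A : s1 ∈ centralizer (A : Set G) := by
      have e : s1 = t⁻¹ * z := by rw [hzts]; group
      rw [e]; exact mul_mem (inv_mem ht.1.2) hzA
    exact hz (hzts ▸ mul_mem ht.2 (hS1fix ⟨hs1, hs1A⟩))

theorem gold_main [Finite G] {A Y : Subgroup G} (h : Hyp A Y) (hs : Group.IsSolvable Y)
    (hYA : ⁅Y, A⁆ = Y) : Y ⊓ centralizer (A : Set G) ≤ RR Y A :=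
  gold_aux (Nat.card Y) G A Y rfl h hs hYA

/-! ## reduction of S1329 -/

theorem le_normalizer_inf_centralizer {A Y B : Subgroup G} (hn : A ≤ normalizer (Y : Set G))
    (hc : ∀ a ∈ A, ∀ b ∈ B, a * b = b * a) :
    A ≤ normalizer ((Y ⊓ centralizer (B : Set G) : Subgroup G) : Set G) := by
  have key : ∀ a ∈ A, ∀ x ∈ Y ⊓ centralizer (B : Set G), a * x * a⁻¹ ∈ Y ⊓ centralizer (B : Set G) := by
    intro a ha x hx
    refine ⟨conj_mem_of_mem_normalizer (hn ha) hx.1, ?_⟩
    show a * x * a⁻¹ ∈ centralizer (B : Set G)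
    rw [mem_centralizer_iff]
    intro b hb
    have h1 : b * x = x * b := mem_centralizer_iff.mp hx.2 b hb
    have h2 : a * b = b * a := hc a ha b hb
    have h3 : a⁻¹ * b = b * a⁻¹ := by
      calc a⁻¹ * b = a⁻¹ * (b * a) * a⁻¹ := by group
        _ = a⁻¹ * (a * b) * a⁻¹ := by rw [h2]
        _ = b * a⁻¹ := by group
    calc b * (a * x * a⁻¹) = (b * a) * x * a⁻¹ := by group
      _ = (a * b) * x * a⁻¹ := by rw [h2]
      _ = a * (b * x) * a⁻¹ := by group
      _ = a * (x * b) * a⁻¹ := by rw [h1]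
      _ = a * x * (b * a⁻¹) := by group
      _ = a * x * (a⁻¹ * b) := by rw [h3]
      _ = a * x * a⁻¹ * b := by group
  intro a ha
  rw [mem_normalizer_iff]
  intro x
  constructor
  · exact key a ha x
  · intro hx
    have := key a⁻¹ (inv_mem ha) _ hx
    have e : a⁻¹ * (a * x * a⁻¹) * a⁻¹⁻¹ = x := by group
    rwa [e] at this

/-- `B / (K ∩ B)` is cyclic when `A = K⟨a⟩` is abelian and `B ≤ A`. -/
theorem isCyclic_quot_of_cycQuot {A B K : Subgroup G} (hcomm : ∀ a ∈ A, ∀ b ∈ A, a * b = b * a)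
    (hB : B ≤ A) (hK : CycQuot A K) [((K ⊓ B).subgroupOf B).Normal] :
    IsCyclic (↥B ⧸ (K ⊓ B).subgroupOf B) := by
  obtain ⟨hKA, a, haA, hAa⟩ := hK
  have hzA : zpowers a ≤ A := by rw [zpowers_le]; exact haA
  have hKB : K ≤ normalizer (B : Set G) := by
    apply le_normalizer_of_le_centralizer
    intro b hb
    rw [mem_centralizer_iff]
    intro k hk
    exact hcomm k (hKA hk) b (hB hb)
  have hKz : K ≤ normalizer ((zpowers a : Subgroup G) : Set G) := by
    apply le_normalizer_of_le_centralizer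
    intro x hx
    rw [mem_centralizer_iff]
    intro k hk
    exact hcomm k (hKA hk) x (hzA hx)
  set C : Subgroup G := zpowers a ⊓ (K ⊔ B) with hC
  have hCz : C ≤ zpowers a := inf_le_left
  have hcyc : IsCyclic C := by
    have e : (C.subgroupOf (zpowers a)) ≃* C := Subgroup.subgroupOfEquivOfLe hCz
    exact (MulEquiv.isCyclic e).mp inferInstance
  obtain ⟨x0, hx0⟩ := (Subgroup.isCyclic_iff_exists_zpowers_eq_top C).mp hcyc
  have hx0C : x0 ∈ C := by rw [← hx0]; exact mem_zpowers x0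
  obtain ⟨k0, hk0, b0, hb0, hx0eq⟩ := exists_mul_of_mem_sup' hKB hx0C.2
  refine ⟨⟨QuotientGroup.mk ⟨b0, hb0⟩, ?_⟩⟩
  intro q
  induction q using QuotientGroup.induction_on with
  | H bb =>
  obtain ⟨b, hb⟩ := bb
  obtain ⟨k', hk', x, hx, hbx⟩ := exists_mul_of_mem_sup' hKz (hAa (hB hb))
  have hxC : x ∈ C := by
    refine ⟨hx, ?_⟩
    have e : x = k'⁻¹ * b := by rw [hbx]; group
    rw [e]
    exact mul_mem (le_sup_left (a := K) (inv_mem hk')) (le_sup_right (b := B) hb)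
  rw [← hx0] at hxC
  obtain ⟨i, hi⟩ := hxC
  refine ⟨i, ?_⟩
  show (QuotientGroup.mk (⟨b0, hb0⟩ : ↥B) : ↥B ⧸ (K ⊓ B).subgroupOf B) ^ i = QuotientGroup.mk ⟨b, hb⟩
  rw [← QuotientGroup.mk_zpow, QuotientGroup.eq, mem_subgroupOf]
  have hval : ((((⟨b0, hb0⟩ : ↥B) ^ i)⁻¹ * (⟨b, hb⟩ : ↥B) : ↥B) : G) = (b0 ^ i)⁻¹ * b := by
    simp
  rw [hval]
  -- b = k' * x0^i, x0 = k0 * b0
  have hcb : Commute k0 b0 := hcomm k0 (hKA hk0) b0 (hB hb0)
  have hx0i : x0 ^ i = k0 ^ i * b0 ^ i := by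
    rw [hx0eq]; exact hcb.mul_zpow i
  have hi' : x0 ^ i = x := hi
  have hb0k : Commute (b0 ^ i)⁻¹ (k' * k0 ^ i) := by
    have h1 : Commute b0 k' := hcomm b0 (hB hb0) k' (hKA hk')
    have h2 : Commute b0 k0 := hcb.symm
    exact ((h1.mul_right (h2.zpow_right i)).zpow_left i).inv_left
  have e : (b0 ^ i)⁻¹ * b = k' * k0 ^ i := by
    rw [hbx, ← hi', hx0i]
    calc (b0 ^ i)⁻¹ * (k' * (k0 ^ i * b0 ^ i)) = ((b0 ^ i)⁻¹ * (k' * k0 ^ i)) * b0 ^ i := by group
      _ = ((k' * k0 ^ i) * (b0 ^ i)⁻¹) * b0 ^ i := by rw [hb0k.eq]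
      _ = k' * k0 ^ i := by group
  refine Subgroup.mem_inf.mpr ⟨?_, ?_⟩
  · rw [e]; exact K.mul_mem hk' (K.zpow_mem hk0 i)
  · exact B.mul_mem (B.inv_mem (B.zpow_mem hb0 i)) hb

theorem gold_S1329 [Finite G] (A B Y : Subgroup G) (hA2 : IsPGroup 2 ↥A)
    (hAc : ∀ a ∈ A, ∀ b ∈ A, a * b = b * a) (hB : B ≤ A) (hYodd : Odd (Nat.card ↥Y))
    (hs : Group.IsSolvable Y)
    (hAY : A ≤ Subgroup.normalizer (Y : Set G)) (hYA : ⁅Y, A⁆ = Y) :
    Y ⊓ Subgroup.centralizer (B : Set G) = ⨆ B₀ : {B₀ : Subgroup G // B₀ ≤ B ∧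
      ∀ [(B₀.subgroupOf B).Normal], IsCyclic (↥B ⧸ B₀.subgroupOf B)},
      Y ⊓ Subgroup.centralizer (B : Set G) ⊓
        ⁅Y ⊓ Subgroup.centralizer ((B₀ : Subgroup G) : Set G), A⁆ := by
  have h : Hyp A Y := ⟨hA2, hAc, hYodd, hAY⟩
  have hmain := gold_main h hs hYA
  apply le_antisymm
  · -- the hard inclusion
    set T := ⨆ B₀ : {B₀ : Subgroup G // B₀ ≤ B ∧
      ∀ [(B₀.subgroupOf B).Normal], IsCyclic (↥B ⧸ B₀.subgroupOf B)},
      Y ⊓ Subgroup.centralizer (B : Set G) ⊓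
        ⁅Y ⊓ Subgroup.centralizer ((B₀ : Subgroup G) : Set G), A⁆ with hT
    have hterm : ∀ (B₀ : Subgroup G) (h1 : B₀ ≤ B)
        (h2 : ∀ [(B₀.subgroupOf B).Normal], IsCyclic (↥B ⧸ B₀.subgroupOf B)),
        Y ⊓ centralizer (B : Set G) ⊓ ⁅Y ⊓ centralizer (B₀ : Set G), A⁆ ≤ T := by
      intro B₀ h1 h2
      exact le_iSup (fun B₀ : {B₀ : Subgroup G // B₀ ≤ B ∧
        ∀ [(B₀.subgroupOf B).Normal], IsCyclic (↥B ⧸ B₀.subgroupOf B)} =>
        Y ⊓ Subgroup.centralizer (B : Set G) ⊓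
          ⁅Y ⊓ Subgroup.centralizer ((B₀ : Subgroup G) : Set G), A⁆) ⟨B₀, h1, h2⟩
    have hAB : ∀ a ∈ A, ∀ b ∈ B, a * b = b * a := fun a ha b hb => hAc a ha b (hB hb)
    have hnB : A ≤ normalizer ((Y ⊓ centralizer (B : Set G) : Subgroup G) : Set G) :=
      le_normalizer_inf_centralizer hAY hAB
    -- step a
    have ha : ⁅Y ⊓ centralizer (B : Set G), A⁆ ≤ T := by
      refine le_trans ?_ (hterm B le_rfl ?_)
      · exact le_inf (comm_le hnB) le_rfl
      · intro inst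
        have : Subsingleton (↥B ⧸ B.subgroupOf B) := by
          constructor
          intro x y
          induction x using QuotientGroup.induction_on with
          | H x =>
          induction y using QuotientGroup.induction_on with
          | H y =>
          rw [QuotientGroup.eq]
          rw [mem_subgroupOf]
          exact (x⁻¹ * y).2
        exact isCyclic_of_subsingleton
    -- step c
    have hc : RR Y A ≤ T := by
      apply iSup_le
      rintro ⟨K, hK⟩
      have hAK : ∀ a ∈ A, ∀ b ∈ K, a * b = b * a := fun a ha b hb => hAc a ha b (hK.1 hb)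
      have hnK : A ≤ normalizer ((Y ⊓ centralizer (K : Set G) : Subgroup G) : Set G) :=
        le_normalizer_inf_centralizer hAY hAK
      refine le_trans ?_ (hterm (K ⊓ B) inf_le_right ?_)
      · show piece Y A K ≤ _
        unfold piece
        refine le_inf (le_inf ?_ ?_) ?_
        · exact inf_le_left.trans ((comm_le hnK).trans inf_le_left)
        · exact inf_le_right.trans (centralizer_le hB)
        · refine inf_le_left.trans (commutator_mono (inf_le_inf_left _ ?_) le_rfl)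
          exact centralizer_le inf_le_left
      · intro inst
        exact isCyclic_quot_of_cycQuot hAc hB hK
    intro y hy
    have hHyp : Hyp A (Y ⊓ centralizer (B : Set G)) := h.of_le inf_le_left hnB
    obtain ⟨c, hc', d, hd, rfl⟩ := dec hHyp y hy
    exact mul_mem (hc (hmain ⟨hc'.1.1, hc'.2⟩)) (ha hd)
  · exact iSup_le fun _ => inf_le_left

end Cfsg.Agent.Lib.Helper22.Gold
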