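import Cfsg.Agent.Lib.Helper22.MargST

/-!
# Marggraf's theorem (S3620), MODULE Q: quasiprimitive ⇒ primitive

Strong induction on the degree.  If `G` is not primitive, it has a nontrivial block `B`; `G` is
faithful and quasiprimitive on the block system `orbit G B`, the Jordan set `Γ` is a union of at
least two blocks, and by induction `G` induces every even permutation of the block system.  Using
`3`-cycles one finds `x` with `Γ ∩ x • Γ` a single block `C`; then `h ∈ F(Γᶜ)` moving `C` and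
`h' ∈ F((x • Γ)ᶜ)` fixing `C` and moving a point of `C` commute on the blocks, hence commute, but
`h h' ω ≠ h' h ω`.
-/

set_option linter.unusedVariables false
set_option linter.unusedSectionVars false
set_option linter.style.haveILetI false

universe u v

namespace Cfsg.Agent.Lib.Helper22.Marg

open MulAction Cfsg.Agent.Lib.Helper71.Marg
open scoped Pointwise

section BlockSystem

variable {G : Type u} {Ω : Type v} [Group G] [MulAction G Ω] {B : Set Ω}

theorem blk_smul_mem {C : Set Ω} (hC : C ∈ orbit G B) (g : G) : g • C ∈ orbit G B := by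
  obtain ⟨g₀, rfl⟩ := hC
  exact ⟨g * g₀, by simp [mul_smul]⟩

theorem blk_eq_of_meet (hB : IsBlock G B) {C D : Set Ω} (hC : C ∈ orbit G B)
    (hD : D ∈ orbit G B) (h : (C ∩ D).Nonempty) : C = D := by
  obtain ⟨g, rfl⟩ := hC
  obtain ⟨g', rfl⟩ := hD
  exact hB.smul_eq_smul_of_nonempty h

theorem blk_nonempty (hBne : B.Nonempty) {C : Set Ω} (hC : C ∈ orbit G B) : C.Nonempty := by
  obtain ⟨g, rfl⟩ := hC
  exact hBne.smul_set

theorem blk_ncard {C : Set Ω} (hC : C ∈ orbit G B) : C.ncard = B.ncard := by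
  obtain ⟨g, rfl⟩ := hC
  exact Set.ncard_smul_set _ _

theorem blk_exists_mem [IsPretransitive G Ω] (hBne : B.Nonempty) (ω : Ω) :
    ∃ C ∈ orbit G B, ω ∈ C := by
  obtain ⟨b, hb⟩ := hBne
  obtain ⟨g, hg⟩ := exists_smul_eq G b ω
  exact ⟨g • B, ⟨g, rfl⟩, hg ▸ Set.smul_mem_smul_set hb⟩

/-- `U` is a union of blocks of the system `orbit G B`. -/
def Sat (G : Type u) {Ω : Type v} [Group G] [MulAction G Ω] (B U : Set Ω) : Prop :=
  ∀ C ∈ orbit G B, (C ∩ U).Nonempty → C ⊆ U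

theorem Sat.smul {U : Set Ω} (h : Sat G B U) (g : G) : Sat G B (g • U) := by
  intro C hC hne
  have h1 : (g⁻¹ • C ∩ U).Nonempty := by
    obtain ⟨y, hyC, hyU⟩ := hne
    obtain ⟨w, hw, rfl⟩ := hyU
    exact ⟨w, ⟨g • w, hyC, by simp⟩, hw⟩
  have h2 := h _ (blk_smul_mem hC g⁻¹) h1
  have h3 : g • (g⁻¹ • C) ⊆ g • U := Set.smul_set_mono h2
  simpa using h3

theorem Sat.inter {U V : Set Ω} (h1 : Sat G B U) (h2 : Sat G B V) : Sat G B (U ∩ V) := by
  intro C hC hne
  obtain ⟨y, hyC, hyU, hyV⟩ := hne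
  exact Set.subset_inter (h1 C hC ⟨y, hyC, hyU⟩) (h2 C hC ⟨y, hyC, hyV⟩)

theorem Sat.union {U V : Set Ω} (h1 : Sat G B U) (h2 : Sat G B V) : Sat G B (U ∪ V) := by
  intro C hC hne
  obtain ⟨y, hyC, hyU | hyV⟩ := hne
  · exact (h1 C hC ⟨y, hyC, hyU⟩).trans Set.subset_union_left
  · exact (h2 C hC ⟨y, hyC, hyV⟩).trans Set.subset_union_right

theorem Sat.disjoint {U C : Set Ω} (h : Sat G B U) (hC : C ∈ orbit G B) (hCU : ¬ C ⊆ U) :
    Disjoint C U := by
  rw [Set.disjoint_iff_inter_eq_empty]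
  by_contra hne
  exact hCU (h C hC (Set.nonempty_iff_ne_empty.mpr hne))

theorem sat_block (hB : IsBlock G B) {C : Set Ω} (hC : C ∈ orbit G B) : Sat G B C := by
  intro D hD hne
  rw [blk_eq_of_meet hB hD hC hne]

/-- The kernel of the action on the block system. -/
def blkKer (G : Type u) {Ω : Type v} [Group G] [MulAction G Ω] (B : Set Ω) : Subgroup G where
  carrier := {n | ∀ C ∈ orbit G B, n • C = C}
  one_mem' := by intro C _; simp
  mul_mem' := by
    intro a b ha hb C hC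
    rw [mul_smul, hb C hC, ha C hC]
  inv_mem' := by
    intro a ha C hC
    rw [inv_smul_eq_iff]
    exact (ha C hC).symm

theorem blkKer_normal : (blkKer G B).Normal := by
  constructor
  intro n hn g C hC
  have h1 := hn (g⁻¹ • C) (blk_smul_mem hC g⁻¹)
  rw [mul_smul, mul_smul, h1, smul_inv_smul]

/-- `G` acts faithfully on the block system. -/
def FaithfulOnBlocks (G : Type u) {Ω : Type v} [Group G] [MulAction G Ω] (B : Set Ω) : Prop :=
  ∀ g : G, (∀ C ∈ orbit G B, g • C = C) → g = 1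

theorem faithfulOnBlocks_of_qp
    (hqp : ∀ N : Subgroup G, N.Normal → N ≠ ⊥ → IsPretransitive ↥N Ω)
    (hBne : B.Nonempty) (hBuniv : B ≠ Set.univ) : FaithfulOnBlocks G B := by
  have hbot : blkKer G B = ⊥ := by
    by_contra hne
    have htr := hqp _ blkKer_normal hne
    obtain ⟨a, ha⟩ := hBne
    obtain ⟨x, hx⟩ := (Set.ne_univ_iff_exists_notMem B).mp hBuniv
    obtain ⟨n, hn⟩ := htr.exists_smul_eq a x
    have hnB : (n : G) • B = B := n.prop B ⟨1, by simp⟩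
    apply hx
    rw [← hnB, ← hn]
    exact Set.smul_mem_smul_set ha
  intro g hg
  have : g ∈ blkKer G B := hg
  rw [hbot] at this
  exact Subgroup.mem_bot.mp this

end BlockSystem

section Jordan

variable {G : Type u} {Ω : Type v} [Group G] [MulAction G Ω] {B : Set Ω}

theorem smul_eq_of_disjoint {Γ D : Set Ω} {h : G} (hh : h ∈ fixingSubgroup G Γᶜ)
    (hD : Disjoint D Γ) : h • D = D := by
  ext y
  constructor
  · rintro ⟨d, hd, rfl⟩
    have : h • d = d := (mem_fixingSubgroup_compl_iff.mp hh) d (Set.disjoint_left.mp hD hd)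
    change h • d ∈ D
    rw [this]; exact hd
  · intro hy
    have : h • y = y := (mem_fixingSubgroup_compl_iff.mp hh) y (Set.disjoint_left.mp hD hy)
    exact ⟨y, hy, this⟩

theorem exists_ne_one_of_isJordan [Finite Ω] {Γ : Set Ω} (hΓ : IsJordan G Γ) (h2 : 1 < Γ.ncard) :
    ∃ k ∈ fixingSubgroup G Γᶜ, k ≠ 1 := by
  obtain ⟨a, b, ha, hb, hab⟩ := (Set.one_lt_ncard_iff (Set.toFinite _)).mp h2
  obtain ⟨k, hk, hkab⟩ := hΓ a ha b hb
  refine ⟨k, hk, ?_⟩
  intro h
  rw [h, one_smul] at hkab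
  exact hab hkab

theorem isPretransitive_of_qp [Finite Ω]
    (hqp : ∀ N : Subgroup G, N.Normal → N ≠ ⊥ → IsPretransitive ↥N Ω)
    {Γ : Set Ω} (hΓ : IsJordan G Γ) (h2 : 1 < Γ.ncard) : IsPretransitive G Ω := by
  obtain ⟨k, hk, hk1⟩ := exists_ne_one_of_isJordan hΓ h2
  have htop : (⊤ : Subgroup G) ≠ ⊥ := by
    intro h
    have : k ∈ (⊥ : Subgroup G) := h ▸ Subgroup.mem_top _
    exact hk1 (Subgroup.mem_bot.mp this)
  have h1 := hqp ⊤ inferInstance htop
  constructor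
  intro x y
  obtain ⟨g, hg⟩ := h1.exists_smul_eq x y
  exact ⟨(g : G), hg⟩

/-- The Jordan set is a union of blocks. -/
theorem sat_of_isJordan [Finite Ω] (hB : IsBlock G B) (hfaith : FaithfulOnBlocks G B)
    {Γ : Set Ω} (hΓ : IsJordan G Γ) (h2 : 1 < Γ.ncard) : Sat G B Γ := by
  intro C hC hne
  by_contra hns
  obtain ⟨x, hxC, hxΓ⟩ := Set.not_subset.mp hns
  obtain ⟨z, hzC, hzΓ⟩ := hne
  have hfixC : ∀ h ∈ fixingSubgroup G Γᶜ, h • C = C := by
    intro h hh
    have hx : h • x = x := (mem_fixingSubgroup_compl_iff.mp hh) x hxΓ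
    exact blk_eq_of_meet hB (blk_smul_mem hC h) hC ⟨x, ⟨x, hxC, hx⟩, hxC⟩
  have hΓC : Γ ⊆ C := by
    intro y hy
    obtain ⟨h, hh, hhz⟩ := hΓ z hzΓ y hy
    rw [← hfixC h hh, ← hhz]
    exact Set.smul_mem_smul_set hzC
  obtain ⟨k, hk, hk1⟩ := exists_ne_one_of_isJordan hΓ h2
  apply hk1
  apply hfaith
  intro D hD
  by_cases hDC : D = C
  · rw [hDC]; exact hfixC k hk
  · have hdis : Disjoint D C := by
      rw [Set.disjoint_iff_inter_eq_empty]
      by_contra hne'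
      exact hDC (blk_eq_of_meet hB hD hC (Set.nonempty_iff_ne_empty.mpr hne'))
    exact smul_eq_of_disjoint hk (hdis.mono_right hΓC)

/-- The Jordan set contains two distinct blocks. -/
theorem exists_two_blocks [Finite Ω] [IsPretransitive G Ω] (hB : IsBlock G B) (hBne : B.Nonempty)
    (hfaith : FaithfulOnBlocks G B)
    {Γ : Set Ω} (hΓ : IsJordan G Γ) (h2 : 1 < Γ.ncard) (hsat : Sat G B Γ) :
    ∃ C ∈ orbit G B, ∃ D ∈ orbit G B, C ≠ D ∧ C ⊆ Γ ∧ D ⊆ Γ := by
  obtain ⟨k, hk, hk1⟩ := exists_ne_one_of_isJordan hΓ h2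
  have hΓne : Γ.Nonempty := by
    rw [← Set.ncard_pos (Set.toFinite _)]; omega
  obtain ⟨a, ha⟩ := hΓne
  obtain ⟨C, hC, haC⟩ := blk_exists_mem (G := G) hBne a
  have hCΓ : C ⊆ Γ := hsat C hC ⟨a, haC, ha⟩
  by_contra hcon
  push Not at hcon
  have hΓC : Γ ⊆ C := by
    intro y hy
    obtain ⟨D, hD, hyD⟩ := blk_exists_mem (G := G) hBne y
    have hDΓ : D ⊆ Γ := hsat D hD ⟨y, hyD, hy⟩
    by_cases hCD : C = D
    · rw [hCD]; exact hyD
    · exact absurd hDΓ (hcon C hC D hD hCD hCΓ)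
  apply hk1
  apply hfaith
  intro D hD
  by_cases hDC : D = C
  · rw [hDC]
    refine blk_eq_of_meet hB (blk_smul_mem hC k) hC ⟨k • a, Set.smul_mem_smul_set haC, ?_⟩
    exact hΓC (smul_mem_of_mem_fixingSubgroup_compl hk ha)
  · have hdis : Disjoint D C := by
      rw [Set.disjoint_iff_inter_eq_empty]
      by_contra hne'
      exact hDC (blk_eq_of_meet hB hD hC (Set.nonempty_iff_ne_empty.mpr hne'))
    exact smul_eq_of_disjoint hk (hdis.mono_right hΓC)

/-- If `Γ ∩ x • Γ` is a single block, we get a contradiction (commutation trick). -/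
theorem false_of_inter_block [Finite Ω] (hB : IsBlock G B) (hBne : B.Nonempty)
    (hB2 : 1 < B.ncard) (hfaith : FaithfulOnBlocks G B) {Γ : Set Ω} (hΓ : IsJordan G Γ)
    (hsat : Sat G B Γ)
    (htwo : ∃ C ∈ orbit G B, ∃ D ∈ orbit G B, C ≠ D ∧ C ⊆ Γ ∧ D ⊆ Γ)
    (x : G) {C : Set Ω} (hC : C ∈ orbit G B) (hx : Γ ∩ x • Γ = C) : False := by
  have hΓ'J : IsJordan G (x • Γ) := isJordan_smul hΓ x
  have hsat' : Sat G B (x • Γ) := hsat.smul x
  have hCΓ : C ⊆ Γ := hx ▸ Set.inter_subset_left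
  have hCΓ' : C ⊆ x • Γ := hx ▸ Set.inter_subset_right
  -- a second block `C₂ ⊆ Γ`, `C₂ ≠ C`
  obtain ⟨C₂, hC₂, hC₂Γ, hC₂C⟩ : ∃ C₂ ∈ orbit G B, C₂ ⊆ Γ ∧ C₂ ≠ C := by
    obtain ⟨C₁, hC₁, D₁, hD₁, hne, h1, h2⟩ := htwo
    by_cases h : C₁ = C
    · exact ⟨D₁, hD₁, h2, fun h' => hne (h.trans h'.symm)⟩
    · exact ⟨C₁, hC₁, h1, h⟩
  -- blocks inside both `Γ` and `x • Γ` equal `C`
  have hboth : ∀ D ∈ orbit G B, D ⊆ Γ → D ⊆ x • Γ → D = C := by
    intro D hD h1 h2
    apply blk_eq_of_meet hB hD hC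
    obtain ⟨d, hd⟩ := blk_nonempty hBne hD
    exact ⟨d, hd, hx ▸ ⟨h1 hd, h2 hd⟩⟩
  have hC₂Γ' : Disjoint C₂ (x • Γ) :=
    hsat'.disjoint hC₂ (fun h => hC₂C (hboth C₂ hC₂ hC₂Γ h))
  obtain ⟨z, hz⟩ := blk_nonempty hBne hC
  obtain ⟨z₂, hz₂⟩ := blk_nonempty hBne hC₂
  obtain ⟨h, hh, hhz⟩ := hΓ z (hCΓ hz) z₂ (hC₂Γ hz₂)
  have hhC : h • C = C₂ :=
    blk_eq_of_meet hB (blk_smul_mem hC h) hC₂ ⟨z₂, hhz ▸ Set.smul_mem_smul_set hz, hz₂⟩
  -- two points of `C`
  have hC2 : 1 < C.ncard := by rw [blk_ncard hC]; exact hB2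
  obtain ⟨ω, ω', hω, hω', hne⟩ := (Set.one_lt_ncard_iff (Set.toFinite _)).mp hC2
  obtain ⟨h', hh', hh'ω⟩ := hΓ'J ω (hCΓ' hω) ω' (hCΓ' hω')
  have hh'C : h' • C = C :=
    blk_eq_of_meet hB (blk_smul_mem hC h') hC ⟨ω', hh'ω ▸ Set.smul_mem_smul_set hω, hω'⟩
  have hhΓ : ∀ D : Set Ω, D ⊆ Γ → h • D ⊆ Γ := by
    intro D hD y hy
    obtain ⟨d, hd, rfl⟩ := hy
    exact smul_mem_of_mem_fixingSubgroup_compl hh (hD hd)
  have hh'Γ' : ∀ D : Set Ω, D ⊆ x • Γ → h' • D ⊆ x • Γ := by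
    intro D hD y hy
    obtain ⟨d, hd, rfl⟩ := hy
    exact smul_mem_of_mem_fixingSubgroup_compl hh' (hD hd)
  -- commutation on blocks
  have hcomm : ∀ D ∈ orbit G B, h • (h' • D) = h' • (h • D) := by
    intro D hD
    by_cases hDC : D = C
    · rw [hDC, hh'C, hhC, smul_eq_of_disjoint hh' hC₂Γ']
    by_cases hDΓ : D ⊆ Γ
    · have hDΓ' : Disjoint D (x • Γ) :=
        hsat'.disjoint hD (fun h => hDC (hboth D hD hDΓ h))
      rw [smul_eq_of_disjoint hh' hDΓ']
      by_cases hhD : h • D = C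
      · rw [hhD, hh'C]
      · have hdis : Disjoint (h • D) (x • Γ) :=
          hsat'.disjoint (blk_smul_mem hD h)
            (fun h'' => hhD (hboth _ (blk_smul_mem hD h) (hhΓ D hDΓ) h''))
        rw [smul_eq_of_disjoint hh' hdis]
    · have hDdis : Disjoint D Γ := hsat.disjoint hD hDΓ
      rw [smul_eq_of_disjoint hh hDdis]
      by_cases hDΓ' : D ⊆ x • Γ
      · have hdis : Disjoint (h' • D) Γ := by
          apply hsat.disjoint (blk_smul_mem hD h')
          intro hsub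
          have h5 := hboth _ (blk_smul_mem hD h') hsub (hh'Γ' D hDΓ')
          rw [← hh'C] at h5
          exact hDC (smul_left_cancel h' h5)
        rw [smul_eq_of_disjoint hh hdis]
      · have hDdis' : Disjoint D (x • Γ) := hsat'.disjoint hD hDΓ'
        rw [smul_eq_of_disjoint hh' hDdis', smul_eq_of_disjoint hh hDdis]
  have hcommG : h * h' = h' * h := by
    have h6 : (h' * h)⁻¹ * (h * h') = 1 := by
      apply hfaith
      intro D hD
      rw [mul_smul, mul_smul, hcomm D hD, ← mul_smul h' h, inv_smul_smul]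
    exact (inv_mul_eq_one.mp h6).symm
  -- evaluate at `ω`
  have e1 : (h * h') • ω = h • ω' := by rw [mul_smul, hh'ω]
  have e2 : (h' * h) • ω = h • ω := by
    rw [mul_smul]
    have h7 : h • ω ∈ C₂ := hhC ▸ Set.smul_mem_smul_set hω
    have h8 : h • ω ∉ x • Γ := Set.disjoint_left.mp hC₂Γ' h7
    exact (mem_fixingSubgroup_compl_iff.mp hh') _ h8
  rw [hcommG, e2] at e1
  exact hne (smul_left_cancel h e1)

/-- Three-cycles of blocks are induced by elements of `G`. -/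
def ThreeCyc (G : Type u) {Ω : Type v} [Group G] [MulAction G Ω] (B : Set Ω) : Prop :=
  ∀ C ∈ orbit G B, ∀ D ∈ orbit G B, ∀ E ∈ orbit G B, C ≠ D → D ≠ E → C ≠ E →
    ∃ g : G, g • C = D ∧ g • D = E ∧ g • E = C ∧
      ∀ C' ∈ orbit G B, C' ≠ C → C' ≠ D → C' ≠ E → g • C' = C'

/-- Using three-cycles of blocks, some translate of `Γ` meets `Γ` in exactly one block. -/
theorem exists_inter_block [Finite Ω] [IsPretransitive G Ω] (hB : IsBlock G B)
    (hBne : B.Nonempty) (h3 : ThreeCyc G B) {Γ : Set Ω} (hsat : Sat G B Γ) (hΓne : Γ.Nonempty)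
    (hhalf : 2 * Γ.ncard < Nat.card Ω) :
    ∃ x : G, ∃ C ∈ orbit G B, Γ ∩ x • Γ = C := by
  have key : ∀ k : ℕ, ∀ x : G, (Γ ∩ x • Γ).Nonempty → (Γ ∩ x • Γ).ncard = k →
      ∃ x' : G, ∃ C ∈ orbit G B, Γ ∩ x' • Γ = C := by
    intro k
    induction k using Nat.strong_induction_on with
    | _ k ih =>
      intro x hne hk
      have hsatU : Sat G B (Γ ∩ x • Γ) := hsat.inter (hsat.smul x)
      obtain ⟨u₀, hu₀⟩ := hne
      obtain ⟨C, hC, hu₀C⟩ := blk_exists_mem (G := G) hBne u₀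
      have hCU : C ⊆ Γ ∩ x • Γ := hsatU C hC ⟨u₀, hu₀C, hu₀⟩
      by_cases hUC : Γ ∩ x • Γ = C
      · exact ⟨x, C, hC, hUC⟩
      obtain ⟨w, hwU, hwC⟩ : ∃ w ∈ Γ ∩ x • Γ, w ∉ C := by
        by_contra hcon
        push Not at hcon
        exact hUC (Set.Subset.antisymm hcon hCU)
      have hcard : (Γ ∪ x • Γ).ncard + (Γ ∩ x • Γ).ncard = 2 * Γ.ncard := by
        have h1 := Set.ncard_union_add_ncard_inter Γ (x • Γ) (Set.toFinite _) (Set.toFinite _)
        rw [Set.ncard_smul_set] at h1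
        omega
      have hCcard : C.ncard ≤ (Γ ∩ x • Γ).ncard := Set.ncard_le_ncard hCU (Set.toFinite _)
      have hCpos : 0 < C.ncard := (Set.ncard_pos (Set.toFinite _)).mpr ⟨u₀, hu₀C⟩
      have hsatW : Sat G B (Γ ∪ x • Γ) := hsat.union (hsat.smul x)
      obtain ⟨d, hd⟩ : ∃ d, d ∉ Γ ∪ x • Γ := by
        by_contra hcon
        push Not at hcon
        have h1 : (Γ ∪ x • Γ) = Set.univ := Set.eq_univ_of_forall hcon
        rw [h1, Set.ncard_univ] at hcard
        omega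
      obtain ⟨D, hD, hdD⟩ := blk_exists_mem (G := G) hBne d
      have hDW : Disjoint D (Γ ∪ x • Γ) := hsatW.disjoint hD (fun h => hd (h hdD))
      obtain ⟨e, he⟩ : ∃ e, e ∉ (Γ ∪ x • Γ) ∪ D := by
        by_contra hcon
        push Not at hcon
        have h1 : ((Γ ∪ x • Γ) ∪ D) = Set.univ := Set.eq_univ_of_forall hcon
        have h2 := Set.ncard_union_le (Γ ∪ x • Γ) D
        rw [h1, Set.ncard_univ, blk_ncard hD, ← blk_ncard hC] at h2
        omega
      obtain ⟨E, hE, heE⟩ := blk_exists_mem (G := G) hBne e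
      have hEW : Disjoint E (Γ ∪ x • Γ) :=
        hsatW.disjoint hE (fun h => he (Or.inl (h heE)))
      have hDE : D ≠ E := fun h => he (Or.inr (h ▸ heE))
      have hDΓ : ∀ y ∈ D, y ∉ Γ := fun y hy hyΓ => Set.disjoint_left.mp hDW hy (Or.inl hyΓ)
      have hEΓ : ∀ y ∈ E, y ∉ Γ := fun y hy hyΓ => Set.disjoint_left.mp hEW hy (Or.inl hyΓ)
      have hDx : ∀ y ∈ D, y ∉ x • Γ := fun y hy hyΓ => Set.disjoint_left.mp hDW hy (Or.inr hyΓ)
      have hEx : ∀ y ∈ E, y ∉ x • Γ := fun y hy hyΓ => Set.disjoint_left.mp hEW hy (Or.inr hyΓ)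
      have hCD : C ≠ D := fun h => hDΓ u₀ (h ▸ hu₀C) hu₀.1
      have hCE : C ≠ E := fun h => hEΓ u₀ (h ▸ hu₀C) hu₀.1
      obtain ⟨g, hgC, hgD, hgE, hgfix⟩ := h3 C hC D hD E hE hCD hDE hCE
      have hnew : Γ ∩ (g * x) • Γ = (Γ ∩ x • Γ) \ C := by
        ext ω
        constructor
        · rintro ⟨hωΓ, hω2⟩
          rw [mul_smul] at hω2
          obtain ⟨Cω, hCω, hωCω⟩ := blk_exists_mem (G := G) hBne ω
          have hCωΓ : Cω ⊆ Γ := hsat Cω hCω ⟨ω, hωCω, hωΓ⟩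
          have hsatg : Sat G B (g • (x • Γ)) := (hsat.smul x).smul g
          have hCωg : Cω ⊆ g • (x • Γ) := hsatg Cω hCω ⟨ω, hωCω, hω2⟩
          have hC'' : g⁻¹ • Cω ∈ orbit G B := blk_smul_mem hCω g⁻¹
          have hC''x : g⁻¹ • Cω ⊆ x • Γ := by
            rintro y ⟨c, hc, rfl⟩
            obtain ⟨w', hw', rfl⟩ := hCωg hc
            simpa using hw'
          have hgC'' : g • (g⁻¹ • Cω) = Cω := smul_inv_smul g Cω
          obtain ⟨y₀, hy₀⟩ := blk_nonempty hBne hC''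
          have hne1 : g⁻¹ • Cω ≠ C := by
            intro h
            rw [h, hgC] at hgC''
            exact hDΓ ω (hgC'' ▸ hωCω) hωΓ
          have hne2 : g⁻¹ • Cω ≠ D := fun h => hDx y₀ (h ▸ hy₀) (hC''x hy₀)
          have hne3 : g⁻¹ • Cω ≠ E := fun h => hEx y₀ (h ▸ hy₀) (hC''x hy₀)
          have hfix := hgfix _ hC'' hne1 hne2 hne3
          rw [hgC''] at hfix
          refine ⟨⟨hωΓ, hC''x (hfix ▸ hωCω)⟩, ?_⟩
          intro hωC
          have h4 : Cω = C := blk_eq_of_meet hB hCω hC ⟨ω, hωCω, hωC⟩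
          exact hne1 (hfix ▸ h4)
        · rintro ⟨⟨hωΓ, hωx⟩, hωC⟩
          obtain ⟨Cω, hCω, hωCω⟩ := blk_exists_mem (G := G) hBne ω
          have hCωU : Cω ⊆ Γ ∩ x • Γ := hsatU Cω hCω ⟨ω, hωCω, hωΓ, hωx⟩
          have hne1 : Cω ≠ C := fun h => hωC (h ▸ hωCω)
          have hne2 : Cω ≠ D := fun h => hDΓ ω (h ▸ hωCω) hωΓ
          have hne3 : Cω ≠ E := fun h => hEΓ ω (h ▸ hωCω) hωΓ
          have hfix := hgfix _ hCω hne1 hne2 hne3
          refine ⟨hωΓ, ?_⟩
          rw [mul_smul]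
          have h5 : g • Cω ⊆ g • (x • Γ) :=
            Set.smul_set_mono (fun y hy => (hCωU hy).2)
          exact h5 (hfix.symm ▸ hωCω)
      have hlt : ((Γ ∩ x • Γ) \ C).ncard < k := by
        have h1 := Set.ncard_sdiff_add_ncard_of_subset hCU (Set.toFinite _)
        omega
      exact ih _ hlt (g * x) (hnew ▸ ⟨w, hwU, hwC⟩) (by rw [hnew])
  exact key _ 1 (by simpa using hΓne) rfl

end Jordan

section BlockAction

variable {G : Type u} {Ω : Type v} [Group G] [MulAction G Ω] {B : Set Ω}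

theorem ncard_biUnion_blocks [Finite Ω] (hB : IsBlock G B) {T : Set (Set Ω)}
    (hT : T ⊆ orbit G B) : (⋃ C ∈ T, C).ncard = B.ncard * T.ncard := by
  have hfin : T.Finite := Set.toFinite _
  have hdisj : T.PairwiseDisjoint id := by
    intro C hC D hD hne
    show Disjoint C D
    rw [Set.disjoint_iff_inter_eq_empty]
    by_contra h
    exact hne (blk_eq_of_meet hB (hT hC) (hT hD) (Set.nonempty_iff_ne_empty.mpr h))
  have h1 := hfin.ncard_biUnion (s := id) (fun C _ => Set.toFinite C) hdisj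
  simp only [id] at h1
  rw [h1, finsum_mem_congr rfl (fun C hC => blk_ncard (hT hC))]
  have h2 : ∑ᶠ C ∈ T, B.ncard = ∑ᶠ C ∈ T, B.ncard * 1 := by simp
  rw [h2, ← mul_finsum_mem' _ _ hfin, finsum_one]

/-- The blocks inside `Γ`, as a subset of the block system. -/
def blkSet (G : Type u) {Ω : Type v} [Group G] [MulAction G Ω] (B Γ : Set Ω) :
    Set ↥(orbit G B) := {c | (c : Set Ω) ⊆ Γ}

theorem isJordan_blkSet (hB : IsBlock G B) (hBne : B.Nonempty) {Γ : Set Ω}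
    (hΓ : IsJordan G Γ) (hsat : Sat G B Γ) : IsJordan G (blkSet G B Γ) := by
  intro c hc c' hc'
  obtain ⟨z, hz⟩ := blk_nonempty hBne c.prop
  obtain ⟨z', hz'⟩ := blk_nonempty hBne c'.prop
  obtain ⟨h, hh, hhz⟩ := hΓ z (hc hz) z' (hc' hz')
  refine ⟨h, ?_, ?_⟩
  · rw [mem_fixingSubgroup_compl_iff]
    intro c'' hc''
    apply Subtype.ext
    show h • (c'' : Set Ω) = c''
    exact smul_eq_of_disjoint hh (hsat.disjoint c''.prop hc'')
  · apply Subtype.ext
    show h • (c : Set Ω) = c'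
    exact blk_eq_of_meet hB (blk_smul_mem c.prop h) c'.prop
      ⟨z', hhz ▸ Set.smul_mem_smul_set hz, hz'⟩

theorem qp_blocks (hB : IsBlock G B) (hBne : B.Nonempty)
    (hqp : ∀ N : Subgroup G, N.Normal → N ≠ ⊥ → IsPretransitive ↥N Ω) :
    ∀ N : Subgroup G, N.Normal → N ≠ ⊥ → IsPretransitive ↥N ↥(orbit G B) := by
  intro N hN hne
  have htr := hqp N hN hne
  constructor
  intro c c'
  obtain ⟨z, hz⟩ := blk_nonempty hBne c.prop
  obtain ⟨z', hz'⟩ := blk_nonempty hBne c'.prop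
  obtain ⟨n, hn⟩ := htr.exists_smul_eq z z'
  refine ⟨n, ?_⟩
  apply Subtype.ext
  show (n : G) • (c : Set Ω) = c'
  exact blk_eq_of_meet hB (blk_smul_mem c.prop _) c'.prop
    ⟨z', hn ▸ Set.smul_mem_smul_set hz, hz'⟩

theorem faithfulSMul_blocks (hfaith : FaithfulOnBlocks G B) : FaithfulSMul G ↥(orbit G B) := by
  constructor
  intro g₁ g₂ h
  have h1 : g₂⁻¹ * g₁ = 1 := by
    apply hfaith
    intro C hC
    have h2 : g₁ • C = g₂ • C := congrArg Subtype.val (h ⟨C, hC⟩)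
    rw [mul_smul, inv_smul_eq_iff]
    exact h2
  exact (inv_mul_eq_one.mp h1).symm

theorem threeCyc_of_sign [Fintype ↥(orbit G B)] [DecidableEq ↥(orbit G B)]
    (h : ∀ σ : Equiv.Perm ↥(orbit G B), Equiv.Perm.sign σ = 1 →
      ∃ x : G, (MulAction.toPerm x : Equiv.Perm ↥(orbit G B)) = σ) : ThreeCyc G B := by
  intro C hC D hD E hE hCD hDE hCE
  have hcd : (⟨C, hC⟩ : orbit G B) ≠ ⟨D, hD⟩ := fun h => hCD (congrArg Subtype.val h)
  have hde : (⟨D, hD⟩ : orbit G B) ≠ ⟨E, hE⟩ := fun h => hDE (congrArg Subtype.val h)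
  have hce : (⟨C, hC⟩ : orbit G B) ≠ ⟨E, hE⟩ := fun h => hCE (congrArg Subtype.val h)
  obtain ⟨g, hg⟩ := h (Equiv.swap ⟨C, hC⟩ ⟨D, hD⟩ * Equiv.swap ⟨D, hD⟩ ⟨E, hE⟩) (by
    rw [Equiv.Perm.sign_mul, Equiv.Perm.sign_swap hcd, Equiv.Perm.sign_swap hde]; rfl)
  have happ : ∀ a : orbit G B,
      g • a = (Equiv.swap ⟨C, hC⟩ ⟨D, hD⟩ * Equiv.swap ⟨D, hD⟩ ⟨E, hE⟩ : Equiv.Perm _) a := by
    intro a; rw [← hg]; rfl
  refine ⟨g, ?_, ?_, ?_, ?_⟩
  · have h1 := happ ⟨C, hC⟩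
    rw [Equiv.Perm.mul_apply, Equiv.swap_apply_of_ne_of_ne hcd hce, Equiv.swap_apply_left] at h1
    exact congrArg Subtype.val h1
  · have h1 := happ ⟨D, hD⟩
    rw [Equiv.Perm.mul_apply, Equiv.swap_apply_left,
      Equiv.swap_apply_of_ne_of_ne hce.symm hde.symm] at h1
    exact congrArg Subtype.val h1
  · have h1 := happ ⟨E, hE⟩
    rw [Equiv.Perm.mul_apply, Equiv.swap_apply_right, Equiv.swap_apply_right] at h1
    exact congrArg Subtype.val h1
  · intro C' hC' h1 h2 h3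
    have hc1 : (⟨C', hC'⟩ : orbit G B) ≠ ⟨C, hC⟩ := fun h => h1 (congrArg Subtype.val h)
    have hc2 : (⟨C', hC'⟩ : orbit G B) ≠ ⟨D, hD⟩ := fun h => h2 (congrArg Subtype.val h)
    have hc3 : (⟨C', hC'⟩ : orbit G B) ≠ ⟨E, hE⟩ := fun h => h3 (congrArg Subtype.val h)
    have h4 := happ ⟨C', hC'⟩
    rw [Equiv.Perm.mul_apply, Equiv.swap_apply_of_ne_of_ne hc2 hc3,
      Equiv.swap_apply_of_ne_of_ne hc1 hc2] at h4
    exact congrArg Subtype.val h4

end BlockAction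

section Main

/-- MODULE Q, with the primitive case (MODULE E) as a hypothesis. -/
theorem marggraf_quasiprimitive_aux {G : Type u} [Group G]
    (hE : ∀ (Ω : Type v) [MulAction G Ω] [Fintype Ω] [DecidableEq Ω] [FaithfulSMul G Ω]
      (Γ : Set Ω), IsPreprimitive G Ω → IsJordan G Γ → 1 < Γ.ncard →
      2 * Γ.ncard < Fintype.card Ω → ∀ σ : Equiv.Perm Ω, Equiv.Perm.sign σ = 1 →
      ∃ x : G, (MulAction.toPerm x : Equiv.Perm Ω) = σ) :
    ∀ (n : ℕ) (Ω : Type v) [MulAction G Ω] [FaithfulSMul G Ω] [Fintype Ω] [DecidableEq Ω],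
      Fintype.card Ω = n →
      (∀ N : Subgroup G, N.Normal → N ≠ ⊥ → MulAction.IsPretransitive ↥N Ω) →
      ∀ Γ : Set Ω, IsJordan G Γ → 1 < Γ.ncard → 2 * Γ.ncard < Fintype.card Ω →
      ∀ σ : Equiv.Perm Ω, Equiv.Perm.sign σ = 1 →
        ∃ x : G, (MulAction.toPerm x : Equiv.Perm Ω) = σ := by
  intro n
  induction n using Nat.strong_induction_on with
  | _ n ih =>
    intro Ω _ _ _ _ hn hqp Γ hΓ h2 hhalf
    by_cases hprim : IsPreprimitive G Ω
    · exact hE Ω Γ hprim hΓ h2 hhalf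
    exfalso
    haveI htr : IsPretransitive G Ω := isPretransitive_of_qp hqp hΓ h2
    obtain ⟨B, hB, hBtriv⟩ : ∃ B : Set Ω, IsBlock G B ∧ ¬ IsTrivialBlock B := by
      by_contra hcon
      push Not at hcon
      exact hprim { toIsPretransitive := htr, isTrivialBlock_of_isBlock := fun {B} hB => hcon B hB }
    have hBns : ¬ B.Subsingleton := fun h => hBtriv (Or.inl h)
    have hBuniv : B ≠ Set.univ := fun h => hBtriv (Or.inr h)
    have hBnt : B.Nontrivial := Set.not_subsingleton_iff.mp hBns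
    have hBne : B.Nonempty := hBnt.nonempty
    have hB2 : 1 < B.ncard := Set.one_lt_ncard_iff_nontrivial.mpr hBnt
    have hfaith := faithfulOnBlocks_of_qp hqp hBne hBuniv
    have hsat := sat_of_isJordan hB hfaith hΓ h2
    have htwo := exists_two_blocks hB hBne hfaith hΓ h2 hsat
    have hΓne : Γ.Nonempty := by
      rw [← Set.ncard_pos (Set.toFinite _)]; omega
    have hhalf' : 2 * Γ.ncard < Nat.card Ω := by rwa [Nat.card_eq_fintype_card]
    have h3 : ThreeCyc G B := by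
      letI : Fintype ↥(orbit G B) := Fintype.ofFinite _
      letI : DecidableEq ↥(orbit G B) := Classical.decEq _
      haveI : FaithfulSMul G ↥(orbit G B) := faithfulSMul_blocks hfaith
      apply threeCyc_of_sign
      have hcardΩ : Nat.card Ω = B.ncard * (orbit G B).ncard := by
        rw [← ncard_biUnion_blocks hB (Set.Subset.refl _), ← Set.ncard_univ]
        congr 1
        symm
        apply Set.eq_univ_of_forall
        intro ω
        obtain ⟨C, hC, hωC⟩ := blk_exists_mem (G := G) hBne ω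
        exact Set.mem_biUnion hC hωC
      have hcardΓ : B.ncard * (blkSet G B Γ).ncard ≤ Γ.ncard := by
        have hT : Subtype.val '' (blkSet G B Γ) ⊆ orbit G B := by
          rintro _ ⟨c, _, rfl⟩
          exact c.prop
        rw [← Set.ncard_image_of_injective (blkSet G B Γ) Subtype.val_injective,
          ← ncard_biUnion_blocks hB hT]
        apply Set.ncard_le_ncard _ (Set.toFinite _)
        intro ω hω
        simp only [Set.mem_iUnion] at hω
        obtain ⟨C, ⟨c, hc, rfl⟩, hωC⟩ := hω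
        exact hc hωC
      have hl : Fintype.card ↥(orbit G B) = (orbit G B).ncard := by
        rw [Fintype.card_eq_nat_card, Nat.card_coe_set_eq]
      refine ih (Fintype.card ↥(orbit G B)) ?_ ↥(orbit G B) rfl (qp_blocks hB hBne hqp)
        (blkSet G B Γ) (isJordan_blkSet hB hBne hΓ hsat) ?_ ?_
      · rw [hl, ← hn, ← Nat.card_eq_fintype_card, hcardΩ]
        have hlpos : 0 < (orbit G B).ncard :=
          (Set.ncard_pos (Set.toFinite _)).mpr ⟨B, ⟨1, by simp⟩⟩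
        nlinarith
      · obtain ⟨C, hC, D, hD, hne, hCΓ, hDΓ⟩ := htwo
        rw [Set.one_lt_ncard_iff (Set.toFinite _)]
        exact ⟨⟨C, hC⟩, ⟨D, hD⟩, hCΓ, hDΓ, fun h => hne (congrArg Subtype.val h)⟩
      · rw [hl]
        have h5 : B.ncard * (2 * (blkSet G B Γ).ncard) < B.ncard * (orbit G B).ncard := by
          calc B.ncard * (2 * (blkSet G B Γ).ncard)
              = 2 * (B.ncard * (blkSet G B Γ).ncard) := by ring
            _ ≤ 2 * Γ.ncard := by omega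
            _ < Nat.card Ω := hhalf'
            _ = _ := hcardΩ
        exact Nat.lt_of_mul_lt_mul_left h5
    obtain ⟨x, C, hC, hx⟩ := exists_inter_block hB hBne h3 hsat hΓne hhalf'
    exact false_of_inter_block hB hBne hB2 hfaith hΓ hsat htwo x hC hx

/-- MODULE Q in the form of board #2145, with the primitive case (MODULE E,
`marggraf_primitive`) as a hypothesis. -/
theorem marggraf_quasiprimitive_of {G : Type u} {Ω : Type v} [Group G] [Finite G]
    [MulAction G Ω] [FaithfulSMul G Ω] [Fintype Ω] [DecidableEq Ω]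
    (hE : ∀ (Ω : Type v) [MulAction G Ω] [Fintype Ω] [DecidableEq Ω] [FaithfulSMul G Ω]
      (Γ : Set Ω), IsPreprimitive G Ω → IsJordan G Γ → 1 < Γ.ncard →
      2 * Γ.ncard < Fintype.card Ω → ∀ σ : Equiv.Perm Ω, Equiv.Perm.sign σ = 1 →
      ∃ x : G, (MulAction.toPerm x : Equiv.Perm Ω) = σ)
    (hqp : ∀ N : Subgroup G, N.Normal → N ≠ ⊥ → MulAction.IsPretransitive ↥N Ω)
    (Γ : Set Ω) (hΓ : IsJordan G Γ) (h2 : 1 < Γ.ncard) (hhalf : 2 * Γ.ncard < Fintype.card Ω) :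
    ∀ σ : Equiv.Perm Ω, Equiv.Perm.sign σ = 1 →
      ∃ x : G, (MulAction.toPerm x : Equiv.Perm Ω) = σ :=
  marggraf_quasiprimitive_aux hE _ Ω rfl hqp Γ hΓ h2 hhalf

end Main

end Cfsg.Agent.Lib.Helper22.Marg
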