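import Cfsg.Agent.Lib.Helper71.MargDefs

/-!
# Marggraf's theorem (S3620), MODULE ST: all translates avoiding `X` have the same type

`same_type` is stated exactly as in helper71's module list (board #2145).  The two facts on
Jordan sets that it needs (translates of Jordan sets are Jordan sets; a block of `F(X)` meeting
a Jordan set disjoint from `X` is inside it or contains it) are proved here under fresh names, so
that this file depends only on `Helper71.MargDefs`.
-/

set_option linter.unusedVariables false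

namespace Cfsg.Agent.Lib.Helper22.Marg

open MulAction Cfsg.Agent.Lib.Helper71.Marg
open scoped Pointwise

variable {G Ω : Type*} [Group G] [MulAction G Ω]

/-- A translate of a Jordan set is a Jordan set. -/
theorem isJordan_smul {Γ : Set Ω} (h : IsJordan G Γ) (g : G) : IsJordan G (g • Γ) := by
  intro x hx y hy
  obtain ⟨x', hx', rfl⟩ := hx
  obtain ⟨y', hy', rfl⟩ := hy
  obtain ⟨k, hk, hkxy⟩ := h x' hx' y' hy'
  refine ⟨g * k * g⁻¹, ?_, ?_⟩
  · rw [mem_fixingSubgroup_compl_iff] at hk ⊢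
    intro z hz
    have hz' : g⁻¹ • z ∉ Γ := by
      intro hmem
      apply hz
      exact ⟨g⁻¹ • z, hmem, by simp⟩
    rw [mul_smul, mul_smul, hk _ hz', smul_inv_smul]
  · simp [mul_smul, hkxy]

/-- A block of `F(X)` meeting a Jordan set `J` disjoint from `X` is inside `J` or contains `J`. -/
theorem isJordan_subset_or_subset_of_isBlock {X J B : Set Ω} (hJ : IsJordan G J)
    (hJX : Disjoint J X) (hB : IsBlock (fixingSubgroup G X) B) (hBJ : (B ∩ J).Nonempty) :
    B ⊆ J ∨ J ⊆ B := by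
  by_cases hBsub : B ⊆ J
  · exact Or.inl hBsub
  · right
    obtain ⟨x, hxB, hxJ⟩ := Set.not_subset.mp hBsub
    obtain ⟨z, hzB, hzJ⟩ := hBJ
    intro y hy
    obtain ⟨k, hk, hkz⟩ := hJ z hzJ y hy
    have hkX : k ∈ fixingSubgroup G X :=
      fixingSubgroup_le_of_subset (G := G) (fun a ha => (Set.disjoint_right.mp hJX ha)) hk
    have hkx : k • x = x := (mem_fixingSubgroup_compl_iff.mp hk) x hxJ
    have hkB : k • B = B :=
      hB.smul_eq_of_mem (g := ⟨k, hkX⟩) hxB (by show k • x ∈ B; rw [hkx]; exact hxB)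
    rw [← hkB, ← hkz]
    exact Set.smul_mem_smul_set hzB

/-- MODULE ST: all translates of `Γ` avoiding `X` have the same type with respect to the block
system generated by the `F(X)`-block `B`. -/
theorem same_type [Finite Ω] {Γ X B : Set Ω} (hΓ : IsJordan G Γ)
    (htr : TransOn (fixingSubgroup G X) Xᶜ)
    (hB : IsBlock (fixingSubgroup G X) B) (hBX : B ⊆ Xᶜ) (hBne : B.Nonempty) :
    (∀ g : G, Disjoint (g • Γ) X → ∀ k ∈ fixingSubgroup G X,
        ((k • B) ∩ (g • Γ)).Nonempty → k • B ⊆ g • Γ) ∨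
    (∀ g : G, Disjoint (g • Γ) X → ∃ k ∈ fixingSubgroup G X, g • Γ ⊂ k • B) := by
  classical
  -- dichotomy for a translate
  have hdich : ∀ g : G, Disjoint (g • Γ) X → ∀ k ∈ fixingSubgroup G X,
      ((k • B) ∩ (g • Γ)).Nonempty → k • B ⊆ g • Γ ∨ g • Γ ⊆ k • B := by
    intro g hg k hk hne
    have hkB : IsBlock (fixingSubgroup G X) (k • B) :=
      hB.translate (⟨k, hk⟩ : fixingSubgroup G X)
    exact isJordan_subset_or_subset_of_isBlock (isJordan_smul hΓ g) hg hkB hne
  by_cases hA : ∀ g : G, Disjoint (g • Γ) X → ∀ k ∈ fixingSubgroup G X,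
        ((k • B) ∩ (g • Γ)).Nonempty → k • B ⊆ g • Γ
  · exact Or.inl hA
  · right
    push Not at hA
    obtain ⟨g₀, hg₀, k₀, hk₀, hne₀, hnsub₀⟩ := hA
    have hsub₀ : g₀ • Γ ⊆ k₀ • B := (hdich g₀ hg₀ k₀ hk₀ hne₀).resolve_left hnsub₀
    intro g hg
    by_contra hcon
    push Not at hcon
    -- `T = g • Γ` is of type A
    have hTA : ∀ k ∈ fixingSubgroup G X, ((k • B) ∩ (g • Γ)).Nonempty → k • B ⊆ g • Γ := by
      intro k hk hne
      rcases hdich g hg k hk hne with h | h
      · exact h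
      · by_contra hns
        exact hcon k hk ⟨h, hns⟩
    obtain ⟨y₀, hy₀B, hy₀T⟩ := hne₀
    have hΓne : Γ.Nonempty := by
      obtain ⟨a, ha, _⟩ := hy₀T
      exact ⟨a, ha⟩
    obtain ⟨a, ha⟩ := hΓne
    have hxT : g • a ∈ g • Γ := Set.smul_mem_smul_set ha
    have hxX : g • a ∈ Xᶜ := fun h => (Set.disjoint_left.mp hg hxT h)
    have hy₀X : y₀ ∈ Xᶜ := fun h => (Set.disjoint_left.mp hg₀ hy₀T h)
    obtain ⟨k₁, hk₁, hk₁x⟩ := htr y₀ hy₀X (g • a) hxX
    have hmeet : (((k₁ * k₀) • B) ∩ (g • Γ)).Nonempty := by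
      refine ⟨g • a, ?_, hxT⟩
      rw [← hk₁x, mul_smul]
      exact Set.smul_mem_smul_set hy₀B
    have hsub : (k₁ * k₀) • B ⊆ g • Γ := hTA _ (mul_mem hk₁ hk₀) hmeet
    have hss : k₁ • (g₀ • Γ) ⊆ g • Γ := by
      refine subset_trans ?_ hsub
      rw [mul_smul]
      exact Set.smul_set_mono hsub₀
    have hcard1 : (k₁ • (g₀ • Γ)).ncard = Γ.ncard := by
      rw [Set.ncard_smul_set, Set.ncard_smul_set]
    have hcard2 : (g • Γ).ncard = Γ.ncard := Set.ncard_smul_set _ _
    have heq : k₁ • (g₀ • Γ) = g • Γ :=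
      Set.eq_of_subset_of_ncard_le hss (by rw [hcard1, hcard2]) (Set.toFinite _)
    apply hnsub₀
    have h3 : (k₁ * k₀) • B ⊆ k₁ • (g₀ • Γ) := heq ▸ hsub
    rw [mul_smul] at h3
    exact Set.smul_set_subset_smul_set_iff.mp h3

end Cfsg.Agent.Lib.Helper22.Marg
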