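import Cfsg.Agent.Lib.Helper71.MargDefs

/-!
# Marggraf's theorem (S3620), MODULE TB: type B is impossible

`typeB_false` is stated exactly as in helper71's module list (board #2145).
-/

set_option linter.unusedVariables false

namespace Cfsg.Agent.Lib.Helper22.Marg

open MulAction Cfsg.Agent.Lib.Helper71.Marg
open scoped Pointwise

variable {G Ω : Type*} [Group G] [MulAction G Ω]

/-- EXCHANGE: in a family `TT` of sets invariant under a group `K'` whose point stabilisers are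
transitive on the remaining points of `S`, "every member through `a, b` contains `c`" implies
"every member through `a, c` contains `b`". -/
theorem exchange_of_transOn [Finite Ω] (K' : Subgroup G) (S : Set Ω)
    (h2t : ∀ y ∈ S, TransOn (K' ⊓ stabilizer G y) (S \ {y}))
    (TT : Set (Set Ω)) (hTTinv : ∀ k ∈ K', ∀ T ∈ TT, k • T ∈ TT)
    {a b c : Ω} (ha : a ∈ S) (hb : b ∈ S) (hc : c ∈ S) (hab : b ≠ a) (hac : c ≠ a)
    (h : ∀ T ∈ TT, a ∈ T → b ∈ T → c ∈ T) :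
    ∀ T ∈ TT, a ∈ T → c ∈ T → b ∈ T := by
  classical
  obtain ⟨k, hk, hkb⟩ := h2t a ha b ⟨hb, by simpa using hab⟩ c ⟨hc, by simpa using hac⟩
  have hkK : k ∈ K' := hk.1
  have hka : k • a = a := hk.2
  have hkinv : k⁻¹ ∈ K' := inv_mem hkK
  have hkinva : k⁻¹ • a = a := by rw [inv_smul_eq_iff, hka]
  have hkinvc : k⁻¹ • c = b := by rw [inv_smul_eq_iff, hkb]
  set A : Set (Set Ω) := {T | T ∈ TT ∧ a ∈ T ∧ b ∈ T} with hA
  set C : Set (Set Ω) := {T | T ∈ TT ∧ a ∈ T ∧ c ∈ T} with hC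
  have hAC : A ⊆ C := fun T hT => ⟨hT.1, hT.2.1, h T hT.1 hT.2.1 hT.2.2⟩
  have hCA : C.ncard ≤ A.ncard := by
    refine Set.ncard_le_ncard_of_injOn (fun T => k⁻¹ • T) ?_ ?_ (Set.toFinite _)
    · intro T hT
      refine ⟨hTTinv _ hkinv T hT.1, ?_, ?_⟩
      · rw [← hkinva]; exact Set.smul_mem_smul_set hT.2.1
      · rw [← hkinvc]; exact Set.smul_mem_smul_set hT.2.2
    · intro T₁ _ T₂ _ h12
      exact smul_left_cancel _ h12
  have hEq : A = C := Set.eq_of_subset_of_ncard_le hAC hCA (Set.toFinite _)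
  intro T hT haT hcT
  have : T ∈ A := hEq ▸ (⟨hT, haT, hcT⟩ : T ∈ C)
  exact this.2.2

/-- MODULE TB: type B is impossible. -/
theorem typeB_false [Finite Ω] (K' : Subgroup G) (S : Set Ω)
    (hS : ∀ k ∈ K', ∀ x ∈ S, k • x ∈ S)
    (htr : TransOn K' S)
    (h2t : ∀ y ∈ S, TransOn (K' ⊓ stabilizer G y) (S \ {y}))
    (TT : Set (Set Ω)) (hTTinv : ∀ k ∈ K', ∀ T ∈ TT, k • T ∈ TT) (hTTS : ∀ T ∈ TT, T ⊆ S)
    (hTTne : TT.Nonempty) (m : ℕ) (hTTcard : ∀ T ∈ TT, T.ncard = m) (hm2 : 2 ≤ m)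
    (hmS : m < S.ncard)
    (ω : Ω) (hω : ω ∈ S) (b : Set Ω) (hbS : b ⊆ S \ {ω}) (hbne : b ≠ S \ {ω}) (hbn : b.Nonempty)
    (hB : ∀ T ∈ TT, ω ∉ T → ∃ k ∈ K' ⊓ stabilizer G ω, T ⊆ k • b)
    (hbl : IsBlock (↥(K' ⊓ stabilizer G ω)) b) : False := by
  classical
  -- (1) any two distinct points of `S` lie in a common member of `TT`
  have hpair : ∀ p ∈ S, ∀ q ∈ S, q ≠ p → ∃ T ∈ TT, p ∈ T ∧ q ∈ T := by
    intro p hp q hq hqp
    obtain ⟨T₁, hT₁⟩ := hTTne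
    have h1 : 1 < T₁.ncard := by rw [hTTcard T₁ hT₁]; omega
    obtain ⟨u, v, hu, hv, huv⟩ := (Set.one_lt_ncard_iff (Set.toFinite _)).mp h1
    obtain ⟨k₁, hk₁, hk₁u⟩ := htr u (hTTS T₁ hT₁ hu) p hp
    have hk₁v : k₁ • v ∈ S \ {p} := by
      refine ⟨hS k₁ hk₁ v (hTTS T₁ hT₁ hv), ?_⟩
      simp only [Set.mem_singleton_iff]
      intro h
      apply huv
      rw [← hk₁u] at h
      exact (smul_left_cancel k₁ h).symm
    obtain ⟨k₂, hk₂, hk₂v⟩ := h2t p hp (k₁ • v) hk₁v q ⟨hq, by simpa using hqp⟩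
    refine ⟨(k₂ * k₁) • T₁, hTTinv _ (mul_mem hk₂.1 hk₁) T₁ hT₁, ?_, ?_⟩
    · have : (k₂ * k₁) • u = p := by
        rw [mul_smul, hk₁u]; exact hk₂.2
      rw [← this]; exact Set.smul_mem_smul_set hu
    · have : (k₂ * k₁) • v = q := by
        rw [mul_smul, hk₂v]
      rw [← this]; exact Set.smul_mem_smul_set hv
  -- (3) cover lemma
  have hcover : ∀ β ∈ b, ∀ γ ∈ S, γ ≠ ω → γ ≠ β →
      γ ∈ b ∨ (∀ T ∈ TT, β ∈ T → ω ∈ T → γ ∈ T) := by
    intro β hβ γ hγ hγω hγβ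
    have hβS : β ∈ S := (hbS hβ).1
    have hβω : β ≠ ω := by simpa using (hbS hβ).2
    by_cases hex : ∃ T ∈ TT, β ∈ T ∧ γ ∈ T ∧ ω ∉ T
    · left
      obtain ⟨T, hT, hβT, hγT, hωT⟩ := hex
      obtain ⟨k, hk, hTk⟩ := hB T hT hωT
      have hkb : k • b = b := by
        have := hbl.smul_eq_of_nonempty (g := ⟨k, hk⟩) ⟨β, hTk hβT, hβ⟩
        exact this
      rw [← hkb]; exact hTk hγT
    · right
      push Not at hex
      exact exchange_of_transOn K' S h2t TT hTTinv hβS hγ hω hγβ hβω.symm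
        (fun T hT hβT hγT => hex T hT hβT hγT)
  -- (4) some point is not forced
  have hfree : ∀ β ∈ b, ∃ γ ∈ S, γ ≠ ω ∧ γ ≠ β ∧ ¬ (∀ T ∈ TT, β ∈ T → ω ∈ T → γ ∈ T) := by
    intro β hβ
    have hβS : β ∈ S := (hbS hβ).1
    have hβω : β ≠ ω := by simpa using (hbS hβ).2
    obtain ⟨T₂, hT₂, hβT₂, hωT₂⟩ := hpair β hβS ω hω hβω.symm
    by_contra hcon
    push Not at hcon
    have hST : S ⊆ T₂ := by
      intro γ hγ
      by_cases h1 : γ = ω
      · rw [h1]; exact hωT₂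
      by_cases h2 : γ = β
      · rw [h2]; exact hβT₂
      exact hcon γ hγ h1 h2 T₂ hT₂ hβT₂ hωT₂
    have := Set.ncard_le_ncard hST (Set.toFinite _)
    rw [hTTcard T₂ hT₂] at this
    omega
  obtain ⟨β, hβ⟩ := hbn
  have hβS : β ∈ S := (hbS hβ).1
  have hβω : β ≠ ω := by simpa using (hbS hβ).2
  obtain ⟨γ₀, hγ₀S, hγ₀ω, hγ₀β, hγ₀⟩ := hfree β hβ
  have hγ₀b : γ₀ ∈ b := (hcover β hβ γ₀ hγ₀S hγ₀ω hγ₀β).resolve_right hγ₀
  -- (6) every other point is in `b`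
  have hall : ∀ δ ∈ S, δ ≠ ω → δ ∈ b := by
    intro δ hδ hδω
    by_cases h1 : δ = β
    · rw [h1]; exact hβ
    by_cases h2 : δ = γ₀
    · rw [h2]; exact hγ₀b
    rcases hcover β hβ δ hδ hδω h1 with h | hP1
    · exact h
    rcases hcover γ₀ hγ₀b δ hδ hδω h2 with h | hP2
    · exact h
    exfalso
    apply hγ₀
    -- every member through ω, δ contains β
    have hE1 : ∀ T ∈ TT, ω ∈ T → δ ∈ T → β ∈ T :=
      exchange_of_transOn K' S h2t TT hTTinv hω hβS hδ hβω hδω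
        (fun T hT hωT hβT => hP1 T hT hβT hωT)
    -- every member through ω, γ₀ contains β
    have hE2 : ∀ T ∈ TT, ω ∈ T → γ₀ ∈ T → β ∈ T :=
      fun T hT hωT hγT => hE1 T hT hωT (hP2 T hT hγT hωT)
    have hE3 : ∀ T ∈ TT, ω ∈ T → β ∈ T → γ₀ ∈ T :=
      exchange_of_transOn K' S h2t TT hTTinv hω hγ₀S hβS hγ₀ω hβω hE2
    exact fun T hT hβT hωT => hE3 T hT hωT hβT
  apply hbne
  apply Set.Subset.antisymm hbS
  intro δ hδ
  exact hall δ hδ.1 (by simpa using hδ.2)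

end Cfsg.Agent.Lib.Helper22.Marg
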