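/-
helper22 shared library: the maximal component lemma (S1305) derived from `L_{2'}`-balance (the literal statement
of S1301, as hypothesis `LBalance`). Main result: `maximal_component_of`.
All declarations live in `Cfsg.Agent.Lib.Helper22.MaxComp`.
-/
import Mathlib
import Cfsg.Prelude.Def_Local
import Cfsg.Prelude.Def_CaseTheorems
import Cfsg.Prelude.Def_Balance
import Cfsg.Agent.Lib.Helper22.MaxComp
import Cfsg.Agent.Lib.Helper22.ComponentsMap
import Cfsg.Agent.Lib.Helper22.PPrimeCore
import Cfsg.Agent.S1276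

set_option autoImplicit false
set_option linter.style.haveILetI false

namespace Cfsg.Agent.Lib.Helper22.MaxComp

open Cfsg Cfsg.Agent.Lib.Helper22
open scoped commutatorElement Pointwise

universe u

section General

variable {Y : Type*} [Group Y] [Finite Y]

/-- a component of order divisible by `p` is a `p`-component -/
theorem isPComponent_of_isComponent_of_dvd (p : ℕ) [Fact p.Prime] {K : Subgroup Y}
    (hK : IsComponent K) (hp : p ∣ Nat.card K) : IsPComponent p K := by
  set π := QuotientGroup.mk' (pPrimeCore p Y) with hπ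
  have hsurj : Function.Surjective π := QuotientGroup.mk'_surjective _
  have hnb : K.map π ≠ ⊥ := by
    intro h
    have hle : K ≤ pPrimeCore p Y := by
      intro x hx
      have : π x ∈ K.map π := ⟨x, hx, rfl⟩
      rw [h, Subgroup.mem_bot] at this
      exact (QuotientGroup.eq_one_iff x).mp this
    have hc : (Nat.card (pPrimeCore p Y)).Coprime p := pPrimeCore_card_coprime p
    have hd : p ∣ Nat.card (pPrimeCore p Y) := hp.trans (Subgroup.card_dvd_of_le hle)
    have : p ∣ 1 := by
      have := Nat.dvd_gcd hd (dvd_refl p)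
      rwa [hc] at this
    exact (Fact.out : p.Prime).one_lt.ne' (Nat.dvd_one.mp this)
  have hcomp : IsComponent (K.map π) := by
    rcases component_map_of_surjective hK hsurj with h | h
    · exact absurd h hnb
    · exact h
  refine ⟨hK.1, hcomp, ?_⟩
  intro H hH hHK hmap
  have hsn : (H.subgroupOf K).IsSubnormal := hH.subgroupOf
  rcases quasisimple_subnormal_le_center_or_eq_top hK.2 hsn with h | h
  · exfalso
    -- `H` is abelian
    have hHab : ⁅H, H⁆ = ⊥ := by
      rw [Subgroup.commutator_eq_bot_iff_le_centralizer]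
      intro x hx y hy
      have hx' : (⟨x, hHK hx⟩ : K) ∈ Subgroup.center K := h (show (⟨x, hHK hx⟩ : K) ∈ H.subgroupOf K from hx)
      have := Subgroup.mem_center_iff.mp hx' ⟨y, hHK hy⟩
      exact congrArg Subtype.val this
    have h1 : ⁅H.map π, H.map π⁆ = ⊥ := by
      rw [← Subgroup.map_commutator, hHab, Subgroup.map_bot]
    rw [hmap, component_commutator_self hcomp] at h1
    exact hnb h1
  · apply le_antisymm hHK
    intro x hx
    have : (⟨x, hx⟩ : K) ∈ H.subgroupOf K := by rw [h]; trivial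
    exact this

/-- if `[L_{2'}(Y), O(Y)] = 1` then every 2-component is a component -/
theorem pLayer_le_layer_of_commutator_eq_bot (h : ⁅pLayer 2 Y, oddCore Y⁆ = ⊥) :
    pLayer 2 Y ≤ layer Y := by
  haveI : Fact (Nat.Prime 2) := ⟨Nat.prime_two⟩
  apply sSup_le
  intro Kp hKp
  have hq : IsQuasisimple ↥Kp := by
    rw [Cfsg.Agent.S1276.result Kp hKp, eq_bot_iff, ← h]
    exact Subgroup.commutator_mono (pComponent_le_pLayer 2 hKp)
      (pPrimeCore_map_subtype_le_of_isSubnormal 2 hKp.1)
  exact component_le_layer ⟨hKp.1, hq⟩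

end General

/-- **Consequence of `L_{2'}`-balance**: a component of even order of the centralizer of an
involution lies in the layer, provided `L_{2'}(X) ≤ E(X)`. -/
theorem le_layer_of_isComponent_centralizer {X : Type u} [Group X] [Finite X]
    (h1301 : ∀ T : Subgroup X, IsPGroup 2 ↥T →
      (pLayer 2 ↥(Subgroup.centralizer (T : Set X))).map (Subgroup.centralizer (T : Set X)).subtype
        ≤ pLayer 2 X)
    (hPL : pLayer 2 X ≤ layer X) {a : X} (ha : a * a = 1) {K : Subgroup X}
    (hKa : K ≤ Subgroup.centralizer ({a} : Set X))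
    (hKc : IsComponent (K.subgroupOf (Subgroup.centralizer ({a} : Set X))))
    (h2 : 2 ∣ Nat.card K) : K ≤ layer X := by
  haveI : Fact (Nat.Prime 2) := ⟨Nat.prime_two⟩
  set T : Subgroup X := Subgroup.zpowers a with hT
  have hTp : IsPGroup 2 ↥T := by
    rintro ⟨g, hg⟩
    obtain ⟨n, rfl⟩ := Subgroup.mem_zpowers_iff.mp hg
    refine ⟨1, Subtype.ext ?_⟩
    show (a ^ n) ^ (2 ^ 1) = 1
    rw [pow_one, ← zpow_natCast, ← zpow_mul, mul_comm, zpow_mul, zpow_natCast, pow_two, ha, one_zpow]
  have e : Subgroup.centralizer (T : Set X) = Subgroup.centralizer ({a} : Set X) := by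
    ext x
    rw [Subgroup.mem_centralizer_iff, Subgroup.mem_centralizer_iff]
    constructor
    · intro h y hy
      rw [Set.mem_singleton_iff.mp hy]
      exact h a (Subgroup.mem_zpowers a)
    · intro h t ht
      obtain ⟨n, rfl⟩ := Subgroup.mem_zpowers_iff.mp ht
      have hc : Commute a x := h a rfl
      exact (hc.zpow_left n).eq
  have hKa' : K ≤ Subgroup.centralizer (T : Set X) := e.symm ▸ hKa
  have hKc' : IsComponent (K.subgroupOf (Subgroup.centralizer (T : Set X))) := e.symm ▸ hKc
  have hcard : Nat.card (K.subgroupOf (Subgroup.centralizer (T : Set X))) = Nat.card K :=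
    Nat.card_congr (Subgroup.subgroupOfEquivOfLe hKa').toEquiv
  have hpc : IsPComponent 2 (K.subgroupOf (Subgroup.centralizer (T : Set X))) :=
    isPComponent_of_isComponent_of_dvd 2 hKc' (hcard ▸ h2)
  have h3 := Subgroup.map_mono (f := (Subgroup.centralizer (T : Set X)).subtype)
    (pComponent_le_pLayer 2 hpc)
  rw [Subgroup.map_subgroupOf_eq_of_le hKa'] at h3
  exact (h3.trans (h1301 T hTp)).trans hPL

/-- `L_{2'}`-balance, as a hypothesis (the literal statement S1301 at universe `u`). -/
def LBalance : Prop :=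
  ∀ (X : Type u) [Group X] [Finite X] (T : Subgroup X), IsPGroup 2 ↥T →
    (pLayer 2 ↥(Subgroup.centralizer (T : Set X))).map (Subgroup.centralizer (T : Set X)).subtype
      ≤ pLayer 2 X

/-- **The maximal component lemma** (S1305), from `L_{2'}`-balance. -/
theorem maximal_component_of (h1301 : LBalance.{u}) {G : Type u} [Group G] [Finite G]
    (hO : oddCore G = ⊥) (hB : HasBProperty G) (a : G) (ha : orderOf a = 2) (K : Subgroup G)
    (hKa : K ≤ Subgroup.centralizer ({a} : Set G))
    (hK : IsComponent (K.subgroupOf (Subgroup.centralizer ({a} : Set G))))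
    (hmax : ∀ y : G, orderOf y = 2 → ∀ K' : Subgroup G, K' ≤ Subgroup.centralizer ({y} : Set G) →
      IsComponent (K'.subgroupOf (Subgroup.centralizer ({y} : Set G))) →
      Nat.card ↥K' ≤ Nat.card ↥K ∧ (Nat.card ↥K' = Nat.card ↥K → ∀ k : ℕ,
        PRankLE 2 k ↥(Subgroup.centralizer ({a} : Set G) ⊓ Subgroup.centralizer (K : Set G)) →
        PRankLE 2 k ↥(Subgroup.centralizer ({y} : Set G) ⊓ Subgroup.centralizer (K' : Set G))))
    (hrk : ¬ PRankLE 2 1 ↥K) (B : Subgroup G)
    (hBle : B ≤ Subgroup.centralizer ({a} : Set G) ⊓ Subgroup.centralizer (K : Set G))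
    (hBel : IsElementaryAbelian 2 B)
    (hBmax : ∀ B' : Subgroup G,
      B' ≤ Subgroup.centralizer ({a} : Set G) ⊓ Subgroup.centralizer (K : Set G) →
      IsElementaryAbelian 2 B' → Nat.card ↥B' ≤ Nat.card ↥B)
    (b : G) (hb : b ∈ B) (hb1 : b ≠ 1) :
    K ≤ Subgroup.centralizer ({b} : Set G) ∧
      IsComponent (K.subgroupOf (Subgroup.centralizer ({b} : Set G))) := by
  haveI : Fact (Nat.Prime 2) := ⟨Nat.prime_two⟩
  have hmemC : ∀ (g x : G), x ∈ Subgroup.centralizer ({g} : Set G) ↔ g * x = x * g := by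
    intro g x
    rw [Subgroup.mem_centralizer_iff]
    constructor
    · intro h; exact h g rfl
    · intro h y hy; rw [Set.mem_singleton_iff.mp hy]; exact h
  have haa : a * a = 1 := by rw [← pow_two, ← ha]; exact pow_orderOf_eq_one a
  have hBcomm : ∀ x ∈ B, ∀ y ∈ B, x * y = y * x := fun x hx y hy =>
    congrArg Subtype.val (hBel.1.is_comm.comm ⟨x, hx⟩ ⟨y, hy⟩)
  -- `a ∈ B`
  have haCa : a ∈ Subgroup.centralizer ({a} : Set G) := (hmemC a a).mpr rfl
  have haCK : a ∈ Subgroup.centralizer (K : Set G) := by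
    intro k hk
    exact ((hmemC a k).mp (hKa hk)).symm
  have haB : a ∈ B := by
    have hAel : IsElementaryAbelian 2 (Subgroup.zpowers a) := by
      refine ⟨⟨⟨?_⟩⟩, ?_⟩
      · rintro ⟨x, hx⟩ ⟨y, hy⟩
        obtain ⟨n, rfl⟩ := Subgroup.mem_zpowers_iff.mp hx
        obtain ⟨m, rfl⟩ := Subgroup.mem_zpowers_iff.mp hy
        apply Subtype.ext
        show a ^ n * a ^ m = a ^ m * a ^ n
        rw [← zpow_add, ← zpow_add, add_comm]
      · intro x hx
        obtain ⟨n, rfl⟩ := Subgroup.mem_zpowers_iff.mp hx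
        rw [← zpow_natCast, ← zpow_mul, mul_comm, zpow_mul, zpow_natCast, pow_two, haa, one_zpow]
    have hc : ∀ x ∈ B, ∀ y ∈ Subgroup.zpowers a, Commute x y := by
      intro x hx y hy
      obtain ⟨n, rfl⟩ := Subgroup.mem_zpowers_iff.mp hy
      have : Commute a x := (hmemC a x).mp (hBle hx).1
      exact (this.zpow_left n).symm
    have hel := isElementaryAbelian_sup hBel hAel hc
    have hle : B ⊔ Subgroup.zpowers a ≤
        Subgroup.centralizer ({a} : Set G) ⊓ Subgroup.centralizer (K : Set G) := by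
      apply sup_le hBle
      rw [Subgroup.zpowers_le]
      exact ⟨haCa, haCK⟩
    have hcard := hBmax _ hle hel
    have heq : B = B ⊔ Subgroup.zpowers a := Subgroup.eq_of_le_of_card_ge le_sup_left hcard
    rw [heq]
    exact (le_sup_right : Subgroup.zpowers a ≤ _) (Subgroup.mem_zpowers a)
  -- `b` is an involution commuting with `a`, centralizing `K`
  have hbb : b ^ 2 = 1 := hBel.2 b hb
  have hb2 : orderOf b = 2 := orderOf_eq_prime hbb hb1
  have hab : a * b = b * a := hBcomm a haB b hb
  set Cb : Subgroup G := Subgroup.centralizer ({b} : Set G) with hCb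
  have hKb : K ≤ Cb := by
    intro k hk
    rw [hCb, hmemC]
    exact ((hBle hb).2 k hk).symm
  have haCb : a ∈ Cb := by rw [hCb, hmemC]; exact hab.symm
  have hBCb : B ≤ Cb := by
    intro x hx; rw [hCb, hmemC]; exact hBcomm b hb x hx
  refine ⟨hKb, ?_⟩
  -- notation in `X = C_G(b)`
  set aX : Cb := ⟨a, haCb⟩ with haX
  have haaX : aX * aX = 1 := Subtype.ext haa
  have hmemCX : ∀ x : Cb, x ∈ Subgroup.centralizer ({aX} : Set Cb) ↔ a * x.1 = x.1 * a := by
    intro x
    rw [Subgroup.mem_centralizer_iff]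
    constructor
    · intro h; exact congrArg Subtype.val (h aX rfl)
    · intro h y hy; rw [Set.mem_singleton_iff.mp hy]; exact Subtype.ext h
  have hKXa : K.subgroupOf Cb ≤ Subgroup.centralizer ({aX} : Set Cb) := by
    intro x hx
    rw [hmemCX]
    exact (hmemC a x.1).mp (hKa hx)
  -- (c3)
  have hc3 : IsComponent ((K.subgroupOf Cb).subgroupOf (Subgroup.centralizer ({aX} : Set Cb))) := by
    let f : ↥(Subgroup.centralizer ({aX} : Set Cb)) →* ↥(Subgroup.centralizer ({a} : Set G)) :=
      MonoidHom.codRestrict (Cb.subtype.comp (Subgroup.centralizer ({aX} : Set Cb)).subtype) _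
        (fun x => (hmemC a _).mpr ((hmemCX x.1).mp x.2))
    have hcomap : (K.subgroupOf Cb).subgroupOf (Subgroup.centralizer ({aX} : Set Cb)) =
        (K.subgroupOf (Subgroup.centralizer ({a} : Set G))).comap f := by
      ext x
      rfl
    refine ⟨hcomap ▸ hK.1.comap f, ?_⟩
    have e1 := Subgroup.subgroupOfEquivOfLe hKXa
    have e2 := Subgroup.subgroupOfEquivOfLe hKb
    have e3 := Subgroup.subgroupOfEquivOfLe hKa
    exact Cfsg.Agent.Lib.Helper29.isQuasisimple_of_mulEquiv ((e3.trans e2.symm).trans e1.symm)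
      hK.2
  -- (c8) an elementary abelian subgroup of `K` of order `> 2`
  obtain ⟨A, hAc, hA2, hAcard⟩ : ∃ A : Subgroup ↥K, IsMulCommutative A ∧ (∀ x ∈ A, x ^ 2 = 1) ∧
      2 < Nat.card A := by
    unfold PRankLE at hrk
    push Not at hrk
    obtain ⟨A, h1, h2, h3⟩ := hrk
    exact ⟨A, h1, h2, by simpa using h3⟩
  have hAel : IsElementaryAbelian 2 A := ⟨hAc, hA2⟩
  have hcardKX : Nat.card (K.subgroupOf Cb) = Nat.card K :=
    Nat.card_congr (Subgroup.subgroupOfEquivOfLe hKb).toEquiv
  have h2K : 2 ∣ Nat.card K := by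
    have hnt : Nontrivial A := by
      rw [← Finite.one_lt_card_iff_nontrivial]; omega
    obtain ⟨x, hx⟩ := exists_ne (1 : A)
    have hx2 : x.1 ^ 2 = 1 := hA2 x.1 x.2
    have hx1 : x.1 ≠ 1 := fun h => hx (Subtype.ext h)
    have : orderOf x.1 = 2 := orderOf_eq_prime hx2 hx1
    rw [← this]
    exact orderOf_dvd_natCard _
  -- (c4)
  have hPL : pLayer 2 ↥Cb ≤ layer ↥Cb := by
    apply pLayer_le_layer_of_commutator_eq_bot
    have := hB b hb2
    rw [hO] at this
    exact (Subgroup.map_eq_bot_iff_of_injective _ Cb.subtype_injective).mp (le_bot_iff.mp this)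
  have hc4 : K.subgroupOf Cb ≤ layer ↥Cb :=
    le_layer_of_isComponent_centralizer (h1301 ↥Cb) hPL haaX hKXa hc3 (hcardKX ▸ h2K)
  -- components of `C_G(b)` seen in `G`
  have hcompG : ∀ L : Subgroup Cb, IsComponent L →
      L.map Cb.subtype ≤ Subgroup.centralizer ({b} : Set G) ∧
      IsComponent ((L.map Cb.subtype).subgroupOf (Subgroup.centralizer ({b} : Set G))) := by
    intro L hL
    refine ⟨Subgroup.map_subtype_le L, ?_⟩
    have : (L.map Cb.subtype).subgroupOf Cb = L := by
      rw [← Subgroup.comap_subtype, Subgroup.comap_map_eq_self_of_injective Cb.subtype_injective]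
    rw [show Subgroup.centralizer ({b} : Set G) = Cb from rfl, this]
    exact hL
  have hcardmap : ∀ L : Subgroup Cb, Nat.card (L.map Cb.subtype) = Nat.card L := fun L =>
    Subgroup.card_map_of_injective Cb.subtype_injective
  -- (c5)
  have hm1 : ∀ L : Subgroup Cb, IsComponent L → Nat.card L ≤ Nat.card (K.subgroupOf Cb) := by
    intro L hL
    obtain ⟨h1, h2⟩ := hcompG L hL
    have := (hmax b hb2 _ h1 h2).1
    rwa [hcardmap, ← hcardKX] at this
  -- (c6)
  have hBXa : B.subgroupOf Cb ≤ Subgroup.centralizer ({aX} : Set Cb) := by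
    intro x hx
    rw [hmemCX]
    exact (hmemC a x.1).mp (hBle hx).1
  have hBXK : B.subgroupOf Cb ≤ Subgroup.centralizer ((K.subgroupOf Cb : Subgroup Cb) : Set Cb) := by
    intro x hx k hk
    exact Subtype.ext ((hBle hx).2 k.1 hk)
  have hBXel : IsElementaryAbelian 2 (B.subgroupOf Cb) :=
    isElementaryAbelian_comap_of_injective Cb.subtype_injective hBel
  have haBX : aX ∈ B.subgroupOf Cb := haB
  have hcardBX : Nat.card (B.subgroupOf Cb) = Nat.card B :=
    Nat.card_congr (Subgroup.subgroupOfEquivOfLe hBCb).toEquiv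
  -- (c7)
  obtain ⟨k, hk⟩ : ∃ k : ℕ, Nat.card B = 2 ^ k := by
    have hp : IsPGroup 2 B := by
      intro x
      exact ⟨1, Subtype.ext (by simpa using hBel.2 x.1 x.2)⟩
    exact (IsPGroup.iff_card.mp hp)
  have hrankA : PRankLE 2 k
      ↥(Subgroup.centralizer ({a} : Set G) ⊓ Subgroup.centralizer (K : Set G)) := by
    intro A' hA'c hA'2
    have hel : IsElementaryAbelian 2 (A'.map (Subgroup.subtype _)) :=
      isElementaryAbelian_map _ ⟨hA'c, hA'2⟩
    have := hBmax _ (Subgroup.map_subtype_le A') hel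
    rwa [Subgroup.card_map_of_injective (Subgroup.subtype_injective _), hk] at this
  have hm2 : ∀ L : Subgroup Cb, IsComponent L → Nat.card L = Nat.card (K.subgroupOf Cb) →
      ∀ F : Subgroup Cb, F ≤ Subgroup.centralizer (L : Set Cb) →
      IsElementaryAbelian 2 F → Nat.card F ≤ Nat.card (B.subgroupOf Cb) := by
    intro L hL hcardL F hFL hFel
    obtain ⟨h1, h2⟩ := hcompG L hL
    have hr := (hmax b hb2 _ h1 h2).2 (by rw [hcardmap, hcardL, hcardKX]) k hrankA
    have hFle : F.map Cb.subtype ≤ Subgroup.centralizer ({b} : Set G) ⊓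
        Subgroup.centralizer ((L.map Cb.subtype : Subgroup G) : Set G) := by
      rintro _ ⟨x, hx, rfl⟩
      refine ⟨x.2, ?_⟩
      rintro _ ⟨l, hl, rfl⟩
      exact congrArg Subtype.val (hFL hx l hl)
    have hel : IsElementaryAbelian 2 ((F.map Cb.subtype).subgroupOf
        (Subgroup.centralizer ({b} : Set G) ⊓
          Subgroup.centralizer ((L.map Cb.subtype : Subgroup G) : Set G))) :=
      isElementaryAbelian_comap_of_injective (Subgroup.subtype_injective _)
        (isElementaryAbelian_map _ hFel)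
    have := hr _ hel.1 hel.2
    rw [Nat.card_congr (Subgroup.subgroupOfEquivOfLe hFle).toEquiv, hcardmap, ← hk,
      ← hcardBX] at this
    exact this
  -- (c8) continued
  set A0 : Subgroup Cb := (A.map K.subtype).subgroupOf Cb with hA0
  have hA0K : A0 ≤ K.subgroupOf Cb := by
    intro x hx
    obtain ⟨y, _, hy⟩ := hx
    have hxy : (x : G) = y.1 := hy.symm
    show x.1 ∈ K
    rw [hxy]; exact y.2
  have hA0el : IsElementaryAbelian 2 A0 :=
    isElementaryAbelian_comap_of_injective Cb.subtype_injective (isElementaryAbelian_map _ hAel)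
  have hA0card : 2 < Nat.card A0 := by
    have hle : A.map K.subtype ≤ Cb := (Subgroup.map_subtype_le A).trans hKb
    rw [hA0, Nat.card_congr (Subgroup.subgroupOfEquivOfLe hle).toEquiv,
      Subgroup.card_map_of_injective K.subtype_injective]
    exact hAcard
  exact isComponent_of_maximal haaX hKXa hc3 hc4 hm1 hBXa hBXK hBXel haBX hm2 hA0K hA0el hA0card

end Cfsg.Agent.Lib.Helper22.MaxComp


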