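/-
helper22, project OC (S2924): `O(C(y))`-API and balance into a 2-constrained centralizer
(the proof of `Cfsg.Agent.S1279.balance` with solvability replaced by `IsPConstrained`).
All declarations live in `Cfsg.Agent.Lib.Helper22.OC`.
-/
import Mathlib
import Cfsg.Prelude.Def_Local
import Cfsg.Prelude.Def_Balance
import Cfsg.Agent.Lib.Helper22.SolvableLocal

set_option autoImplicit false

namespace Cfsg.Agent.Lib.Helper22.OC

open Cfsg
open Cfsg.Agent.Lib.Helper22

theorem cpc_eq {G : Type*} [Group G] (p : ℕ) (a : G) :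
    centralizerPPrimeCore p a = Cfsg.Agent.Lib.Helper54.relK p (Subgroup.centralizer ({a} : Set G)) :=
  rfl

theorem cpc_le {G : Type*} [Group G] (p : ℕ) (a : G) :
    centralizerPPrimeCore p a ≤ Subgroup.centralizer ({a} : Set G) :=
  Subgroup.map_subtype_le _

theorem cpc_card {G : Type*} [Group G] [Finite G] (p : ℕ) (a : G) :
    (Nat.card (centralizerPPrimeCore p a)).Coprime p := by
  rw [cpc_eq]
  exact Cfsg.Agent.Lib.Helper54.card_relK_coprime p _

theorem cpc_normalizer {G : Type*} [Group G] (p : ℕ) (a : G) :
    Subgroup.centralizer ({a} : Set G) ≤ Subgroup.normalizer (centralizerPPrimeCore p a : Set G) := by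
  rw [cpc_eq]
  exact Cfsg.Agent.Lib.Helper54.le_normalizer_relK p _

theorem balance_of_constrained {G : Type*} [Group G] [Finite G] (p : ℕ) [Fact p.Prime] (a b : G)
    (hab : a * b = b * a) (hap : a ^ p = 1)
    (hconstr : IsPConstrained p ↥(Subgroup.centralizer ({b} : Set G))) :
    centralizerPPrimeCore p a ⊓ Subgroup.centralizer {b} ≤ centralizerPPrimeCore p b := by
  rintro x ⟨hxa, hxb⟩
  -- work in H = C_G(b)
  have haH : a ∈ Subgroup.centralizer ({b} : Set G) := by
    rw [Subgroup.mem_centralizer_iff]
    intro h hh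
    rw [Set.mem_singleton_iff] at hh
    subst hh
    exact hab.symm
  obtain ⟨H, hH⟩ : ∃ H : Subgroup G, H = Subgroup.centralizer ({b} : Set G) := ⟨_, rfl⟩
  have hmain : (⟨x, hxb⟩ : ↥(Subgroup.centralizer ({b} : Set G))) ∈
      pPrimeCore p ↥(Subgroup.centralizer ({b} : Set G)) := by
    have hTp : IsPGroup p (Subgroup.zpowers
        (⟨a, haH⟩ : ↥(Subgroup.centralizer ({b} : Set G)))) := by
      rw [IsPGroup]
      rintro ⟨t, ht⟩
      obtain ⟨k, rfl⟩ := Subgroup.mem_zpowers_iff.mp ht
      refine ⟨1, ?_⟩
      apply Subtype.ext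
      apply Subtype.ext
      simp only [pow_one, Subgroup.coe_pow, Subgroup.coe_zpow, Subgroup.coe_one]
      rw [← zpow_natCast, ← zpow_mul, mul_comm, zpow_mul, zpow_natCast, hap, one_zpow]
    -- the subgroup X = (θ a ⊓ H) inside H
    refine le_pPrimeCore_of_normal_centralizer p hconstr _ hTp
      ((centralizerPPrimeCore p a).subgroupOf (Subgroup.centralizer ({b} : Set G))) ?_ ?_ ?_ ?_
    · -- coprime card
      have h1 : Nat.card ((centralizerPPrimeCore p a).subgroupOf
          (Subgroup.centralizer ({b} : Set G))) ∣ Nat.card (centralizerPPrimeCore p a) :=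
        Subgroup.card_comap_dvd_of_injective _ _ (Subgroup.subtype_injective _)
      exact Nat.Coprime.coprime_dvd_left h1 (cpc_card p a)
    · -- X ≤ C(T)
      intro z hz
      rw [Subgroup.zpowers_eq_closure, Subgroup.centralizer_closure, Subgroup.mem_centralizer_iff]
      intro h hh
      rw [Set.mem_singleton_iff] at hh
      subst hh
      apply Subtype.ext
      simp only [Subgroup.coe_mul]
      have hz' : (z : G) ∈ Subgroup.centralizer ({a} : Set G) :=
        cpc_le p a (Subgroup.mem_subgroupOf.mp hz)
      exact (Subgroup.mem_centralizer_iff.mp hz') a rfl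
    · -- C(T) ≤ N(X)
      intro y hy
      rw [Subgroup.zpowers_eq_closure, Subgroup.centralizer_closure,
        Subgroup.mem_centralizer_iff] at hy
      have hy1 := hy ⟨a, haH⟩ rfl
      have hya : (y : G) ∈ Subgroup.centralizer ({a} : Set G) := by
        rw [Subgroup.mem_centralizer_iff]
        intro h hh
        rw [Set.mem_singleton_iff] at hh
        subst hh
        have := congrArg Subtype.val hy1
        simpa using this
      have hyn := cpc_normalizer p a hya
      rw [Subgroup.mem_normalizer_iff]
      intro h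
      rw [Subgroup.mem_subgroupOf, Subgroup.mem_subgroupOf]
      have := (Subgroup.mem_normalizer_iff.mp hyn) (h : G)
      simpa using this
    · exact Subgroup.mem_subgroupOf.mpr hxa
  exact ⟨⟨x, hxb⟩, hmain, rfl⟩

end Cfsg.Agent.Lib.Helper22.OC
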