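import Mathlib
import Cfsg.Agent.S0610
import Cfsg.Agent.S0611
import Cfsg.Agent.S0612
import Cfsg.Agent.S0615

/-!
# Best offenders in a faithful group with self-centralizing `p'`-core (helper22)

Common context for the Kurzweil–Stellmacher 9.3 chain (statements S0613–S0617):
conjugation invariance of best offenders, structure of a minimal best offender on `V`.
-/

set_option autoImplicit false
open Cfsg
open scoped commutatorElement Pointwise

namespace Cfsg.Agent.Lib.Helper22.Offender

open Cfsg.Agent.S0610 Cfsg.Agent.S0615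

variable {G : Type*} [Group G]

/-- The standing hypotheses on `V` and `H`. -/
structure Ctx (p : ℕ) (V H : Subgroup G) : Prop where
  hV : IsElementaryAbelian p V
  hHV : H ≤ Subgroup.normalizer (V : Set G)
  hf : H ⊓ Subgroup.centralizer (V : Set G) = ⊥
  hS1 : Subgroup.centralizer (pPrimeCore p ↥H : Set ↥H) ≤ pPrimeCore p ↥H
  hS3 : H = ⨆ A : {A : Subgroup G // A ≤ H ∧ IsBestOffenderOn p V A}, (A : Subgroup G)

/-- A minimal nontrivially-acting best offender. -/
def IsMinOff (p : ℕ) (V A : Subgroup G) : Prop :=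
  IsBestOffenderOn p V A ∧ ⁅V, A⁆ ≠ ⊥ ∧
    ∀ B : Subgroup G, B ≤ A → IsBestOffenderOn p V B → ⁅V, B⁆ ≠ ⊥ → B = A

/-! ### Conjugation -/

theorem map_conj_eq_smul (x : G) (A : Subgroup G) :
    A.map (MulAut.conj x).toMonoidHom = MulAut.conj x • A := rfl

theorem smul_centralizer (α : MulAut G) (S : Subgroup G) :
    α • Subgroup.centralizer (S : Set G) =
      Subgroup.centralizer ((α • S : Subgroup G) : Set G) := by
  ext g
  rw [Subgroup.mem_pointwise_smul_iff_inv_smul_mem, Subgroup.mem_centralizer_iff,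
    Subgroup.mem_centralizer_iff]
  constructor
  · intro h s hs
    rw [SetLike.mem_coe, Subgroup.mem_pointwise_smul_iff_inv_smul_mem] at hs
    have h1 := h _ hs
    have h2 := congrArg (fun y => α • y) h1
    simp only [smul_mul', smul_inv_smul] at h2
    exact h2
  · intro h s hs
    have hs' : α • s ∈ ((α • S : Subgroup G) : Set G) :=
      Subgroup.smul_mem_pointwise_smul_iff.mpr hs
    have h1 := h _ hs'
    have h2 := congrArg (fun y => α⁻¹ • y) h1
    simp only [smul_mul', inv_smul_smul] at h2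
    exact h2

theorem smul_inf_centralizer (α : MulAut G) (V B : Subgroup G) (hV : α • V = V) :
    α • (V ⊓ Subgroup.centralizer (B : Set G)) =
      V ⊓ Subgroup.centralizer ((α • B : Subgroup G) : Set G) := by
  rw [Subgroup.smul_inf, hV, smul_centralizer]

theorem smul_inv_eq {α : MulAut G} {V : Subgroup G} (hV : α • V = V) : α⁻¹ • V = V := by
  conv_lhs => rw [← hV]
  exact inv_smul_smul α V

theorem isBestOffenderOn_smul {p : ℕ} {V A : Subgroup G} (α : MulAut G) (hV : α • V = V)
    (hA : IsBestOffenderOn p V A) : IsBestOffenderOn p V (α • A) := by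
  obtain ⟨h1, h2, h3⟩ := hA
  have hCV : α • Subgroup.centralizer (V : Set G) = Subgroup.centralizer (V : Set G) := by
    rw [smul_centralizer, hV]
  refine ⟨?_, ?_, ?_⟩
  · intro B hB
    have hB' : α⁻¹ • B ≤ A := by
      rw [Subgroup.pointwise_smul_subset_iff, inv_inv]
      exact hB
    have := h1 _ hB'
    rw [← smul_inf_centralizer α V A hV, card_smul', card_smul']
    have e1 : Nat.card ↥(V ⊓ Subgroup.centralizer ((α⁻¹ • B : Subgroup G) : Set G)) =
        Nat.card ↥(V ⊓ Subgroup.centralizer (B : Set G)) := by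
      rw [← smul_inf_centralizer α⁻¹ V B (smul_inv_eq hV), card_smul']
    rw [card_smul', e1] at this
    exact this
  · rw [← smul_commutator', ← hCV]
    exact Subgroup.pointwise_smul_le_pointwise_smul_iff.mpr h2
  · intro a ha
    rw [Subgroup.mem_pointwise_smul_iff_inv_smul_mem] at ha
    have := h3 _ ha
    rw [← hCV, Subgroup.mem_pointwise_smul_iff_inv_smul_mem, smul_pow']
    exact this

theorem isMinOff_smul {p : ℕ} {V A : Subgroup G} (α : MulAut G) (hV : α • V = V)
    (hA : IsMinOff p V A) : IsMinOff p V (α • A) := by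
  obtain ⟨h1, h2, h3⟩ := hA
  refine ⟨isBestOffenderOn_smul α hV h1, ?_, ?_⟩
  · intro h
    apply h2
    have : α • ⁅V, A⁆ = ⊥ := by rw [smul_commutator', hV, h]
    rw [← inv_smul_smul α ⁅V, A⁆, this, Subgroup.smul_bot]
  · intro B hB hBo hBV
    have hB' : α⁻¹ • B ≤ A := by
      rw [Subgroup.pointwise_smul_subset_iff, inv_inv]
      exact hB
    have h4 := h3 _ hB' (isBestOffenderOn_smul α⁻¹ (smul_inv_eq hV) hBo) (by
      intro h
      apply hBV
      have : α⁻¹ • ⁅V, B⁆ = ⊥ := by rw [smul_commutator', smul_inv_eq hV, h]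
      rw [← smul_inv_smul α ⁅V, B⁆, this, Subgroup.smul_bot])
    rw [← smul_inv_smul α B, h4]

theorem conj_smul_V {V : Subgroup G} {h : G} (hh : h ∈ Subgroup.normalizer (V : Set G)) :
    MulAut.conj h • V = V :=
  Cfsg.Agent.Lib.Helper72.conj_smul_eq_of_mem_normalizer hh


/-! ### Groups of order `p` acting on groups of order `p` -/

theorem eq_of_le_of_card_prime [Finite G] {p : ℕ} [Fact p.Prime] {A B : Subgroup G}
    (hA : Nat.card A = p) (hB : Nat.card B = p) (h : A ⊓ B ≠ ⊥) : A = B := by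
  have hp : p.Prime := Fact.out
  have h1 : Nat.card ↥(A ⊓ B) = p := by
    have hd : Nat.card ↥(A ⊓ B) ∣ Nat.card A := Subgroup.card_dvd_of_le inf_le_left
    rw [hA] at hd
    rcases (Nat.dvd_prime hp).mp hd with h' | h'
    · exact absurd (Subgroup.card_eq_one.mp h') h
    · exact h'
  have h2 : A ⊓ B = A := Subgroup.eq_of_le_of_card_ge inf_le_left (by rw [h1, hA])
  have h3 : A ⊓ B = B := Subgroup.eq_of_le_of_card_ge inf_le_right (by rw [h1, hB])
  rw [← h2, h3]

theorem isMulCommutative_of_card_prime {X : Type*} [Group X] {p : ℕ} [Fact p.Prime]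
    (h : Nat.card X = p) : ∀ a b : X, a * b = b * a := by
  haveI : IsCyclic X := isCyclic_of_prime_card h
  intro a b
  exact (IsCyclic.commGroup (α := X)).mul_comm a b

/-- A group of order `p` normalizing a group of order `p` centralizes it. -/
theorem le_centralizer_of_card_prime [Finite G] {p : ℕ} [Fact p.Prime] {A U : Subgroup G}
    (hA : Nat.card A = p) (hU : Nat.card U = p) (hN : A ≤ Subgroup.normalizer (U : Set G)) :
    A ≤ Subgroup.centralizer (U : Set G) := by
  have hp : p.Prime := Fact.out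
  have hcomm : ∀ a b : ↥(A ⊔ U), a * b = b * a := by
    by_cases h : A ⊓ U = ⊥
    · have h1 := card_sup_mul_card_inf hN
      rw [h, Subgroup.card_bot, mul_one, hA, hU, ← sq] at h1
      exact (IsPGroup.isMulCommutative_of_card_eq_prime_sq h1).is_comm.comm
    · have h1 := eq_of_le_of_card_prime hA hU h
      have h2 : Nat.card ↥(A ⊔ U) = p := by rw [← h1, sup_idem, hA]
      exact isMulCommutative_of_card_prime h2
  intro a ha
  rw [Subgroup.mem_centralizer_iff]
  intro u hu
  have := hcomm ⟨u, (le_sup_right : U ≤ A ⊔ U) hu⟩ ⟨a, (le_sup_left : A ≤ A ⊔ U) ha⟩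
  exact congrArg Subtype.val this

/-! ### Basic consequences of the context -/

namespace Ctx

variable {p : ℕ} {V H : Subgroup G}

theorem hVc (c : Ctx p V H) : ∀ x ∈ V, ∀ y ∈ V, x * y = y * x := by
  intro x hx y hy
  exact congrArg Subtype.val (c.hV.1.is_comm.comm (⟨x, hx⟩ : ↥V) ⟨y, hy⟩)

theorem V_le_centralizer (c : Ctx p V H) : V ≤ Subgroup.centralizer (V : Set G) := by
  intro a ha
  rw [Subgroup.mem_centralizer_iff]
  intro b hb
  exact c.hVc b hb a ha

theorem H_inf_V (c : Ctx p V H) : H ⊓ V = ⊥ := by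
  rw [eq_bot_iff, ← c.hf]
  exact inf_le_inf_left _ c.V_le_centralizer

theorem norm_of_le_V (c : Ctx p V H) {A B : Subgroup G} (hA : A ≤ V) (hB : B ≤ V) :
    A ≤ Subgroup.normalizer (B : Set G) := by
  refine le_trans ?_ (Subgroup.centralizer_le_normalizer _)
  intro a ha
  rw [Subgroup.mem_centralizer_iff]
  intro b hb
  exact c.hVc b (hB hb) a (hA ha)

theorem conj_V (c : Ctx p V H) {h : G} (hh : h ∈ H) : MulAut.conj h • V = V :=
  conj_smul_V (c.hHV hh)

theorem comm_le_V (c : Ctx p V H) {X : Subgroup G} (hX : X ≤ H) : ⁅V, X⁆ ≤ V :=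
  commutator_le_of_le_normalizer (hX.trans c.hHV)

/-- Faithfulness: a subgroup of `H` centralizing `V` is trivial. -/
theorem eq_bot_of_comm_eq_bot (c : Ctx p V H) {X : Subgroup G} (hX : X ≤ H)
    (h : ⁅V, X⁆ = ⊥) : X = ⊥ := by
  rw [Subgroup.commutator_eq_bot_iff_le_centralizer] at h
  have h1 : X ≤ H ⊓ Subgroup.centralizer (V : Set G) :=
    le_inf hX (Subgroup.le_centralizer_iff.mp h)
  rwa [c.hf, le_bot_iff] at h1

theorem isPGroup_V [Fact p.Prime] (c : Ctx p V H) : IsPGroup p V :=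
  isPGroup_of_isElementaryAbelian c.hV

end Ctx

/-! ### Minimal offenders -/

section MinOff

variable [Finite G] {p : ℕ} [Fact p.Prime] {V H A : Subgroup G}

theorem IsMinOff.ne_bot (hA : IsMinOff p V A) : A ≠ ⊥ := by
  intro h
  apply hA.2.1
  rw [h, Subgroup.commutator_bot_right]

theorem IsMinOff.data (c : Ctx p V H) (hAH : A ≤ H) (hA : IsMinOff p V A) :
    Nat.card A = p ∧ Nat.card ↥(⁅V, A⁆) = p ∧
      (V ⊓ Subgroup.centralizer (A : Set G)).relIndex V = p := by
  have hH1 : H ≠ ⊥ := by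
    intro h
    apply hA.ne_bot
    rw [eq_bot_iff, ← h]
    exact hAH
  exact Cfsg.Agent.S0611.result V H c.hV c.hHV c.hf c.hS1 c.hS3 hH1 A hAH hA.1 hA.2.1 hA.2.2

theorem IsMinOff.card (c : Ctx p V H) (hAH : A ≤ H) (hA : IsMinOff p V A) : Nat.card A = p :=
  (hA.data c hAH).1

theorem IsMinOff.card_comm (c : Ctx p V H) (hAH : A ≤ H) (hA : IsMinOff p V A) :
    Nat.card ↥(⁅V, A⁆) = p := (hA.data c hAH).2.1

theorem IsMinOff.card_cent (c : Ctx p V H) (hAH : A ≤ H) (hA : IsMinOff p V A) :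
    Nat.card ↥(V ⊓ Subgroup.centralizer (A : Set G)) * p = Nat.card V := by
  have h1 := Cfsg.Agent.Lib.Helper54.card_mul_relIndex
    (inf_le_left : V ⊓ Subgroup.centralizer (A : Set G) ≤ V)
  rwa [(hA.data c hAH).2.2] at h1

/-- A minimal offender acts quadratically: `[V, A] ≤ C_V(A)`. -/
theorem IsMinOff.comm_le_cent (c : Ctx p V H) (hAH : A ≤ H) (hA : IsMinOff p V A) :
    ⁅V, A⁆ ≤ V ⊓ Subgroup.centralizer (A : Set G) := by
  refine le_inf (c.comm_le_V hAH) ?_
  have hN : A ≤ Subgroup.normalizer ((⁅V, A⁆ : Subgroup G) : Set G) :=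
    le_normalizer_commutator (hAH.trans c.hHV) Subgroup.le_normalizer
  exact Subgroup.le_centralizer_iff.mp
    (le_centralizer_of_card_prime (hA.card c hAH) (hA.card_comm c hAH) hN)

theorem IsMinOff.isPGroup (c : Ctx p V H) (hAH : A ≤ H) (hA : IsMinOff p V A) : IsPGroup p A :=
  IsPGroup.of_card (n := 1) (by rw [pow_one]; exact hA.card c hAH)

theorem IsMinOff.conj (c : Ctx p V H) (hA : IsMinOff p V A) {h : G} (hh : h ∈ H) :
    IsMinOff p V (MulAut.conj h • A) :=
  isMinOff_smul _ (c.conj_V hh) hA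

theorem conj_le_H {h : G} (hh : h ∈ H) (hAH : A ≤ H) : MulAut.conj h • A ≤ H :=
  Subgroup.conj_smul_le_of_le hAH ⟨h, hh⟩

/-- `A ∩ O_{p'}(H) = 1`. -/
theorem IsMinOff.inf_coreL (c : Ctx p V H) (hAH : A ≤ H) (hA : IsMinOff p V A) :
    A ⊓ coreL p H = ⊥ :=
  Cfsg.Agent.Lib.Helper97.inf_eq_bot_of_isPGroup_of_coprime (hA.isPGroup c hAH)
    (coreL_card_coprime p H)

/-- Some element of `O_{p'}(H)` does not centralize `A`. -/
theorem IsMinOff.exists_not_centralizing (c : Ctx p V H) (hAH : A ≤ H) (hA : IsMinOff p V A) :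
    ∃ x ∈ coreL p H, x ∉ Subgroup.centralizer (A : Set G) := by
  by_contra hcon
  push Not at hcon
  have h1 : coreL p H ≤ Subgroup.centralizer (A : Set G) := fun x hx => hcon x hx
  have h2 : A ≤ Subgroup.centralizer ((coreL p H : Subgroup G) : Set G) :=
    Subgroup.le_centralizer_iff.mp h1
  have h3 : A ≤ coreL p H := fun a ha => centralizer_coreL_le c.hS1 ⟨hAH ha, h2 ha⟩
  apply hA.ne_bot
  rw [eq_bot_iff, ← hA.inf_coreL c hAH]
  exact le_inf le_rfl h3

end MinOff

end Cfsg.Agent.Lib.Helper22.Offender
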