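import Mathlib
import Cfsg.Agent.Lib.Helper22.Offender1

/-!
# The pair `⟨A, A^x⟩` (helper22)

Consequences of the statement of S0613 (taken as a hypothesis `Pair613`): the plane
`W_x = [V, ⟨A, A^x⟩]`, fixed points, transitivity on lines, and the claim that all `L`-conjugates
of `[V, A]` lie in `W_x`.
-/

set_option autoImplicit false
open Cfsg
open scoped commutatorElement Pointwise

namespace Cfsg.Agent.Lib.Helper22.Offender

open Cfsg.Agent.S0610 Cfsg.Agent.S0615

variable {G : Type*} [Group G]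

/-- The statement of S0613, as a hypothesis. -/
def Pair613 (p : ℕ) (V H : Subgroup G) : Prop :=
  ∀ A : Subgroup G, A ≤ H → IsMinOff p V A → ∀ x ∈ coreL p H,
    x ∉ Subgroup.centralizer (A : Set G) →
      (p = 2 ∨ p = 3) ∧ Nat.card ↥(⁅V, A ⊔ MulAut.conj x • A⁆) = p ^ 2 ∧
        (A ⊔ MulAut.conj x • A) ⊓
          Subgroup.centralizer ((⁅V, A ⊔ MulAut.conj x • A⁆ : Subgroup G) : Set G) = ⊥ ∧
        Nonempty (↥(A ⊔ MulAut.conj x • A) ≃* Matrix.SpecialLinearGroup (Fin 2) (ZMod p))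

variable [Finite G] {p : ℕ} [Fact p.Prime] {V H A : Subgroup G}

theorem coreL_le_H {x : G} (hx : x ∈ coreL p H) : x ∈ H := coreL_le p H hx

/-- `[V, A^h] = [V, A]^h` for `h ∈ H`. -/
theorem comm_conj (c : Ctx p V H) {h : G} (hh : h ∈ H) (A : Subgroup G) :
    ⁅V, MulAut.conj h • A⁆ = MulAut.conj h • ⁅V, A⁆ := by
  rw [smul_commutator', c.conj_V hh]

/-- `[V, X ⊔ Y] = [V, X] ⊔ [V, Y]` for `X, Y ≤ H`. -/
theorem comm_sup (c : Ctx p V H) {X Y : Subgroup G} (hX : X ≤ H) (hY : Y ≤ H) :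
    ⁅V, X ⊔ Y⁆ = ⁅V, X⁆ ⊔ ⁅V, Y⁆ := by
  have hS : ⁅V, X⁆ ⊔ ⁅V, Y⁆ ≤ V := sup_le (c.comm_le_V hX) (c.comm_le_V hY)
  apply le_antisymm
  · apply commutator_le_of_le_sectKer
    refine sup_le (le_sectKer ?_ le_sup_left) (le_sectKer ?_ le_sup_right)
    · exact le_normalizer_of_commutator_le
        ((Subgroup.commutator_mono hS le_rfl).trans le_sup_left)
    · exact le_normalizer_of_commutator_le
        ((Subgroup.commutator_mono hS le_rfl).trans le_sup_right)
  · exact sup_le (Subgroup.commutator_mono le_rfl le_sup_left)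
      (Subgroup.commutator_mono le_rfl le_sup_right)

/-- If `W` is a plane containing `[V, A]` on which `A` acts nontrivially then `C_W(A) = [V, A]`. -/
theorem cent_plane (c : Ctx p V H) (hAH : A ≤ H) (hA : IsMinOff p V A) {W : Subgroup G}
    (hUW : ⁅V, A⁆ ≤ W) (hW : Nat.card W = p ^ 2)
    (hAW : ¬ A ≤ Subgroup.centralizer (W : Set G)) :
    W ⊓ Subgroup.centralizer (A : Set G) = ⁅V, A⁆ := by
  have hp : p.Prime := Fact.out
  have hle : ⁅V, A⁆ ≤ W ⊓ Subgroup.centralizer (A : Set G) :=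
    le_inf hUW ((hA.comm_le_cent c hAH).trans inf_le_right)
  symm
  apply Subgroup.eq_of_le_of_card_ge hle
  rw [hA.card_comm c hAH]
  have hd : Nat.card ↥(W ⊓ Subgroup.centralizer (A : Set G)) ∣ p ^ 2 := by
    rw [← hW]
    exact Subgroup.card_dvd_of_le inf_le_left
  obtain ⟨j, hj, hjeq⟩ := (Nat.dvd_prime_pow hp).mp hd
  have hj2 : j ≠ 2 := by
    intro h2
    rw [h2] at hjeq
    have : W ⊓ Subgroup.centralizer (A : Set G) = W :=
      Subgroup.eq_of_le_of_card_ge inf_le_left (by rw [hjeq, hW])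
    exact hAW (Subgroup.le_centralizer_iff.mp (this ▸ inf_le_right))
  have hj1 : j ≤ 1 := by omega
  rw [hjeq]
  calc p ^ j ≤ p ^ 1 := Nat.pow_le_pow_right hp.pos hj1
    _ = p := pow_one p

/-- Data attached to a pair `(A, x)`. -/
structure PairData (p : ℕ) (V H A : Subgroup G) (x : G) : Prop where
  hx : x ∈ coreL p H
  hp23 : p = 2 ∨ p = 3
  hcardW : Nat.card ↥(⁅V, A ⊔ MulAut.conj x • A⁆) = p ^ 2
  hfaith : (A ⊔ MulAut.conj x • A) ⊓
    Subgroup.centralizer ((⁅V, A ⊔ MulAut.conj x • A⁆ : Subgroup G) : Set G) = ⊥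
  hiso : Nonempty (↥(A ⊔ MulAut.conj x • A) ≃* Matrix.SpecialLinearGroup (Fin 2) (ZMod p))

theorem Pair613.data (h613 : Pair613 p V H) (hAH : A ≤ H) (hA : IsMinOff p V A) {x : G}
    (hx : x ∈ coreL p H) (hxA : x ∉ Subgroup.centralizer (A : Set G)) : PairData p V H A x := by
  obtain ⟨h1, h2, h3, h4⟩ := h613 A hAH hA x hx hxA
  exact ⟨hx, h1, h2, h3, h4⟩

namespace PairData

variable {x : G}

theorem hxH (d : PairData p V H A x) : x ∈ H := coreL_le p H d.hx

theorem conj_le (d : PairData p V H A x) (hAH : A ≤ H) : MulAut.conj x • A ≤ H :=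
  conj_le_H d.hxH hAH

theorem E_le (d : PairData p V H A x) (hAH : A ≤ H) : A ⊔ MulAut.conj x • A ≤ H :=
  sup_le hAH (d.conj_le hAH)

theorem W_eq (d : PairData p V H A x) (c : Ctx p V H) (hAH : A ≤ H) :
    ⁅V, A ⊔ MulAut.conj x • A⁆ = ⁅V, A⁆ ⊔ MulAut.conj x • ⁅V, A⁆ := by
  rw [comm_sup c hAH (d.conj_le hAH), comm_conj c d.hxH]

theorem W_le (d : PairData p V H A x) (c : Ctx p V H) (hAH : A ≤ H) :
    ⁅V, A ⊔ MulAut.conj x • A⁆ ≤ V := c.comm_le_V (d.E_le hAH)

theorem not_le_cent (d : PairData p V H A x) (hA : IsMinOff p V A) :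
    ¬ A ≤ Subgroup.centralizer ((⁅V, A ⊔ MulAut.conj x • A⁆ : Subgroup G) : Set G) := by
  intro h
  apply hA.ne_bot
  rw [eq_bot_iff, ← d.hfaith]
  exact le_inf le_sup_left h

theorem not_le_cent' (d : PairData p V H A x) (c : Ctx p V H) (hA : IsMinOff p V A) :
    ¬ MulAut.conj x • A ≤
      Subgroup.centralizer ((⁅V, A ⊔ MulAut.conj x • A⁆ : Subgroup G) : Set G) := by
  intro h
  apply (hA.conj c d.hxH).ne_bot
  rw [eq_bot_iff, ← d.hfaith]
  exact le_inf le_sup_right h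

/-- `C_W(A) = [V, A]`. -/
theorem cent_A (d : PairData p V H A x) (c : Ctx p V H) (hAH : A ≤ H) (hA : IsMinOff p V A) :
    ⁅V, A ⊔ MulAut.conj x • A⁆ ⊓ Subgroup.centralizer (A : Set G) = ⁅V, A⁆ :=
  cent_plane c hAH hA (Subgroup.commutator_mono le_rfl le_sup_left) d.hcardW (d.not_le_cent hA)

/-- `C_W(A^x) = [V, A]^x`. -/
theorem cent_Ax (d : PairData p V H A x) (c : Ctx p V H) (hAH : A ≤ H) (hA : IsMinOff p V A) :
    ⁅V, A ⊔ MulAut.conj x • A⁆ ⊓
        Subgroup.centralizer ((MulAut.conj x • A : Subgroup G) : Set G) =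
      MulAut.conj x • ⁅V, A⁆ := by
  rw [← comm_conj c d.hxH]
  exact cent_plane c (d.conj_le hAH) (hA.conj c d.hxH)
    (Subgroup.commutator_mono le_rfl le_sup_right) d.hcardW (d.not_le_cent' c hA)

/-- `[V, A] ∩ [V, A]^x = 1`. -/
theorem U_inf (d : PairData p V H A x) (c : Ctx p V H) (hAH : A ≤ H) (hA : IsMinOff p V A) :
    ⁅V, A⁆ ⊓ MulAut.conj x • ⁅V, A⁆ = ⊥ := by
  have hp : p.Prime := Fact.out
  have hUV : ⁅V, A⁆ ≤ V := c.comm_le_V hAH
  have hUxV : MulAut.conj x • ⁅V, A⁆ ≤ V := by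
    rw [← comm_conj c d.hxH]
    exact c.comm_le_V (d.conj_le hAH)
  have h1 := card_sup_mul_card_inf (c.norm_of_le_V hUV hUxV)
  rw [← d.W_eq c hAH, d.hcardW, card_smul', hA.card_comm c hAH] at h1
  have h2 : Nat.card ↥(⁅V, A⁆ ⊓ MulAut.conj x • ⁅V, A⁆) = 1 := by
    have hpos : 0 < p ^ 2 := pow_pos hp.pos 2
    have : p ^ 2 * Nat.card ↥(⁅V, A⁆ ⊓ MulAut.conj x • ⁅V, A⁆) = p ^ 2 * 1 := by
      rw [h1, mul_one, sq]
    exact Nat.eq_of_mul_eq_mul_left hpos this
  exact Subgroup.card_eq_one.mp h2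

/-- **(N)**: no nontrivial element of `W` is centralized by `⟨A, A^x⟩`. -/
theorem cent_E (d : PairData p V H A x) (c : Ctx p V H) (hAH : A ≤ H) (hA : IsMinOff p V A) :
    ⁅V, A ⊔ MulAut.conj x • A⁆ ⊓
      Subgroup.centralizer ((A ⊔ MulAut.conj x • A : Subgroup G) : Set G) = ⊥ := by
  have h1 : ⁅V, A ⊔ MulAut.conj x • A⁆ ⊓
      Subgroup.centralizer ((A ⊔ MulAut.conj x • A : Subgroup G) : Set G) ≤ ⁅V, A⁆ := by
    rw [← d.cent_A c hAH hA]
    exact inf_le_inf_left _ (Subgroup.centralizer_le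
      (by exact_mod_cast (le_sup_left : A ≤ A ⊔ MulAut.conj x • A)))
  have h2 : ⁅V, A ⊔ MulAut.conj x • A⁆ ⊓
      Subgroup.centralizer ((A ⊔ MulAut.conj x • A : Subgroup G) : Set G) ≤
      MulAut.conj x • ⁅V, A⁆ := by
    rw [← d.cent_Ax c hAH hA]
    exact inf_le_inf_left _ (Subgroup.centralizer_le
      (by exact_mod_cast (le_sup_right : MulAut.conj x • A ≤ A ⊔ MulAut.conj x • A)))
  rw [eq_bot_iff, ← d.U_inf c hAH hA]
  exact le_inf h1 h2


/-- **(T')**: every line of `W` other than `[V, A]^x` is an `A^x`-conjugate of `[V, A]`. -/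
theorem exists_conj_eq (d : PairData p V H A x) (c : Ctx p V H) (hAH : A ≤ H)
    (hA : IsMinOff p V A) {P : Subgroup G} (hPW : P ≤ ⁅V, A ⊔ MulAut.conj x • A⁆)
    (hP : Nat.card P = p) (hPne : P ≠ MulAut.conj x • ⁅V, A⁆) :
    ∃ b ∈ MulAut.conj x • A, P = MulAut.conj b • ⁅V, A⁆ := by
  have hp : p.Prime := Fact.out
  have hcU : Nat.card ↥(⁅V, A⁆) = p := hA.card_comm c hAH
  have hcUx : Nat.card ↥(MulAut.conj x • ⁅V, A⁆) = p := by rw [card_smul', hcU]
  have hcAx : Nat.card ↥(MulAut.conj x • A) = p := by rw [card_smul', hA.card c hAH]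
  have hWV := d.W_le c hAH
  have hUxW : MulAut.conj x • ⁅V, A⁆ ≤ ⁅V, A ⊔ MulAut.conj x • A⁆ := by
    rw [d.W_eq c hAH]; exact le_sup_right
  have hUW : ⁅V, A⁆ ≤ ⁅V, A ⊔ MulAut.conj x • A⁆ := by
    rw [d.W_eq c hAH]; exact le_sup_left
  have hPUx : P ⊓ MulAut.conj x • ⁅V, A⁆ = ⊥ := by
    by_contra hne
    exact hPne (eq_of_le_of_card_prime hP hcUx hne)
  have hsup : P ⊔ MulAut.conj x • ⁅V, A⁆ = ⁅V, A ⊔ MulAut.conj x • A⁆ := by
    apply Subgroup.eq_of_le_of_card_ge (sup_le hPW hUxW)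
    have h1 := card_sup_mul_card_inf (c.norm_of_le_V (hPW.trans hWV) (hUxW.trans hWV))
    rw [hPUx, Subgroup.card_bot, mul_one, hP, hcUx] at h1
    rw [h1, d.hcardW, sq]
  -- a nontrivial element of `[V, A]`
  have hUne : (⁅V, A⁆ : Subgroup G) ≠ ⊥ := by
    intro h
    rw [h, Subgroup.card_bot] at hcU
    exact hp.one_lt.ne hcU
  obtain ⟨⟨u, huU⟩, hu1'⟩ := Subgroup.ne_bot_iff_exists_ne_one.mp hUne
  have hu1 : u ≠ 1 := fun h => hu1' (Subtype.ext h)
  have huV : u ∈ V := c.comm_le_V hAH huU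
  have huW : u ∈ ((P ⊔ MulAut.conj x • ⁅V, A⁆ : Subgroup G) : Set G) := by
    rw [hsup]; exact hUW huU
  rw [Subgroup.coe_mul_of_left_le_normalizer_right _ _
    (c.norm_of_le_V (hPW.trans hWV) (hUxW.trans hWV))] at huW
  obtain ⟨w, hw, u'', hu'', hwu⟩ := huW
  simp only at hwu
  have hw1 : w ≠ 1 := by
    intro h
    rw [h, one_mul] at hwu
    have : u ∈ ⁅V, A⁆ ⊓ MulAut.conj x • ⁅V, A⁆ := Subgroup.mem_inf.mpr ⟨huU, hwu ▸ hu''⟩
    rw [d.U_inf c hAH hA] at this
    exact hu1 (Subgroup.mem_bot.mp this)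
  -- the commutator map `A^x → [V, A]^x`
  have hκmem : ∀ b ∈ MulAut.conj x • A, ⁅b, u⁆ ∈ MulAut.conj x • ⁅V, A⁆ := by
    intro b hb
    rw [← comm_conj c d.hxH]
    exact comm_mem_right huV hb
  let κ : ↥(MulAut.conj x • A) → ↥(MulAut.conj x • ⁅V, A⁆) := fun b => ⟨⁅(b : G), u⁆, hκmem b b.2⟩
  have hκinj : Function.Injective κ := by
    intro b b' hbb'
    have h1 : ⁅(b : G), u⁆ = ⁅(b' : G), u⁆ := congrArg Subtype.val hbb'
    by_contra hne
    set e : G := (b' : G)⁻¹ * (b : G) with he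
    have he1 : e ≠ 1 := by
      intro h
      apply hne
      apply Subtype.ext
      have : (b : G) = (b' : G) * e := by rw [he]; group
      rw [this, h, mul_one]
    have heA : e ∈ MulAut.conj x • A := Subgroup.mul_mem _ (Subgroup.inv_mem _ b'.2) b.2
    have heu : u * e = e * u := by
      rw [commutatorElement_def, commutatorElement_def] at h1
      have h2 : (b : G) * u * (b : G)⁻¹ = (b' : G) * u * (b' : G)⁻¹ := by
        have := congrArg (fun t => t * u) h1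
        simpa [mul_assoc] using this
      calc u * e = (b' : G)⁻¹ * ((b' : G) * u * (b' : G)⁻¹) * (b : G) := by rw [he]; group
        _ = (b' : G)⁻¹ * ((b : G) * u * (b : G)⁻¹) * (b : G) := by rw [h2]
        _ = e * u := by rw [he]; group
    -- then `A^x` centralizes `u`
    have hK : MulAut.conj x • A ⊓ Subgroup.centralizer ({u} : Set G) = MulAut.conj x • A := by
      apply Subgroup.eq_of_le_of_card_ge inf_le_left
      have hd : Nat.card ↥(MulAut.conj x • A ⊓ Subgroup.centralizer ({u} : Set G)) ∣ p := by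
        rw [← hcAx]; exact Subgroup.card_dvd_of_le inf_le_left
      rcases (Nat.dvd_prime hp).mp hd with h' | h'
      · exfalso
        have hbot := Subgroup.card_eq_one.mp h'
        have hmem : e ∈ MulAut.conj x • A ⊓ Subgroup.centralizer ({u} : Set G) := by
          refine Subgroup.mem_inf.mpr ⟨heA, ?_⟩
          rw [Subgroup.mem_centralizer_iff]
          intro t ht
          rw [Set.mem_singleton_iff] at ht
          rw [ht]; exact heu
        rw [hbot] at hmem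
        exact he1 (Subgroup.mem_bot.mp hmem)
      · rw [h', hcAx]
    have huC : u ∈ Subgroup.centralizer ((MulAut.conj x • A : Subgroup G) : Set G) := by
      rw [Subgroup.mem_centralizer_iff]
      intro t ht
      have ht' : t ∈ Subgroup.centralizer ({u} : Set G) := by
        have : t ∈ MulAut.conj x • A ⊓ Subgroup.centralizer ({u} : Set G) := by rw [hK]; exact ht
        exact (Subgroup.mem_inf.mp this).2
      rw [Subgroup.mem_centralizer_iff] at ht'
      exact (ht' u rfl).symm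
    have : u ∈ ⁅V, A⁆ ⊓ MulAut.conj x • ⁅V, A⁆ := by
      refine Subgroup.mem_inf.mpr ⟨huU, ?_⟩
      rw [← d.cent_Ax c hAH hA]
      exact Subgroup.mem_inf.mpr ⟨hUW huU, huC⟩
    rw [d.U_inf c hAH hA] at this
    exact hu1 (Subgroup.mem_bot.mp this)
  have hκbij : Function.Bijective κ :=
    hκinj.bijective_of_nat_card_le (by rw [hcUx, hcAx])
  obtain ⟨b, hb⟩ := hκbij.2 ⟨u''⁻¹, Subgroup.inv_mem _ hu''⟩
  have hb' : ⁅(b : G), u⁆ = u''⁻¹ := congrArg Subtype.val hb
  refine ⟨b, b.2, ?_⟩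
  have hu''V : u'' ∈ V := (hUxW.trans hWV) hu''
  have hwV : w ∈ V := (hPW.trans hWV) hw
  have hbu : (b : G) * u * (b : G)⁻¹ = w := by
    have h1 : (b : G) * u * (b : G)⁻¹ = ⁅(b : G), u⁆ * u := by
      rw [commutatorElement_def]; group
    rw [h1, hb', ← hwu]
    have := c.hVc w hwV u'' hu''V
    calc u''⁻¹ * (w * u'') = u''⁻¹ * (u'' * w) := by rw [this]
      _ = w := by group
  have hwb : w ∈ MulAut.conj (b : G) • ⁅V, A⁆ := by
    rw [← hbu]
    exact conj_mem_conj_smul huU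
  apply eq_of_le_of_card_prime hP (by rw [card_smul', hcU])
  intro hbot
  have : w ∈ P ⊓ MulAut.conj (b : G) • ⁅V, A⁆ := Subgroup.mem_inf.mpr ⟨hw, hwb⟩
  rw [hbot] at this
  exact hw1 (Subgroup.mem_bot.mp this)

end PairData


theorem le_normalizer_coreL' {h : G} (hh : h ∈ H) :
    h ∈ Subgroup.normalizer ((coreL p H : Subgroup G) : Set G) := le_normalizer_coreL p H hh

/-- `C_V(A)` has order at least `p` inside any plane. -/
theorem le_card_plane_inf_cent (c : Ctx p V H) (hAH : A ≤ H) (hA : IsMinOff p V A)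
    {W : Subgroup G} (hWV : W ≤ V) (hW : Nat.card W = p ^ 2) :
    p ≤ Nat.card ↥(W ⊓ Subgroup.centralizer (A : Set G)) := by
  have hp : p.Prime := Fact.out
  have h0 : W ⊓ (V ⊓ Subgroup.centralizer (A : Set G)) = W ⊓ Subgroup.centralizer (A : Set G) := by
    rw [← inf_assoc, inf_eq_left.mpr hWV]
  have h1 := card_sup_mul_card_inf (c.norm_of_le_V hWV
    (inf_le_left : V ⊓ Subgroup.centralizer (A : Set G) ≤ V))
  rw [h0, hW] at h1
  have h2 : Nat.card ↥(W ⊔ (V ⊓ Subgroup.centralizer (A : Set G))) ≤ Nat.card V :=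
    Subgroup.card_le_of_le (sup_le hWV inf_le_left)
  have h3 := hA.card_cent c hAH
  set n := Nat.card ↥(V ⊓ Subgroup.centralizer (A : Set G)) with hn
  set m := Nat.card ↥(W ⊓ Subgroup.centralizer (A : Set G)) with hm
  have hnpos : 0 < n := Nat.card_pos
  have h4 : p ^ 2 * n ≤ (n * p) * m := by
    rw [← h1, h3]
    exact Nat.mul_le_mul_right _ h2
  have h5 : (n * p) * p ≤ (n * p) * m := by
    calc (n * p) * p = p ^ 2 * n := by ring
      _ ≤ (n * p) * m := h4
  exact Nat.le_of_mul_le_mul_left h5 (Nat.mul_pos hnpos hp.pos)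

/-- **CLAIM**: all `L`-conjugates of `[V, A]` lie in the plane `W_x`. -/
theorem PairData.conj_U_le {x : G} (d : PairData p V H A x) (h613 : Pair613 p V H)
    (c : Ctx p V H) (hAH : A ≤ H) (hA : IsMinOff p V A) {y : G} (hy : y ∈ coreL p H) :
    MulAut.conj y • ⁅V, A⁆ ≤ ⁅V, A ⊔ MulAut.conj x • A⁆ := by
  have hp : p.Prime := Fact.out
  by_contra hcon
  have hyH : y ∈ H := coreL_le p H hy
  have hAyH : MulAut.conj y • A ≤ H := conj_le_H hyH hAH
  have hAy : IsMinOff p V (MulAut.conj y • A) := hA.conj c hyH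
  have hWV := d.W_le c hAH
  have hcU : Nat.card ↥(⁅V, A⁆) = p := hA.card_comm c hAH
  -- a line `P` of `W` centralized by `A^y`
  have hcard := le_card_plane_inf_cent c hAyH hAy hWV d.hcardW
  have hne : ⁅V, A ⊔ MulAut.conj x • A⁆ ⊓
      Subgroup.centralizer ((MulAut.conj y • A : Subgroup G) : Set G) ≠ ⊥ := by
    intro h
    rw [h, Subgroup.card_bot] at hcard
    have := hp.one_lt
    omega
  obtain ⟨⟨w, hwP₀⟩, hw1'⟩ := Subgroup.ne_bot_iff_exists_ne_one.mp hne
  have hw1 : w ≠ 1 := fun h => hw1' (Subtype.ext h)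
  obtain ⟨hwW, hwC⟩ := Subgroup.mem_inf.mp hwP₀
  have hwp : w ^ p = 1 := c.hV.2 w (hWV hwW)
  set P := Subgroup.zpowers w with hP
  have hPcard : Nat.card P = p := by rw [hP, Nat.card_zpowers, orderOf_eq_prime hwp hw1]
  have hPW : P ≤ ⁅V, A ⊔ MulAut.conj x • A⁆ := Subgroup.zpowers_le.mpr hwW
  have hPC : P ≤ Subgroup.centralizer ((MulAut.conj y • A : Subgroup G) : Set G) :=
    Subgroup.zpowers_le.mpr hwC
  -- `P = [V, A]^z` for some `z ∈ L`
  have hz : ∃ z ∈ coreL p H, MulAut.conj z • ⁅V, A⁆ = P := by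
    by_cases hPUx : P = MulAut.conj x • ⁅V, A⁆
    · exact ⟨x, d.hx, hPUx.symm⟩
    · obtain ⟨b, hb, hPb⟩ := d.exists_conj_eq c hAH hA hPW hPcard hPUx
      rw [mem_conj_smul] at hb
      set a₀ := x⁻¹ * b * x with ha₀
      have hbx : b = x * a₀ * x⁻¹ := by rw [ha₀]; group
      refine ⟨x * (a₀ * x⁻¹ * a₀⁻¹), ?_, ?_⟩
      · apply Subgroup.mul_mem _ d.hx
        exact (Subgroup.mem_normalizer_iff.mp (le_normalizer_coreL' (hAH hb)) x⁻¹).mp
          (Subgroup.inv_mem _ d.hx)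
      · rw [hPb]
        have h1 : x * (a₀ * x⁻¹ * a₀⁻¹) = b * a₀⁻¹ := by rw [hbx]; group
        rw [h1, map_mul, mul_smul]
        congr 1
        have hN : A ≤ Subgroup.normalizer ((⁅V, A⁆ : Subgroup G) : Set G) :=
          le_normalizer_commutator (hAH.trans c.hHV) Subgroup.le_normalizer
        exact conj_smul_V (hN (A.inv_mem hb))
  obtain ⟨z, hzL, hzP⟩ := hz
  have hzH : z ∈ H := coreL_le p H hzL
  set x' := z⁻¹ * y with hx'
  have hx'L : x' ∈ coreL p H := Subgroup.mul_mem _ (Subgroup.inv_mem _ hzL) hy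
  have hyzx : y = z * x' := by rw [hx']; group
  have hx'A : x' ∉ Subgroup.centralizer (A : Set G) := by
    intro hcen
    apply hcon
    have h1 : MulAut.conj x' • A = A :=
      conj_smul_V (Subgroup.centralizer_le_normalizer _ hcen)
    have h2 : MulAut.conj y • A = MulAut.conj z • A := by
      rw [hyzx, map_mul, mul_smul, h1]
    rw [← comm_conj c hyH, h2, comm_conj c hzH, hzP]
    exact hPW
  have d' := h613.data hAH hA hx'L hx'A
  have hU1 : ⁅V, A⁆ ≤ ⁅V, A ⊔ MulAut.conj x' • A⁆ := Subgroup.commutator_mono le_rfl le_sup_left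
  have hU2 : ⁅V, A⁆ ≤ Subgroup.centralizer ((A ⊔ MulAut.conj x' • A : Subgroup G) : Set G) := by
    rw [Subgroup.le_centralizer_iff]
    refine sup_le ?_ ?_
    · exact Subgroup.le_centralizer_iff.mp ((hA.comm_le_cent c hAH).trans inf_le_right)
    · have h1 : MulAut.conj y • A ≤ Subgroup.centralizer (P : Set G) :=
        Subgroup.le_centralizer_iff.mp hPC
      have h2 : MulAut.conj z⁻¹ • MulAut.conj y • A ≤
          MulAut.conj z⁻¹ • Subgroup.centralizer (P : Set G) :=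
        Subgroup.pointwise_smul_le_pointwise_smul_iff.mpr h1
      rw [smul_centralizer, ← hzP, ← mul_smul, ← map_mul, ← mul_smul, ← map_mul, inv_mul_cancel,
        map_one, one_smul] at h2
      exact h2
  have hbot := d'.cent_E c hAH hA
  have : ⁅V, A⁆ ≤ ⊥ := by
    rw [← hbot]
    exact le_inf hU1 hU2
  rw [le_bot_iff] at this
  rw [this, Subgroup.card_bot] at hcU
  exact hp.one_lt.ne hcU

end Cfsg.Agent.Lib.Helper22.Offender
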