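import Mathlib

/-!
# Groups generated by `p`-elements acting on a plane over `𝔽_p` (helper22)

A group acting on an elementary abelian group of order `p²` and generated by elements of
`p`-power order maps to `SL₂(𝔽_p)` with kernel the kernel of the action.
-/

set_option autoImplicit false
set_option linter.unusedSectionVars false
set_option linter.style.haveILetI false

namespace Cfsg.Agent.Lib.Helper22.Offender

open Matrix

/-- Type-level version. -/
theorem exists_hom_SL {p : ℕ} [Fact p.Prime] {E W : Type*} [Group E] [CommGroup W] [Finite W]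
    (hexp : ∀ w : W, w ^ p = 1) (hcard : Nat.card W = p ^ 2) (ρ : E →* MulAut W) (S : Set E)
    (hgen : Subgroup.closure S = ⊤) (hS : ∀ g ∈ S, ∃ k : ℕ, g ^ (p ^ k) = 1) :
    ∃ φ : E →* Matrix.SpecialLinearGroup (Fin 2) (ZMod p), φ.ker = ρ.ker := by
  have hpp : p.Prime := Fact.out
  obtain ⟨inst⟩ : Nonempty (Module (ZMod p) (Additive W)) := ⟨AddCommGroup.zmodModule (n := p) (by
    intro x
    show Additive.ofMul (x.toMul ^ p) = 0
    rw [hexp]; rfl)⟩
  have key : ∀ (e : E) (v : Additive W),
      ((MonoidHom.toAdditive (ρ e).toMonoidHom).toZModLinearMap p :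
        Additive W →ₗ[ZMod p] Additive W) v
        = Additive.ofMul (ρ e v.toMul) := fun _ _ => rfl
  let L : E →* Module.End (ZMod p) (Additive W) :=
    { toFun := fun e => (MonoidHom.toAdditive (ρ e).toMonoidHom).toZModLinearMap p
      map_one' := by
        apply LinearMap.ext
        intro v
        rw [key, map_one]; rfl
      map_mul' := fun e f => by
        apply LinearMap.ext
        intro v
        rw [key, map_mul, Module.End.mul_apply, key, key]; rfl }
  have hL : ∀ (e : E) (w : W), L e (Additive.ofMul w) = Additive.ofMul (ρ e w) := fun _ _ => rfl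
  have hfr : Module.finrank (ZMod p) (Additive W) = 2 := by
    have h3 := Module.natCard_eq_pow_finrank (K := ZMod p) (V := Additive W)
    rw [Nat.card_zmod] at h3
    have h4 : Nat.card (Additive W) = p ^ 2 := hcard
    rw [h4] at h3
    exact (Nat.pow_right_injective hpp.two_le h3).symm
  let B : Module.Basis (Fin 2) (ZMod p) (Additive W) := Module.finBasisOfFinrankEq (ZMod p) _ hfr
  let ψ : E →* Matrix (Fin 2) (Fin 2) (ZMod p) :=
    { toFun := fun e => LinearMap.toMatrix B B (L e)
      map_one' := by rw [map_one, LinearMap.toMatrix_one]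
      map_mul' := fun x y => by rw [map_mul, LinearMap.toMatrix_mul] }
  have hψ : ∀ e, ψ e = LinearMap.toMatrix B B (L e) := fun _ => rfl
  have hdet : ∀ e : E, (ψ e).det = 1 := by
    intro e
    have he : e ∈ Subgroup.closure S := by rw [hgen]; trivial
    induction he using Subgroup.closure_induction with
    | mem x hx =>
      obtain ⟨k, hk⟩ := hS x hx
      have h1 : (ψ x).det ^ (p ^ k) = 1 := by
        rw [← Matrix.det_pow, ← map_pow, hk, map_one, Matrix.det_one]
      rwa [ZMod.pow_card_pow] at h1
    | one => rw [map_one, Matrix.det_one]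
    | mul x y _ _ hx hy => rw [map_mul, Matrix.det_mul, hx, hy, one_mul]
    | inv x _ hx =>
      have h1 : ψ x⁻¹ * ψ x = 1 := by rw [← map_mul, inv_mul_cancel, map_one]
      have h2 := congrArg Matrix.det h1
      rw [Matrix.det_mul, hx, mul_one, Matrix.det_one] at h2
      exact h2
  let φ₀ : E →* Matrix.SpecialLinearGroup (Fin 2) (ZMod p) :=
    { toFun := fun e => ⟨ψ e, hdet e⟩
      map_one' := by apply Subtype.ext; exact map_one ψ
      map_mul' := fun x y => by apply Subtype.ext; exact map_mul ψ x y }
  refine ⟨φ₀, ?_⟩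
  ext e
  rw [MonoidHom.mem_ker, MonoidHom.mem_ker]
  constructor
  · intro he
    have h1 : ψ e = 1 := congrArg Subtype.val he
    rw [hψ, ← LinearMap.toMatrix_one B] at h1
    have h2 : L e = 1 := (LinearMap.toMatrix B B).injective h1
    ext w
    have := congrArg (fun g : Module.End (ZMod p) (Additive W) => g (Additive.ofMul w)) h2
    simp only [hL] at this
    exact this
  · intro he
    apply Subtype.ext
    show ψ e = 1
    rw [hψ, ← LinearMap.toMatrix_one B]
    congr 1
    apply LinearMap.ext
    intro v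
    show L e (Additive.ofMul v.toMul) = _
    rw [hL, he]
    rfl

/-- Subgroup version: a subgroup `X` of `N(W)` generated by `p`-elements has
`|X| ≤ |C_X(W)| · |SL₂(p)|`. -/
theorem card_le_card_cent_mul_card_SL {G : Type*} [Group G] [Finite G] {p : ℕ} [Fact p.Prime]
    {W X : Subgroup G} (hWc : ∀ a ∈ W, ∀ b ∈ W, a * b = b * a) (hWp : ∀ w ∈ W, w ^ p = 1)
    (hW : Nat.card W = p ^ 2) (hXW : X ≤ Subgroup.normalizer (W : Set G)) (S : Set G)
    (hS : X = Subgroup.closure S) (hSp : ∀ g ∈ S, ∃ k : ℕ, g ^ (p ^ k) = 1) :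
    Nat.card X ≤ Nat.card ↥(X ⊓ Subgroup.centralizer (W : Set G)) *
      Nat.card (Matrix.SpecialLinearGroup (Fin 2) (ZMod p)) := by
  letI : CommGroup ↥W :=
    { (inferInstance : Group ↥W) with
      mul_comm := fun a b => Subtype.ext (hWc a a.2 b b.2) }
  let ρ : ↥X →* MulAut ↥W := (W.normalizerMonoidHom).comp (Subgroup.inclusion hXW)
  have hSX : S ⊆ X := by rw [hS]; exact Subgroup.subset_closure
  let S' : Set ↥X := {g | (g : G) ∈ S}
  have hgen : Subgroup.closure S' = ⊤ := by
    rw [eq_top_iff]
    rintro ⟨g, hg⟩ -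
    have hg' : g ∈ Subgroup.closure S := by rw [← hS]; exact hg
    have : ∀ g (hg : g ∈ Subgroup.closure S), ∀ hgX : g ∈ X,
        (⟨g, hgX⟩ : ↥X) ∈ Subgroup.closure S' := by
      intro g hg
      induction hg using Subgroup.closure_induction with
      | mem x hx => intro hxX; exact Subgroup.subset_closure hx
      | one => intro _; exact Subgroup.one_mem _
      | mul x y hx hy ihx ihy =>
        intro _
        have hxX : x ∈ X := by rw [hS]; exact hx
        have hyX : y ∈ X := by rw [hS]; exact hy
        exact Subgroup.mul_mem _ (ihx hxX) (ihy hyX)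
      | inv x hx ihx =>
        intro _
        have hxX : x ∈ X := by rw [hS]; exact hx
        exact Subgroup.inv_mem _ (ihx hxX)
    exact this g hg' hg
  have hS'p : ∀ g ∈ S', ∃ k : ℕ, g ^ (p ^ k) = 1 := by
    intro g hg
    obtain ⟨k, hk⟩ := hSp g hg
    exact ⟨k, Subtype.ext (by simpa using hk)⟩
  obtain ⟨φ, hφ⟩ := exists_hom_SL (p := p) (fun w : ↥W => Subtype.ext (by simpa using hWp w w.2))
    hW ρ S' hgen hS'p
  have hker : Nat.card φ.ker = Nat.card ↥(X ⊓ Subgroup.centralizer (W : Set G)) := by
    have h1 : ρ.ker = (X ⊓ Subgroup.centralizer (W : Set G)).subgroupOf X := by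
      ext g
      rw [MonoidHom.mem_ker, Subgroup.mem_subgroupOf, Subgroup.mem_inf]
      have h2 : ρ g = 1 ↔ Subgroup.inclusion hXW g ∈ W.normalizerMonoidHom.ker := by
        rw [MonoidHom.mem_ker]; rfl
      rw [h2, Subgroup.normalizerMonoidHom_ker, Subgroup.mem_subgroupOf]
      constructor
      · intro h; exact ⟨g.2, h⟩
      · intro h; exact h.2
    rw [hφ, h1]
    exact Nat.card_congr (Subgroup.subgroupOfEquivOfLe inf_le_left).toEquiv
  have h3 : Nat.card ↥X = Nat.card φ.ker * Nat.card φ.range := by
    rw [← Subgroup.index_ker φ, mul_comm]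
    exact (Subgroup.index_mul_card φ.ker).symm
  rw [h3, hker]
  exact Nat.mul_le_mul_left _ (Subgroup.card_le_card_group _)

end Cfsg.Agent.Lib.Helper22.Offender
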