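import Mathlib
import Cfsg.Agent.Lib.Helper22.Offender2
import Cfsg.Agent.Lib.Helper22.Offender3

/-!
# `E = [L, A] A` is `⟨A, A^x⟩ ≅ SL₂(p)` (helper22)
-/

set_option autoImplicit false
open Cfsg
open scoped commutatorElement Pointwise

namespace Cfsg.Agent.Lib.Helper22.Offender

open Cfsg.Agent.S0610 Cfsg.Agent.S0615

variable {G : Type*} [Group G] [Finite G] {p : ℕ} [Fact p.Prime] {V H A : Subgroup G}

/-- The subgroup `E_A = [O_{p'}(H), A] A`. -/
def EA (p : ℕ) (H A : Subgroup G) : Subgroup G := ⁅coreL p H, A⁆ ⊔ A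

/-- The set of elements of `L`-conjugates of `A`. -/
def conjSet (p : ℕ) (H A : Subgroup G) : Set G :=
  {g | ∃ y ∈ coreL p H, g ∈ MulAut.conj y • A}

theorem A_norm_coreL (hAH : A ≤ H) : A ≤ Subgroup.normalizer ((coreL p H : Subgroup G) : Set G) :=
  hAH.trans (le_normalizer_coreL p H)

theorem QA_le_coreL (hAH : A ≤ H) : ⁅coreL p H, A⁆ ≤ coreL p H :=
  commutator_le_of_le_normalizer (A_norm_coreL hAH)

theorem EA_le_H (hAH : A ≤ H) : EA p H A ≤ H :=
  sup_le ((QA_le_coreL hAH).trans (coreL_le p H)) hAH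

theorem conj_le_EA {y : G} (hy : y ∈ coreL p H) : MulAut.conj y • A ≤ EA p H A := by
  intro g hg
  rw [mem_conj_smul] at hg
  have h1 : g = ⁅y, y⁻¹ * g * y⁆ * (y⁻¹ * g * y) := by
    rw [commutatorElement_def]; group
  rw [h1]
  exact Subgroup.mul_mem _ ((le_sup_left : ⁅coreL p H, A⁆ ≤ EA p H A)
    (Subgroup.commutator_mem_commutator hy hg)) ((le_sup_right : A ≤ EA p H A) hg)

theorem EA_eq_closure : EA p H A = Subgroup.closure (conjSet p H A) := by
  apply le_antisymm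
  · have hA : A ≤ Subgroup.closure (conjSet p H A) := by
      intro a ha
      apply Subgroup.subset_closure
      refine ⟨1, Subgroup.one_mem _, ?_⟩
      rw [map_one, one_smul]
      exact ha
    refine sup_le ?_ hA
    rw [Subgroup.commutator_le]
    intro y hy a ha
    have h1 : ⁅y, a⁆ = (y * a * y⁻¹) * a⁻¹ := by rw [commutatorElement_def]
    rw [h1]
    refine Subgroup.mul_mem _ (Subgroup.subset_closure ⟨y, hy, conj_mem_conj_smul ha⟩)
      (Subgroup.inv_mem _ (hA ha))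
  · rw [Subgroup.closure_le]
    rintro g ⟨y, hy, hg⟩
    exact conj_le_EA hy hg

theorem pow_eq_one_of_mem_conjSet (c : Ctx p V H) (hAH : A ≤ H) (hA : IsMinOff p V A) {g : G}
    (hg : g ∈ conjSet p H A) : ∃ k : ℕ, g ^ (p ^ k) = 1 := by
  obtain ⟨y, hy, hg⟩ := hg
  refine ⟨1, ?_⟩
  rw [pow_one]
  have hcard : Nat.card ↥(MulAut.conj y • A) = p := by rw [card_smul', hA.card c hAH]
  have := pow_card_eq_one' (G := ↥(MulAut.conj y • A)) (x := ⟨g, hg⟩)
  rw [hcard] at this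
  exact congrArg Subtype.val this

namespace PairData

variable {x : G}

theorem Ex_le_EA (d : PairData p V H A x) : A ⊔ MulAut.conj x • A ≤ EA p H A :=
  sup_le le_sup_right (conj_le_EA d.hx)

/-- `E_A` acts trivially on `V / W`. -/
theorem EA_le_sectKer (d : PairData p V H A x) (h613 : Pair613 p V H) (c : Ctx p V H)
    (hAH : A ≤ H) (hA : IsMinOff p V A) :
    EA p H A ≤ sectKer V ⁅V, A ⊔ MulAut.conj x • A⁆ := by
  rw [EA_eq_closure, Subgroup.closure_le]
  rintro g ⟨y, hy, hg⟩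
  have hyH : y ∈ H := coreL_le p H hy
  have h1 : ⁅V, MulAut.conj y • A⁆ ≤ ⁅V, A ⊔ MulAut.conj x • A⁆ := by
    rw [comm_conj c hyH]
    exact d.conj_U_le h613 c hAH hA hy
  have h2 : MulAut.conj y • A ≤
      Subgroup.normalizer ((⁅V, A ⊔ MulAut.conj x • A⁆ : Subgroup G) : Set G) :=
    le_normalizer_of_commutator_le
      ((Subgroup.commutator_mono (d.W_le c hAH) le_rfl).trans h1)
  exact le_sectKer h2 h1 hg

theorem comm_EA (d : PairData p V H A x) (h613 : Pair613 p V H) (c : Ctx p V H)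
    (hAH : A ≤ H) (hA : IsMinOff p V A) :
    ⁅V, EA p H A⁆ = ⁅V, A ⊔ MulAut.conj x • A⁆ :=
  le_antisymm (commutator_le_of_le_sectKer (d.EA_le_sectKer h613 c hAH hA))
    (Subgroup.commutator_mono le_rfl d.Ex_le_EA)

theorem EA_norm_W (d : PairData p V H A x) (h613 : Pair613 p V H) (c : Ctx p V H)
    (hAH : A ≤ H) (hA : IsMinOff p V A) :
    EA p H A ≤ Subgroup.normalizer ((⁅V, A ⊔ MulAut.conj x • A⁆ : Subgroup G) : Set G) :=
  fun _ hg => (d.EA_le_sectKer h613 c hAH hA hg).1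

/-- `E_A` acts faithfully on `W`. -/
theorem EA_faithful (d : PairData p V H A x) (h613 : Pair613 p V H) (c : Ctx p V H)
    (hAH : A ≤ H) (hA : IsMinOff p V A) :
    EA p H A ⊓ Subgroup.centralizer ((⁅V, A ⊔ MulAut.conj x • A⁆ : Subgroup G) : Set G) = ⊥ := by
  have hp : p.Prime := Fact.out
  set W := ⁅V, A ⊔ MulAut.conj x • A⁆ with hW
  set K := EA p H A ⊓ Subgroup.centralizer (W : Set G) with hK
  have hKE : K ≤ EA p H A := inf_le_left
  have hKH : K ≤ H := hKE.trans (EA_le_H hAH)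
  have hKp : IsPGroup p K := by
    apply isPGroup_of_stab c.hV.2 (d.W_le c hAH)
      ((Subgroup.commutator_mono le_rfl hKE).trans (d.comm_EA h613 c hAH hA).le) inf_le_right
    rw [eq_bot_iff, ← c.hf]
    exact inf_le_inf_right _ hKH
  have hEK : EA p H A ≤ Subgroup.normalizer (K : Set G) :=
    le_normalizer_inf Subgroup.le_normalizer
      (le_normalizer_centralizer (d.EA_norm_W h613 c hAH hA))
  have hAK : A ≤ Subgroup.normalizer (K : Set G) := (le_sup_right : A ≤ EA p H A).trans hEK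
  -- `K ⊔ A` is a `p`-group
  have hKAp : IsPGroup p ↥(K ⊔ A) := by
    obtain ⟨j, hj⟩ := IsPGroup.iff_card.mp hKp
    have h1 := card_sup_mul_card_inf (M := A) (K := K) hAK
    rw [hj, hA.card c hAH] at h1
    have hd : Nat.card ↥(A ⊔ K) ∣ p ^ (j + 1) := by
      rw [pow_succ, mul_comm, ← h1]
      exact Dvd.intro _ rfl
    obtain ⟨i, -, hi⟩ := (Nat.dvd_prime_pow hp).mp hd
    rw [sup_comm]
    exact IsPGroup.of_card hi
  have hKAL : (K ⊔ A) ⊓ coreL p H = ⊥ :=
    Cfsg.Agent.Lib.Helper97.inf_eq_bot_of_isPGroup_of_coprime hKAp (coreL_card_coprime p H)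
  have hKAH : K ⊔ A ≤ H := sup_le hKH hAH
  have hKAN : K ⊔ A ≤ Subgroup.normalizer ((coreL p H : Subgroup G) : Set G) :=
    hKAH.trans (le_normalizer_coreL p H)
  have h1 := card_sup_mul_card_inf hKAN
  rw [hKAL, Subgroup.card_bot, mul_one] at h1
  have h2 := card_sup_mul_card_inf (A_norm_coreL (p := p) hAH)
  rw [hA.inf_coreL c hAH, Subgroup.card_bot, mul_one, hA.card c hAH] at h2
  have h3 : K ⊔ A ⊔ coreL p H ≤ A ⊔ coreL p H := by
    refine sup_le (sup_le ?_ le_sup_left) le_sup_right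
    exact hKE.trans (sup_le ((QA_le_coreL hAH).trans le_sup_right) le_sup_left)
  have h4 : Nat.card ↥(K ⊔ A) * Nat.card ↥(coreL p H) ≤ p * Nat.card ↥(coreL p H) := by
    rw [← h1, ← h2]
    exact Subgroup.card_le_of_le h3
  have h5 : Nat.card ↥(K ⊔ A) ≤ p := Nat.le_of_mul_le_mul_right h4 Nat.card_pos
  have h6 : A = K ⊔ A :=
    Subgroup.eq_of_le_of_card_ge le_sup_right (by rw [hA.card c hAH]; exact h5)
  have hKA : K ≤ A := by
    conv_rhs => rw [h6]
    exact le_sup_left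
  rw [eq_bot_iff, ← d.hfaith]
  exact le_inf (hKA.trans le_sup_left) inf_le_right

/-- `E_A = ⟨A, A^x⟩`. -/
theorem EA_eq (d : PairData p V H A x) (h613 : Pair613 p V H) (c : Ctx p V H)
    (hAH : A ≤ H) (hA : IsMinOff p V A) : EA p H A = A ⊔ MulAut.conj x • A := by
  symm
  apply Subgroup.eq_of_le_of_card_ge d.Ex_le_EA
  have hWV := d.W_le c hAH
  have h1 := card_le_card_cent_mul_card_SL (p := p)
    (W := ⁅V, A ⊔ MulAut.conj x • A⁆) (X := EA p H A)
    (fun a ha b hb => c.hVc a (hWV ha) b (hWV hb)) (fun w hw => c.hV.2 w (hWV hw)) d.hcardW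
    (d.EA_norm_W h613 c hAH hA) (conjSet p H A) EA_eq_closure
    (fun g hg => pow_eq_one_of_mem_conjSet c hAH hA hg)
  rw [d.EA_faithful h613 c hAH hA, Subgroup.card_bot, one_mul] at h1
  obtain ⟨e⟩ := d.hiso
  rw [Nat.card_congr e.toEquiv]
  exact h1

end PairData


/-- Summary of the structure of `E_A` and its module `W_A = [V, E_A]`. -/
structure EData (p : ℕ) (V H A : Subgroup G) : Prop where
  hp23 : p = 2 ∨ p = 3
  hiso : Nonempty (↥(EA p H A) ≃* Matrix.SpecialLinearGroup (Fin 2) (ZMod p))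
  hcardW : Nat.card ↥(⁅V, EA p H A⁆) = p ^ 2
  hfaith : EA p H A ⊓ Subgroup.centralizer ((⁅V, EA p H A⁆ : Subgroup G) : Set G) = ⊥
  hN : ⁅V, EA p H A⁆ ⊓ Subgroup.centralizer ((EA p H A : Subgroup G) : Set G) = ⊥
  hsup : ⁅V, EA p H A⁆ ⊔ (V ⊓ Subgroup.centralizer ((EA p H A : Subgroup G) : Set G)) = V
  hpair : ∃ x : G, PairData p V H A x ∧ EA p H A = A ⊔ MulAut.conj x • A

theorem eData (c : Ctx p V H) (h613 : Pair613 p V H) (hAH : A ≤ H) (hA : IsMinOff p V A) :
    EData p V H A := by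
  have hp : p.Prime := Fact.out
  obtain ⟨x, hxL, hxA⟩ := hA.exists_not_centralizing c hAH
  have d := h613.data hAH hA hxL hxA
  have hE := d.EA_eq h613 c hAH hA
  have hN : ⁅V, EA p H A⁆ ⊓ Subgroup.centralizer ((EA p H A : Subgroup G) : Set G) = ⊥ := by
    rw [hE]; exact d.cent_E c hAH hA
  have hcardW : Nat.card ↥(⁅V, EA p H A⁆) = p ^ 2 := by rw [hE]; exact d.hcardW
  refine ⟨d.hp23, ?_, hcardW, ?_, hN, ?_, ⟨x, d, hE⟩⟩
  · obtain ⟨e⟩ := d.hiso
    exact ⟨(MulEquiv.subgroupCongr hE).trans e⟩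
  · rw [hE]; exact d.hfaith
  · -- `V = W × C_V(E)`
    have hWV : ⁅V, EA p H A⁆ ≤ V := c.comm_le_V (EA_le_H hAH)
    set C₁ := V ⊓ Subgroup.centralizer (A : Set G) with hC₁
    set C₂ := V ⊓ Subgroup.centralizer ((MulAut.conj x • A : Subgroup G) : Set G) with hC₂
    have hc₁ : Nat.card ↥C₁ * p = Nat.card V := hA.card_cent c hAH
    have hc₂ : Nat.card ↥C₂ * p = Nat.card V :=
      (hA.conj c d.hxH).card_cent c (d.conj_le hAH)
    have h1 := card_sup_mul_card_inf (c.norm_of_le_V (inf_le_left : C₁ ≤ V)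
      (inf_le_left : C₂ ≤ V))
    have h2 : Nat.card ↥(C₁ ⊔ C₂) ≤ Nat.card V :=
      Subgroup.card_le_of_le (sup_le inf_le_left inf_le_left)
    have h3 : C₁ ⊓ C₂ ≤ V ⊓ Subgroup.centralizer ((EA p H A : Subgroup G) : Set G) := by
      refine le_inf (inf_le_left.trans inf_le_left) ?_
      rw [hE, Subgroup.le_centralizer_iff]
      exact sup_le (Subgroup.le_centralizer_iff.mp (inf_le_left.trans inf_le_right))
        (Subgroup.le_centralizer_iff.mp (inf_le_right.trans inf_le_right))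
    set CE := V ⊓ Subgroup.centralizer ((EA p H A : Subgroup G) : Set G) with hCE
    have h4 : Nat.card ↥(C₁ ⊓ C₂) ≤ Nat.card ↥CE := Subgroup.card_le_of_le h3
    have h5 := card_sup_mul_card_inf (c.norm_of_le_V hWV (inf_le_left : CE ≤ V))
    have h6 : ⁅V, EA p H A⁆ ⊓ CE = ⊥ := by
      rw [eq_bot_iff, ← hN]
      exact inf_le_inf_left _ inf_le_right
    rw [h6, Subgroup.card_bot, mul_one, hcardW] at h5
    apply Subgroup.eq_of_le_of_card_ge (sup_le hWV inf_le_left)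
    rw [h5]
    -- `|V| ≤ p² |C_V(E)|`
    set n₁ := Nat.card ↥C₁
    set n₂ := Nat.card ↥C₂
    set m := Nat.card ↥(C₁ ⊓ C₂)
    set k := Nat.card ↥CE
    set v := Nat.card ↥V
    have hvpos : 0 < v := Nat.card_pos
    have h7 : n₁ * n₂ ≤ v * m := by
      rw [← h1]
      exact Nat.mul_le_mul_right _ h2
    have h8 : v * v = (n₁ * n₂) * p ^ 2 := by
      calc v * v = (n₁ * p) * (n₂ * p) := by rw [hc₁, hc₂]
        _ = (n₁ * n₂) * p ^ 2 := by ring
    have h9 : v * v ≤ v * (p ^ 2 * k) := by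
      calc v * v = (n₁ * n₂) * p ^ 2 := h8
        _ ≤ (v * m) * p ^ 2 := Nat.mul_le_mul_right _ h7
        _ ≤ (v * k) * p ^ 2 := Nat.mul_le_mul_right _ (Nat.mul_le_mul_left _ h4)
        _ = v * (p ^ 2 * k) := by ring
    exact Nat.le_of_mul_le_mul_left h9 hvpos

end Cfsg.Agent.Lib.Helper22.Offender
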