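import Mathlib
import Cfsg.Agent.Lib.Helper22.Offender4
import Cfsg.Agent.Lib.Helper57.CardSL

/-!
# `[L, A]` acts irreducibly on `W_A`; the dichotomy for two minimal offenders (helper22)
-/

set_option autoImplicit false
open Cfsg
open scoped commutatorElement Pointwise

namespace Cfsg.Agent.Lib.Helper22.Offender

open Cfsg.Agent.S0610 Cfsg.Agent.S0615

theorem card_SL2 {p : ℕ} [Fact p.Prime] (hp23 : p = 2 ∨ p = 3) :
    Nat.card (Matrix.SpecialLinearGroup (Fin 2) (ZMod p)) = p * (p ^ 2 - 1) := by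
  have h := Cfsg.Agent.Lib.Helper57.card_SL_formula (F := ZMod p) 2 (by norm_num)
  rw [Fin.prod_univ_two, ZMod.card] at h
  rcases hp23 with rfl | rfl
  · norm_num at h
    rw [Nat.card_eq_fintype_card, h]
    norm_num
  · norm_num at h
    rw [Nat.card_eq_fintype_card]
    omega

variable {G : Type*} [Group G] [Finite G] {p : ℕ} [Fact p.Prime] {V H A : Subgroup G}

/-- `Q_A = [O_{p'}(H), A]`. -/
def QA (p : ℕ) (H A : Subgroup G) : Subgroup G := ⁅coreL p H, A⁆

theorem QA_le_EA : QA p H A ≤ EA p H A := le_sup_left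

theorem QA_le_L (hAH : A ≤ H) : QA p H A ≤ coreL p H := QA_le_coreL hAH

theorem L_norm_QA : coreL p H ≤ Subgroup.normalizer ((QA p H A : Subgroup G) : Set G) :=
  le_normalizer_commutator_left _ _

theorem A_norm_QA (hAH : A ≤ H) : A ≤ Subgroup.normalizer ((QA p H A : Subgroup G) : Set G) :=
  le_normalizer_commutator (A_norm_coreL hAH) Subgroup.le_normalizer

theorem EA_norm_QA (hAH : A ≤ H) :
    EA p H A ≤ Subgroup.normalizer ((QA p H A : Subgroup G) : Set G) :=
  sup_le ((QA_le_L hAH).trans L_norm_QA) (A_norm_QA hAH)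

theorem QA_inf_A (c : Ctx p V H) (hAH : A ≤ H) (hA : IsMinOff p V A) : QA p H A ⊓ A = ⊥ := by
  rw [eq_bot_iff, ← hA.inf_coreL c hAH, inf_comm]
  exact inf_le_inf_left _ (QA_le_L hAH)

theorem card_EA (c : Ctx p V H) (hAH : A ≤ H) (hA : IsMinOff p V A) :
    Nat.card ↥(EA p H A) = Nat.card ↥(QA p H A) * p := by
  have h1 := card_sup_mul_card_inf (M := A) (K := QA p H A) (A_norm_QA hAH)
  rw [inf_comm, QA_inf_A c hAH hA, Subgroup.card_bot, mul_one, hA.card c hAH, sup_comm] at h1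
  rw [mul_comm]
  exact h1

theorem card_QA (c : Ctx p V H) (h613 : Pair613 p V H) (hAH : A ≤ H) (hA : IsMinOff p V A) :
    Nat.card ↥(QA p H A) = p ^ 2 - 1 := by
  have hp : p.Prime := Fact.out
  have e := eData c h613 hAH hA
  obtain ⟨f⟩ := e.hiso
  have h1 := card_EA c hAH hA
  rw [Nat.card_congr f.toEquiv, card_SL2 e.hp23, mul_comm] at h1
  exact (Nat.eq_of_mul_eq_mul_right hp.pos h1).symm

theorem two_lt_card_QA (c : Ctx p V H) (h613 : Pair613 p V H) (hAH : A ≤ H)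
    (hA : IsMinOff p V A) : 2 < Nat.card ↥(QA p H A) := by
  rw [card_QA c h613 hAH hA]
  rcases (eData c h613 hAH hA).hp23 with rfl | rfl <;> norm_num

theorem QA_ne_bot (c : Ctx p V H) (h613 : Pair613 p V H) (hAH : A ≤ H)
    (hA : IsMinOff p V A) : QA p H A ≠ ⊥ := by
  intro h
  have := two_lt_card_QA c h613 hAH hA
  rw [h, Subgroup.card_bot] at this
  omega


/-- `W_A = [V, E_A]`. -/
def WA (p : ℕ) (V H A : Subgroup G) : Subgroup G := ⁅V, EA p H A⁆

theorem WA_le_V (c : Ctx p V H) (hAH : A ≤ H) : WA p V H A ≤ V := c.comm_le_V (EA_le_H hAH)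

/-- `g = [x, x⁻¹ g x] · x⁻¹ g x`. -/
theorem conj_decomp (x g : G) : g = ⁅x, x⁻¹ * g * x⁆ * (x⁻¹ * g * x) := by
  rw [commutatorElement_def]; group

namespace PairData

variable {x : G}

/-- `Q_A` does not normalize `[V, A]`. -/
theorem QA_not_norm_U (d : PairData p V H A x) (c : Ctx p V H) (hAH : A ≤ H)
    (hA : IsMinOff p V A) :
    ¬ QA p H A ≤ Subgroup.normalizer ((⁅V, A⁆ : Subgroup G) : Set G) := by
  have hp : p.Prime := Fact.out
  intro hQ
  have hAU : A ≤ Subgroup.normalizer ((⁅V, A⁆ : Subgroup G) : Set G) :=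
    le_normalizer_commutator (hAH.trans c.hHV) Subgroup.le_normalizer
  have h1 : MulAut.conj x • A ≤ Subgroup.normalizer ((⁅V, A⁆ : Subgroup G) : Set G) := by
    intro g hg
    rw [mem_conj_smul] at hg
    rw [conj_decomp x g]
    exact Subgroup.mul_mem _ (hQ (Subgroup.commutator_mem_commutator d.hx hg)) (hAU hg)
  have h2 : MulAut.conj x • A ≤ Subgroup.centralizer ((⁅V, A⁆ : Subgroup G) : Set G) :=
    le_centralizer_of_card_prime (by rw [card_smul', hA.card c hAH]) (hA.card_comm c hAH) h1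
  have h3 : ⁅V, A⁆ ≤ MulAut.conj x • ⁅V, A⁆ := by
    have hle : ⁅V, A⁆ ≤ ⁅V, A ⊔ MulAut.conj x • A⁆ ⊓
        Subgroup.centralizer ((MulAut.conj x • A : Subgroup G) : Set G) :=
      le_inf (Subgroup.commutator_mono le_rfl le_sup_left) (Subgroup.le_centralizer_iff.mp h2)
    exact hle.trans (d.cent_Ax c hAH hA).le
  have h4 : ⁅V, A⁆ ≤ ⊥ := by
    rw [← d.U_inf c hAH hA]
    exact le_inf le_rfl h3
  rw [le_bot_iff] at h4
  have := hA.card_comm c hAH
  rw [h4, Subgroup.card_bot] at this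
  exact hp.one_lt.ne this

/-- `Q_A` does not normalize `[V, A]^x`. -/
theorem QA_not_norm_Ux (d : PairData p V H A x) (c : Ctx p V H) (hAH : A ≤ H)
    (hA : IsMinOff p V A) :
    ¬ QA p H A ≤ Subgroup.normalizer ((MulAut.conj x • ⁅V, A⁆ : Subgroup G) : Set G) := by
  have hp : p.Prime := Fact.out
  intro hQ
  have hAxU : MulAut.conj x • A ≤
      Subgroup.normalizer ((MulAut.conj x • ⁅V, A⁆ : Subgroup G) : Set G) := by
    rw [← comm_conj c d.hxH]
    exact le_normalizer_commutator ((d.conj_le hAH).trans c.hHV) Subgroup.le_normalizer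
  have h1 : A ≤ Subgroup.normalizer ((MulAut.conj x • ⁅V, A⁆ : Subgroup G) : Set G) := by
    intro a ha
    have h : a = ⁅x, a⁆⁻¹ * (x * a * x⁻¹) := by rw [commutatorElement_def]; group
    rw [h]
    exact Subgroup.mul_mem _ (Subgroup.inv_mem _ (hQ (Subgroup.commutator_mem_commutator d.hx ha)))
      (hAxU (conj_mem_conj_smul ha))
  have h2 : A ≤ Subgroup.centralizer ((MulAut.conj x • ⁅V, A⁆ : Subgroup G) : Set G) :=
    le_centralizer_of_card_prime (hA.card c hAH) (by rw [card_smul', hA.card_comm c hAH]) h1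
  have h3 : MulAut.conj x • ⁅V, A⁆ ≤ ⁅V, A⁆ := by
    have hle : MulAut.conj x • ⁅V, A⁆ ≤ ⁅V, A ⊔ MulAut.conj x • A⁆ ⊓
        Subgroup.centralizer (A : Set G) := by
      refine le_inf ?_ (Subgroup.le_centralizer_iff.mp h2)
      have hW := d.W_eq c hAH
      exact (le_sup_right : _ ≤ ⁅V, A⁆ ⊔ MulAut.conj x • ⁅V, A⁆).trans hW.ge
    exact hle.trans (d.cent_A c hAH hA).le
  have h4 : MulAut.conj x • ⁅V, A⁆ ≤ ⊥ := by
    rw [← d.U_inf c hAH hA]
    exact le_inf h3 le_rfl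
  rw [le_bot_iff] at h4
  have : Nat.card ↥(MulAut.conj x • ⁅V, A⁆) = p := by rw [card_smul', hA.card_comm c hAH]
  rw [h4, Subgroup.card_bot] at this
  exact hp.one_lt.ne this

end PairData

/-- `Q_A` acts irreducibly on `W_A`. -/
theorem QA_irred (c : Ctx p V H) (h613 : Pair613 p V H) (hAH : A ≤ H) (hA : IsMinOff p V A) :
    ∀ U' : Subgroup G, U' ≤ WA p V H A →
      QA p H A ≤ Subgroup.normalizer (U' : Set G) → U' = ⊥ ∨ U' = WA p V H A := by
  have hp : p.Prime := Fact.out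
  intro U' hU'W hQ
  have e := eData c h613 hAH hA
  obtain ⟨x, d, hE⟩ := e.hpair
  have hcW : Nat.card ↥(WA p V H A) = p ^ 2 := e.hcardW
  have hd : Nat.card ↥U' ∣ p ^ 2 := by rw [← hcW]; exact Subgroup.card_dvd_of_le hU'W
  obtain ⟨j, hj, hjeq⟩ := (Nat.dvd_prime_pow hp).mp hd
  interval_cases j
  · left
    rw [pow_zero] at hjeq
    exact Subgroup.card_eq_one.mp hjeq
  · exfalso
    rw [pow_one] at hjeq
    have hU'W' : U' ≤ ⁅V, A ⊔ MulAut.conj x • A⁆ := by
      have : WA p V H A = ⁅V, A ⊔ MulAut.conj x • A⁆ := by rw [WA, hE]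
      rw [← this]; exact hU'W
    by_cases h1 : U' = MulAut.conj x • ⁅V, A⁆
    · rw [h1] at hQ
      exact d.QA_not_norm_Ux c hAH hA hQ
    · obtain ⟨b, hb, hU'b⟩ := d.exists_conj_eq c hAH hA hU'W' hjeq h1
      have hbE : b ∈ EA p H A := by rw [hE]; exact (le_sup_right : _ ≤ A ⊔ MulAut.conj x • A) hb
      have hbN : b⁻¹ ∈ Subgroup.normalizer ((QA p H A : Subgroup G) : Set G) :=
        Subgroup.inv_mem _ (EA_norm_QA hAH hbE)
      have h2 := smul_le_normalizer (MulAut.conj b)⁻¹ hQ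
      rw [hU'b, inv_smul_smul, ← map_inv, conj_smul_V hbN] at h2
      exact d.QA_not_norm_U c hAH hA h2
  · right
    exact Subgroup.eq_of_le_of_card_ge hU'W (by rw [hjeq, hcW])

/-- `[V, Q_A] = W_A`. -/
theorem comm_QA (c : Ctx p V H) (h613 : Pair613 p V H) (hAH : A ≤ H) (hA : IsMinOff p V A) :
    ⁅V, QA p H A⁆ = WA p V H A := by
  have hQH : QA p H A ≤ H := (QA_le_L hAH).trans (coreL_le p H)
  rcases QA_irred c h613 hAH hA ⁅V, QA p H A⁆ (Subgroup.commutator_mono le_rfl QA_le_EA)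
    (le_normalizer_commutator (hQH.trans c.hHV) Subgroup.le_normalizer) with h | h
  · exact absurd (c.eq_bot_of_comm_eq_bot hQH h) (QA_ne_bot c h613 hAH hA)
  · exact h

end Cfsg.Agent.Lib.Helper22.Offender
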