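import Mathlib
import Cfsg.Agent.Lib.Helper22.Offender5

/-!
# The dichotomy `W_A = W_B ∨ W_A ∩ W_B = 1` for two minimal offenders (helper22)
-/

set_option autoImplicit false
open Cfsg
open scoped commutatorElement Pointwise

namespace Cfsg.Agent.Lib.Helper22.Offender

open Cfsg.Agent.S0610 Cfsg.Agent.S0615 Cfsg.Agent.Lib.Helper72

variable {G : Type*} [Group G] [Finite G] {p : ℕ} [Fact p.Prime] {V H A B : Subgroup G}

theorem card_WA (c : Ctx p V H) (h613 : Pair613 p V H) (hAH : A ≤ H) (hA : IsMinOff p V A) :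
    Nat.card ↥(WA p V H A) = p ^ 2 := (eData c h613 hAH hA).hcardW

/-- a `p'`-group has trivial `O_p`. -/
theorem pCore_eq_bot_of_coprime {E : Subgroup G} (h : (Nat.card E).Coprime p) :
    pCore p ↥E = ⊥ := by
  have hp : p.Prime := Fact.out
  unfold pCore
  rw [sSup_eq_bot]
  rintro N ⟨-, hN⟩
  rcases hN.card_eq_or_dvd with h1 | h1
  · exact Subgroup.card_eq_one.mp h1
  · exfalso
    have h2 : p ∣ Nat.card ↥E := h1.trans (Subgroup.card_subgroup_dvd_card N)
    have h3 : p ∣ Nat.gcd (Nat.card ↥E) p := Nat.dvd_gcd h2 dvd_rfl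
    rw [h] at h3
    exact hp.one_lt.ne' (Nat.dvd_one.mp h3)

/-- **The dichotomy**: for minimal offenders `A, B ≤ H`, `W_A = W_B` or `W_A ∩ W_B = 1`. -/
theorem WA_dichotomy (c : Ctx p V H) (h613 : Pair613 p V H) (hAH : A ≤ H) (hA : IsMinOff p V A)
    (hBH : B ≤ H) (hB : IsMinOff p V B) :
    WA p V H A = WA p V H B ∨ WA p V H A ⊓ WA p V H B = ⊥ := by
  have hcA := card_WA c h613 hAH hA
  have hcB := card_WA c h613 hBH hB
  by_cases h12 : WA p V H A ≤ WA p V H B
  · left
    exact Subgroup.eq_of_le_of_card_ge h12 (by rw [hcA, hcB])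
  by_cases h21 : WA p V H B ≤ WA p V H A
  · left
    exact (Subgroup.eq_of_le_of_card_ge h21 (by rw [hcA, hcB])).symm
  right
  have hQAL := QA_le_L (p := p) hAH
  have hQBL := QA_le_L (p := p) hBH
  have hE₀L : QA p H A ⊔ QA p H B ≤ coreL p H := sup_le hQAL hQBL
  have hE₀H : QA p H A ⊔ QA p H B ≤ H := hE₀L.trans (coreL_le p H)
  have hcop : (Nat.card ↥(QA p H A ⊔ QA p H B)).Coprime p :=
    Nat.Coprime.coprime_dvd_left (Subgroup.card_dvd_of_le hE₀L) (coreL_card_coprime p H)
  have hyp : Hyp p V (QA p H A ⊔ QA p H B) (QA p H A) (QA p H B) :=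
    { hV := c.hV
      hEV := hE₀H.trans c.hHV
      hf := by
        rw [eq_bot_iff, ← c.hf]
        exact inf_le_inf_right _ hE₀H
      hgen := rfl
      hs₁ := RelSN.of_normal le_sup_left (hE₀L.trans L_norm_QA)
      hs₂ := RelSN.of_normal le_sup_right (hE₀L.trans L_norm_QA)
      hOp := pCore_eq_bot_of_coprime hcop
      hirr₁ := by
        rw [comm_QA c h613 hAH hA]
        exact QA_irred c h613 hAH hA
      hirr₂ := by
        rw [comm_QA c h613 hBH hB]
        exact QA_irred c h613 hBH hB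
      h12 := by rw [comm_QA c h613 hAH hA, comm_QA c h613 hBH hB]; exact h12
      h21 := by rw [comm_QA c h613 hAH hA, comm_QA c h613 hBH hB]; exact h21
      hc₁ := two_lt_card_QA c h613 hAH hA
      hc₂ := two_lt_card_QA c h613 hBH hB }
  have hcomm := main p V _ _ _ _ hyp rfl
  have := (hyp.rest hcomm).2.1
  rw [comm_QA c h613 hAH hA, comm_QA c h613 hBH hB] at this
  exact this

end Cfsg.Agent.Lib.Helper22.Offender
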