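import Mathlib
import Cfsg.Agent.Lib.Helper22.Offender6

/-!
# `W_A = W_B` forces `E_A = E_B` (helper22)
-/

set_option autoImplicit false
open Cfsg
open scoped commutatorElement Pointwise

namespace Cfsg.Agent.Lib.Helper22.Offender

open Cfsg.Agent.S0610 Cfsg.Agent.S0615 Cfsg.Agent.Lib.Helper72

variable {G : Type*} [Group G] [Finite G] {p : ℕ} [Fact p.Prime] {V H A B : Subgroup G}

theorem eq_bot_of_isPGroup_of_coprime {K : Subgroup G} (hK : IsPGroup p K)
    (h : (Nat.card K).Coprime p) : K = ⊥ := by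
  have hp : p.Prime := Fact.out
  rcases hK.card_eq_or_dvd with h1 | h1
  · exact Subgroup.card_eq_one.mp h1
  · exfalso
    have h3 : p ∣ Nat.gcd (Nat.card ↥K) p := Nat.dvd_gcd h1 dvd_rfl
    rw [h] at h3
    exact hp.one_lt.ne' (Nat.dvd_one.mp h3)

theorem isPGroup_inf_coreL {K : Subgroup G} (hK : IsPGroup p K) : K ⊓ coreL p H = ⊥ :=
  eq_bot_of_isPGroup_of_coprime (hK.to_le inf_le_left)
    (Nat.Coprime.coprime_dvd_left (Subgroup.card_dvd_of_le inf_le_right)
      (coreL_card_coprime p H))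

theorem EA_norm_WA (c : Ctx p V H) (hAH : A ≤ H) :
    EA p H A ≤ Subgroup.normalizer ((WA p V H A : Subgroup G) : Set G) :=
  le_normalizer_commutator ((EA_le_H hAH).trans c.hHV) Subgroup.le_normalizer

theorem EA_inf_cent_WA (c : Ctx p V H) (h613 : Pair613 p V H) (hAH : A ≤ H)
    (hA : IsMinOff p V A) :
    EA p H A ⊓ Subgroup.centralizer ((WA p V H A : Subgroup G) : Set G) = ⊥ :=
  (eData c h613 hAH hA).hfaith

/-- `C_W(Q_A) = 1`. -/
theorem WA_inf_cent_QA (c : Ctx p V H) (h613 : Pair613 p V H) (hAH : A ≤ H)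
    (hA : IsMinOff p V A) :
    WA p V H A ⊓ Subgroup.centralizer ((QA p H A : Subgroup G) : Set G) = ⊥ := by
  have hQW : QA p H A ≤ Subgroup.normalizer ((WA p V H A : Subgroup G) : Set G) :=
    QA_le_EA.trans (EA_norm_WA c hAH)
  rcases QA_irred c h613 hAH hA
    (WA p V H A ⊓ Subgroup.centralizer ((QA p H A : Subgroup G) : Set G)) inf_le_left
    (le_normalizer_inf hQW (le_normalizer_centralizer Subgroup.le_normalizer)) with h | h
  · exact h
  · exfalso
    have h1 : WA p V H A ≤ Subgroup.centralizer ((QA p H A : Subgroup G) : Set G) :=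
      inf_eq_left.mp h
    have h2 : QA p H A ≤ Subgroup.centralizer ((WA p V H A : Subgroup G) : Set G) :=
      Subgroup.le_centralizer_iff.mp h1
    have h3 : QA p H A ≤ ⊥ := by
      rw [← EA_inf_cent_WA c h613 hAH hA]
      exact le_inf QA_le_EA h2
    exact QA_ne_bot c h613 hAH hA (le_bot_iff.mp h3)

/-- If `W_A = W_B` then `E_B ≤ E_A`. -/
theorem EA_le_of_WA_eq (c : Ctx p V H) (h613 : Pair613 p V H) (hAH : A ≤ H)
    (hA : IsMinOff p V A) (hBH : B ≤ H) (hB : IsMinOff p V B)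
    (hW : WA p V H A = WA p V H B) : EA p H B ≤ EA p H A := by
  have hp : p.Prime := Fact.out
  have eA := eData c h613 hAH hA
  have hEH : EA p H A ≤ H := EA_le_H hAH
  have hE'H : EA p H B ≤ H := EA_le_H hBH
  have hXH : EA p H A ⊔ EA p H B ≤ H := sup_le hEH hE'H
  have hWV : WA p V H A ≤ V := WA_le_V c hAH
  have hEW : EA p H A ≤ Subgroup.normalizer ((WA p V H A : Subgroup G) : Set G) :=
    EA_norm_WA c hAH
  have hE'W : EA p H B ≤ Subgroup.normalizer ((WA p V H A : Subgroup G) : Set G) := by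
    rw [hW]; exact EA_norm_WA c hBH
  have hXW : EA p H A ⊔ EA p H B ≤ Subgroup.normalizer ((WA p V H A : Subgroup G) : Set G) :=
    sup_le hEW hE'W
  have hVX : ⁅V, EA p H A ⊔ EA p H B⁆ ≤ WA p V H A := by
    rw [comm_sup c hEH hE'H]
    exact sup_le le_rfl hW.ge
  -- the kernel `K` of the action of `X` on `W`
  obtain ⟨K, hKdef⟩ : ∃ K : Subgroup G, K = (EA p H A ⊔ EA p H B) ⊓
      Subgroup.centralizer ((WA p V H A : Subgroup G) : Set G) := ⟨_, rfl⟩
  have hKX : K ≤ EA p H A ⊔ EA p H B := by rw [hKdef]; exact inf_le_left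
  have hKW : K ≤ Subgroup.centralizer ((WA p V H A : Subgroup G) : Set G) := by
    rw [hKdef]; exact inf_le_right
  have hKH : K ≤ H := hKX.trans hXH
  have hKp : IsPGroup p ↥K :=
    isPGroup_of_stab c.hV.2 hWV ((Subgroup.commutator_mono le_rfl hKX).trans hVX) hKW
      (by rw [eq_bot_iff, ← c.hf]; exact inf_le_inf_right _ hKH)
  have hXK : EA p H A ⊔ EA p H B ≤ Subgroup.normalizer ((K : Subgroup G) : Set G) := by
    rw [hKdef]
    exact le_normalizer_inf Subgroup.le_normalizer (le_normalizer_centralizer hXW)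
  -- `K` centralizes `Q_A`
  have hQX : QA p H A ≤ EA p H A ⊔ EA p H B := QA_le_EA.trans le_sup_left
  have hKQ : ⁅K, QA p H A⁆ = ⊥ := by
    have h1 : ⁅K, QA p H A⁆ ≤ K := commutator_le_of_le_normalizer (hQX.trans hXK)
    have h2 : ⁅K, QA p H A⁆ ≤ coreL p H := by
      rw [Subgroup.commutator_comm]
      exact (Subgroup.commutator_mono (QA_le_L hAH) hKH).trans
        (commutator_le_of_le_normalizer (le_normalizer_coreL p H))
    rw [eq_bot_iff, ← isPGroup_inf_coreL (H := H) hKp]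
    exact le_inf h1 h2
  have hKcQ : K ≤ Subgroup.centralizer ((QA p H A : Subgroup G) : Set G) :=
    Subgroup.commutator_eq_bot_iff_le_centralizer.mp hKQ
  -- `K` centralizes `C₀ = C_V(Q_A)`
  have hKC₀ : K ≤ Subgroup.normalizer
      ((V ⊓ Subgroup.centralizer ((QA p H A : Subgroup G) : Set G) : Subgroup G) : Set G) :=
    le_normalizer_inf (hKH.trans c.hHV)
      (le_normalizer_centralizer (hKcQ.trans (Subgroup.centralizer_le_normalizer _)))
  have hC₀K : ⁅V ⊓ Subgroup.centralizer ((QA p H A : Subgroup G) : Set G), K⁆ = ⊥ := by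
    have h1 := commutator_le_of_le_normalizer hKC₀
    have h2 : ⁅V ⊓ Subgroup.centralizer ((QA p H A : Subgroup G) : Set G), K⁆ ≤ WA p V H A :=
      (Subgroup.commutator_mono inf_le_left hKX).trans hVX
    rw [eq_bot_iff, ← WA_inf_cent_QA c h613 hAH hA]
    exact le_inf h2 (h1.trans inf_le_right)
  have hC₀c : V ⊓ Subgroup.centralizer ((QA p H A : Subgroup G) : Set G) ≤
      Subgroup.centralizer (K : Set G) :=
    Subgroup.commutator_eq_bot_iff_le_centralizer.mp hC₀K
  have hVK : V ≤ Subgroup.centralizer (K : Set G) := by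
    have hsup : WA p V H A ⊔ (V ⊓ Subgroup.centralizer ((EA p H A : Subgroup G) : Set G)) = V :=
      eA.hsup
    rw [← hsup]
    refine sup_le (Subgroup.le_centralizer_iff.mp hKW) (le_trans ?_ hC₀c)
    exact inf_le_inf_left _ (Subgroup.centralizer_le (by exact_mod_cast QA_le_EA))
  have hKbot : K = ⊥ := by
    rw [eq_bot_iff, ← c.hf]
    exact le_inf hKH (Subgroup.le_centralizer_iff.mp hVK)
  -- count
  have h1 := card_le_card_cent_mul_card_SL (p := p) (W := WA p V H A)
    (X := EA p H A ⊔ EA p H B)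
    (fun a ha b hb => c.hVc a (hWV ha) b (hWV hb)) (fun w hw => c.hV.2 w (hWV hw)) eA.hcardW
    hXW (conjSet p H A ∪ conjSet p H B)
    (by rw [Subgroup.closure_union, ← EA_eq_closure, ← EA_eq_closure])
    (by
      rintro g (hg | hg)
      · exact pow_eq_one_of_mem_conjSet c hAH hA hg
      · exact pow_eq_one_of_mem_conjSet c hBH hB hg)
  rw [← hKdef, hKbot, Subgroup.card_bot, one_mul] at h1
  obtain ⟨e⟩ := eA.hiso
  rw [← Nat.card_congr e.toEquiv] at h1
  have h2 : EA p H A = EA p H A ⊔ EA p H B := Subgroup.eq_of_le_of_card_ge le_sup_left h1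
  calc EA p H B ≤ EA p H A ⊔ EA p H B := le_sup_right
    _ = EA p H A := h2.symm

/-- If `W_A = W_B` then `E_A = E_B`. -/
theorem EA_eq_of_WA_eq (c : Ctx p V H) (h613 : Pair613 p V H) (hAH : A ≤ H)
    (hA : IsMinOff p V A) (hBH : B ≤ H) (hB : IsMinOff p V B)
    (hW : WA p V H A = WA p V H B) : EA p H A = EA p H B :=
  le_antisymm (EA_le_of_WA_eq c h613 hBH hB hAH hA hW.symm)
    (EA_le_of_WA_eq c h613 hAH hA hBH hB hW)

end Cfsg.Agent.Lib.Helper22.Offender
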