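import Mathlib
import Cfsg.Agent.Lib.Helper22.Offender7

/-!
# `E_A` is a direct factor of `H` (helper22)
-/

set_option autoImplicit false
open Cfsg
open scoped commutatorElement Pointwise

namespace Cfsg.Agent.Lib.Helper22.Offender

open Cfsg.Agent.S0610 Cfsg.Agent.S0615 Cfsg.Agent.Lib.Helper72

variable {G : Type*} [Group G] [Finite G] {p : ℕ} [Fact p.Prime] {V H A B : Subgroup G}

theorem conj_coreL {h : G} (hh : h ∈ H) : MulAut.conj h • coreL p H = coreL p H :=
  conj_smul_V (le_normalizer_coreL p H hh)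

theorem EA_conj {h : G} (hh : h ∈ H) :
    EA p H (MulAut.conj h • A) = MulAut.conj h • EA p H A := by
  unfold EA
  rw [Subgroup.smul_sup, smul_commutator', conj_coreL hh]

theorem WA_conj (c : Ctx p V H) {h : G} (hh : h ∈ H) :
    WA p V H (MulAut.conj h • A) = MulAut.conj h • WA p V H A := by
  unfold WA
  rw [EA_conj hh, smul_commutator', c.conj_V hh]

theorem conj_WA_le (c : Ctx p V H) (hAH : A ≤ H) {b : G} (hb : b ∈ B) :
    MulAut.conj b • WA p V H A ≤ WA p V H A ⊔ ⁅V, B⁆ := by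
  intro g hg
  rw [mem_conj_smul] at hg
  rw [conj_decomp b g]
  exact Subgroup.mul_mem _
    ((le_sup_right : ⁅V, B⁆ ≤ WA p V H A ⊔ ⁅V, B⁆) (comm_mem_right (WA_le_V c hAH hg) hb))
    ((le_sup_left : WA p V H A ≤ WA p V H A ⊔ ⁅V, B⁆) hg)

/-- Every minimal offender of `H` normalizes `E_A`. -/
theorem minOff_le_normalizer_EA (c : Ctx p V H) (h613 : Pair613 p V H) (hAH : A ≤ H)
    (hA : IsMinOff p V A) (hBH : B ≤ H) (hB : IsMinOff p V B) :
    B ≤ Subgroup.normalizer ((EA p H A : Subgroup G) : Set G) := by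
  have hp : p.Prime := Fact.out
  intro b hb
  have hbH : b ∈ H := hBH hb
  have hA' : IsMinOff p V (MulAut.conj b • A) := hA.conj c hbH
  have hA'H : MulAut.conj b • A ≤ H := conj_le_H hbH hAH
  have hW' : WA p V H (MulAut.conj b • A) = MulAut.conj b • WA p V H A := WA_conj c hbH
  have hne : WA p V H A ⊓ WA p V H (MulAut.conj b • A) ≠ ⊥ := by
    intro hbot
    rw [hW'] at hbot
    have hWV := WA_le_V c hAH
    have hbWV : MulAut.conj b • WA p V H A ≤ V := by rw [← hW']; exact WA_le_V c hA'H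
    have hUV : ⁅V, B⁆ ≤ V := c.comm_le_V hBH
    have h1 := card_sup_mul_card_inf (c.norm_of_le_V hWV hbWV)
    rw [hbot, Subgroup.card_bot, mul_one, card_smul', card_WA c h613 hAH hA] at h1
    have h2 := card_sup_mul_card_inf (c.norm_of_le_V hWV hUV)
    rw [card_WA c h613 hAH hA, hB.card_comm c hBH] at h2
    have h3 : WA p V H A ⊔ MulAut.conj b • WA p V H A ≤ WA p V H A ⊔ ⁅V, B⁆ :=
      sup_le le_sup_left (conj_WA_le c hAH hb)
    have h4 := Subgroup.card_le_of_le h3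
    have h5 : Nat.card ↥(WA p V H A ⊔ ⁅V, B⁆) ≤ p ^ 2 * p := by
      rw [← h2]; exact Nat.le_mul_of_pos_right _ Nat.card_pos
    rw [h1] at h4
    have h6 : p ^ 2 * p ^ 2 ≤ p ^ 2 * p := h4.trans h5
    have h7 : p ^ 2 ≤ p := Nat.le_of_mul_le_mul_left h6 (pow_pos hp.pos 2)
    have h8 : p * p ≤ p * 1 := by rw [mul_one, ← sq]; exact h7
    have h9 := Nat.le_of_mul_le_mul_left h8 hp.pos
    exact absurd hp.one_lt (not_lt.mpr h9)
  rcases WA_dichotomy c h613 hAH hA hA'H hA' with h | h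
  · have hE := EA_eq_of_WA_eq c h613 hAH hA hA'H hA' h
    rw [EA_conj hbH] at hE
    exact mem_normalizer_of_conj_smul_le hE.ge
  · exact absurd h hne

/-- `H` is generated by its minimal offenders. -/
theorem H_le_iSup_minOff (c : Ctx p V H) :
    H ≤ ⨆ B : {B : Subgroup G // B ≤ H ∧ IsMinOff p V B}, (B : Subgroup G) := by
  calc H = ⨆ A : {A : Subgroup G // A ≤ H ∧ IsBestOffenderOn p V A}, (A : Subgroup G) := c.hS3
    _ ≤ _ := by
      apply iSup_le
      rintro ⟨A, hAH, hA⟩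
      refine (Cfsg.Agent.S0612.le_tv V H c.hV c.hHV c.hf c.hS1 _ A hAH hA rfl).trans ?_
      apply iSup_le
      rintro ⟨B, hBA, hB1, hB2⟩
      have hBH : B ≤ H := hBA.trans hAH
      have hmin := Cfsg.Agent.S0612.minimal_of_card_prime c.hf hBH hB2
      exact le_iSup (fun B : {B : Subgroup G // B ≤ H ∧ IsMinOff p V B} => (B : Subgroup G))
        ⟨B, hBH, hB1, hmin.1, hmin.2⟩

/-- `H` normalizes `E_A`. -/
theorem H_le_normalizer_EA (c : Ctx p V H) (h613 : Pair613 p V H) (hAH : A ≤ H)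
    (hA : IsMinOff p V A) : H ≤ Subgroup.normalizer ((EA p H A : Subgroup G) : Set G) := by
  refine (H_le_iSup_minOff c).trans (iSup_le ?_)
  rintro ⟨B, hBH, hB⟩
  exact minOff_le_normalizer_EA c h613 hAH hA hBH hB

/-- The elements of the minimal offenders of `H`. -/
def minSet (p : ℕ) (V H : Subgroup G) : Set G :=
  {g | ∃ B : Subgroup G, B ≤ H ∧ IsMinOff p V B ∧ g ∈ B}

theorem H_eq_closure_minSet (c : Ctx p V H) : H = Subgroup.closure (minSet p V H) := by
  apply le_antisymm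
  · refine (H_le_iSup_minOff c).trans (iSup_le ?_)
    rintro ⟨B, hBH, hB⟩ g hg
    exact Subgroup.subset_closure ⟨B, hBH, hB, hg⟩
  · rw [Subgroup.closure_le]
    rintro g ⟨B, hBH, -, hg⟩
    exact hBH hg

theorem pow_eq_one_of_mem_minSet (c : Ctx p V H) {g : G} (hg : g ∈ minSet p V H) :
    ∃ k : ℕ, g ^ (p ^ k) = 1 := by
  obtain ⟨B, hBH, hB, hg⟩ := hg
  refine ⟨1, ?_⟩
  rw [pow_one]
  have := pow_card_eq_one' (G := ↥B) (x := ⟨g, hg⟩)
  rw [hB.card c hBH] at this
  exact congrArg Subtype.val this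

theorem H_le_normalizer_WA (c : Ctx p V H) (h613 : Pair613 p V H) (hAH : A ≤ H)
    (hA : IsMinOff p V A) : H ≤ Subgroup.normalizer ((WA p V H A : Subgroup G) : Set G) :=
  le_normalizer_commutator c.hHV (H_le_normalizer_EA c h613 hAH hA)

/-- The complement `F_A = C_H(W_A)` of `E_A` in `H`. -/
def FA (p : ℕ) (V H A : Subgroup G) : Subgroup G :=
  H ⊓ Subgroup.centralizer ((WA p V H A : Subgroup G) : Set G)

theorem FA_le_H : FA p V H A ≤ H := inf_le_left

theorem EA_inf_FA (c : Ctx p V H) (h613 : Pair613 p V H) (hAH : A ≤ H)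
    (hA : IsMinOff p V A) : EA p H A ⊓ FA p V H A = ⊥ := by
  rw [eq_bot_iff, ← EA_inf_cent_WA c h613 hAH hA]
  exact inf_le_inf_left _ inf_le_right

theorem comm_EA_FA (c : Ctx p V H) (h613 : Pair613 p V H) (hAH : A ≤ H)
    (hA : IsMinOff p V A) : ⁅EA p H A, FA p V H A⁆ = ⊥ := by
  have h1 : ⁅EA p H A, FA p V H A⁆ ≤ EA p H A :=
    commutator_le_of_le_normalizer (FA_le_H.trans (H_le_normalizer_EA c h613 hAH hA))
  have hEF : EA p H A ≤ Subgroup.normalizer ((FA p V H A : Subgroup G) : Set G) :=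
    le_normalizer_inf ((EA_le_H hAH).trans Subgroup.le_normalizer)
      (le_normalizer_centralizer (EA_norm_WA c hAH))
  have h2 : ⁅EA p H A, FA p V H A⁆ ≤ FA p V H A := by
    rw [Subgroup.commutator_comm]
    exact commutator_le_of_le_normalizer hEF
  rw [eq_bot_iff, ← EA_inf_FA c h613 hAH hA]
  exact le_inf h1 h2

theorem EA_sup_FA (c : Ctx p V H) (h613 : Pair613 p V H) (hAH : A ≤ H)
    (hA : IsMinOff p V A) : EA p H A ⊔ FA p V H A = H := by
  have eA := eData c h613 hAH hA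
  have hWV : WA p V H A ≤ V := WA_le_V c hAH
  apply Subgroup.eq_of_le_of_card_ge (sup_le (EA_le_H hAH) FA_le_H)
  have h1 := card_le_card_cent_mul_card_SL (p := p) (W := WA p V H A) (X := H)
    (fun a ha b hb => c.hVc a (hWV ha) b (hWV hb)) (fun w hw => c.hV.2 w (hWV hw)) eA.hcardW
    (H_le_normalizer_WA c h613 hAH hA) (minSet p V H) (H_eq_closure_minSet c)
    (fun g hg => pow_eq_one_of_mem_minSet c hg)
  obtain ⟨e⟩ := eA.hiso
  rw [← Nat.card_congr e.toEquiv] at h1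
  have h2 := card_sup_mul_card_inf (M := FA p V H A) (K := EA p H A)
    (FA_le_H.trans (H_le_normalizer_EA c h613 hAH hA))
  rw [inf_comm, EA_inf_FA c h613 hAH hA, Subgroup.card_bot, mul_one, sup_comm] at h2
  rw [h2]
  exact h1

theorem comm_V_FA_le (c : Ctx p V H) (h613 : Pair613 p V H) (hAH : A ≤ H)
    (hA : IsMinOff p V A) :
    ⁅V, FA p V H A⁆ ≤ V ⊓ Subgroup.centralizer ((EA p H A : Subgroup G) : Set G) := by
  refine le_inf (c.comm_le_V FA_le_H) ?_
  apply Subgroup.commutator_eq_bot_iff_le_centralizer.mp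
  apply Subgroup.commutator_commutator_eq_bot_of_rotate
  · rw [Subgroup.commutator_comm (FA p V H A), comm_EA_FA c h613 hAH hA]
    exact Subgroup.commutator_eq_bot_iff_le_centralizer.mpr bot_le
  · rw [Subgroup.commutator_comm (EA p H A) V]
    apply Subgroup.commutator_eq_bot_iff_le_centralizer.mpr
    exact Subgroup.le_centralizer_iff.mp inf_le_right

/-- The statement of S0616 in terms of `E_A`, `W_A`, `F_A`. -/
theorem main616 (c : Ctx p V H) (h613 : Pair613 p V H) (hAH : A ≤ H) (hA : IsMinOff p V A) :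
    (p = 2 ∨ p = 3) ∧
    Nonempty (↥(EA p H A) ≃* Matrix.SpecialLinearGroup (Fin 2) (ZMod p)) ∧
    Nat.card ↥(WA p V H A) = p ^ 2 ∧
    WA p V H A ⊓ (V ⊓ Subgroup.centralizer ((EA p H A : Subgroup G) : Set G)) = ⊥ ∧
    WA p V H A ⊔ (V ⊓ Subgroup.centralizer ((EA p H A : Subgroup G) : Set G)) = V ∧
    ⁅EA p H A, FA p V H A⁆ = ⊥ ∧
    EA p H A ⊓ FA p V H A = ⊥ ∧
    EA p H A ⊔ FA p V H A = H ∧
    ⁅V, FA p V H A⁆ ≤ V ⊓ Subgroup.centralizer ((EA p H A : Subgroup G) : Set G) := by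
  have eA := eData c h613 hAH hA
  refine ⟨eA.hp23, eA.hiso, eA.hcardW, ?_, eA.hsup, comm_EA_FA c h613 hAH hA,
    EA_inf_FA c h613 hAH hA, EA_sup_FA c h613 hAH hA, comm_V_FA_le c h613 hAH hA⟩
  have hN : WA p V H A ⊓ Subgroup.centralizer ((EA p H A : Subgroup G) : Set G) = ⊥ := eA.hN
  rw [eq_bot_iff, ← hN]
  exact inf_le_inf_left _ inf_le_right

end Cfsg.Agent.Lib.Helper22.Offender
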