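import Mathlib
import Cfsg.Agent.Lib.Helper22.Offender8

/-!
# The structure theorem: `H = ×_E E`, `V = C_V(H) × ×_E [V, E]` (helper22)
-/

set_option autoImplicit false
open Cfsg
open scoped commutatorElement Pointwise

namespace Cfsg.Agent.Lib.Helper22.Offender

open Cfsg.Agent.S0610 Cfsg.Agent.S0615 Cfsg.Agent.Lib.Helper72

section lattice

variable {G : Type*} [Group G]

/-- One half of the modular law, for `W` normalizing `X`. -/
theorem modular_le {W X C : Subgroup G} (hWX : W ≤ Subgroup.normalizer (X : Set G))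
    (hXC : X ≤ C) : (W ⊔ X) ⊓ C ≤ (W ⊓ C) ⊔ X := by
  intro y hy
  obtain ⟨hy1, hyC⟩ := Subgroup.mem_inf.mp hy
  have h1 : y ∈ (↑(W ⊔ X) : Set G) := hy1
  rw [Subgroup.coe_mul_of_left_le_normalizer_right W X hWX] at h1
  obtain ⟨w, hw, x, hx, rfl⟩ := Set.mem_mul.mp h1
  have hwC : w ∈ C := by
    have := C.mul_mem hyC (C.inv_mem (hXC hx))
    simpa using this
  exact Subgroup.mul_mem _ ((le_sup_left : W ⊓ C ≤ (W ⊓ C) ⊔ X) (Subgroup.mem_inf.mpr ⟨hw, hwC⟩))
    ((le_sup_right : X ≤ (W ⊓ C) ⊔ X) hx)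

variable {ι : Type*} [DecidableEq ι] {V : Subgroup G}

theorem finset_sup_le_of_ne (W C : ι → Subgroup G) (hne : ∀ i j, i ≠ j → W j ≤ C i)
    {i : ι} {S : Finset ι} (hi : i ∉ S) : S.sup W ≤ C i := by
  apply Finset.sup_le
  intro j hj
  exact hne i j (fun h => hi (h ▸ hj))

/-- Independence of a family of complemented pieces of an abelian group. -/
theorem finset_sup_inf_eq_bot (hVc : ∀ x ∈ V, ∀ y ∈ V, x * y = y * x) (W C : ι → Subgroup G)
    (hWV : ∀ i, W i ≤ V) (hWC : ∀ i, W i ⊓ C i = ⊥) (hne : ∀ i j, i ≠ j → W j ≤ C i)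
    (S : Finset ι) : S.sup W ⊓ (V ⊓ S.inf C) = ⊥ := by
  induction S using Finset.induction_on with
  | empty => simp
  | insert i S hi ih =>
    rw [Finset.sup_insert, Finset.inf_insert, eq_bot_iff, ← ih]
    have hSV : S.sup W ≤ V := Finset.sup_le (fun j _ => hWV j)
    have hnorm : W i ≤ Subgroup.normalizer ((S.sup W : Subgroup G) : Set G) := by
      refine le_trans ?_ (Subgroup.centralizer_le_normalizer _)
      intro a ha
      rw [Subgroup.mem_centralizer_iff]
      intro b hb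
      exact hVc b (hSV hb) a (hWV i ha)
    have h1 := modular_le hnorm (finset_sup_le_of_ne W C hne hi)
    rw [hWC i, bot_sup_eq] at h1
    refine le_inf ?_ (le_inf (inf_le_right.trans inf_le_left)
      (inf_le_right.trans (inf_le_right.trans inf_le_right)))
    refine le_trans ?_ h1
    exact le_inf inf_le_left (inf_le_right.trans (inf_le_right.trans inf_le_left))

/-- Spanning of a family of complemented pieces of an abelian group. -/
theorem finset_sup_sup_eq (hVc : ∀ x ∈ V, ∀ y ∈ V, x * y = y * x) (W C : ι → Subgroup G)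
    (hWV : ∀ i, W i ≤ V) (hsup : ∀ i, W i ⊔ (V ⊓ C i) = V) (hne : ∀ i j, i ≠ j → W j ≤ C i)
    (S : Finset ι) : S.sup W ⊔ (V ⊓ S.inf C) = V := by
  induction S using Finset.induction_on with
  | empty => simp
  | insert i S hi ih =>
    have hSV : S.sup W ≤ V := Finset.sup_le (fun j _ => hWV j)
    apply le_antisymm
    · rw [Finset.sup_insert]
      exact sup_le (sup_le (hWV i) hSV) inf_le_left
    · rw [Finset.sup_insert, Finset.inf_insert]
      have hWiC : W i ≤ V ⊓ S.inf C := by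
        refine le_inf (hWV i) (Finset.le_inf ?_)
        intro j hj
        exact hne j i (fun h => hi (h ▸ hj))
      have hnorm : V ⊓ C i ≤ Subgroup.normalizer ((W i : Subgroup G) : Set G) := by
        refine le_trans ?_ (Subgroup.centralizer_le_normalizer _)
        intro a ha
        rw [Subgroup.mem_centralizer_iff]
        intro b hb
        exact hVc b (hWV i hb) a (Subgroup.mem_inf.mp ha).1
      have h1 := modular_le (C := V ⊓ S.inf C) hnorm hWiC
      rw [sup_comm (V ⊓ C i) (W i), hsup i] at h1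
      have h2 : V ⊓ S.inf C ≤ W i ⊔ (V ⊓ (C i ⊓ S.inf C)) := by
        calc V ⊓ S.inf C ≤ V ⊓ (V ⊓ S.inf C) := le_inf inf_le_left le_rfl
          _ ≤ (V ⊓ C i) ⊓ (V ⊓ S.inf C) ⊔ W i := h1
          _ ≤ W i ⊔ (V ⊓ (C i ⊓ S.inf C)) := by
            rw [sup_comm]
            refine sup_le_sup_left ?_ _
            exact le_inf (inf_le_left.trans inf_le_left)
              (le_inf (inf_le_left.trans inf_le_right) (inf_le_right.trans inf_le_right))
      calc V = S.sup W ⊔ (V ⊓ S.inf C) := ih.symm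
        _ ≤ S.sup W ⊔ (W i ⊔ (V ⊓ (C i ⊓ S.inf C))) := sup_le_sup_left h2 _
        _ = W i ⊔ S.sup W ⊔ (V ⊓ (C i ⊓ S.inf C)) := by
            rw [← sup_assoc, sup_comm (S.sup W) (W i)]

end lattice

variable {G : Type*} [Group G] [Finite G] {p : ℕ} [Fact p.Prime] {V H A B : Subgroup G}

/-- Distinct `E`'s: the second one centralizes the module of the first. -/
theorem EA_le_FA_of_ne (c : Ctx p V H) (h613 : Pair613 p V H) (hAH : A ≤ H)
    (hA : IsMinOff p V A) (hBH : B ≤ H) (hB : IsMinOff p V B) (hne : EA p H A ≠ EA p H B) :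
    EA p H B ≤ FA p V H A := by
  refine le_inf (EA_le_H hBH) ?_
  have hW : WA p V H A ≠ WA p V H B := fun h => hne (EA_eq_of_WA_eq c h613 hAH hA hBH hB h)
  have hinf : WA p V H A ⊓ WA p V H B = ⊥ := by
    rcases WA_dichotomy c h613 hAH hA hBH hB with h | h
    · exact absurd h hW
    · exact h
  have h1 : ⁅WA p V H A, EA p H B⁆ ≤ WA p V H A :=
    commutator_le_of_le_normalizer ((EA_le_H hBH).trans (H_le_normalizer_WA c h613 hAH hA))
  have h2 : ⁅WA p V H A, EA p H B⁆ ≤ WA p V H B :=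
    Subgroup.commutator_mono (WA_le_V c hAH) le_rfl
  have h3 : ⁅WA p V H A, EA p H B⁆ = ⊥ := by
    rw [eq_bot_iff, ← hinf]
    exact le_inf h1 h2
  exact Subgroup.le_centralizer_iff.mp (Subgroup.commutator_eq_bot_iff_le_centralizer.mp h3)

/-- Distinct `E`'s: `[V, E_B] ≤ C_V(E_A)`. -/
theorem WA_le_cent_of_ne (c : Ctx p V H) (h613 : Pair613 p V H) (hAH : A ≤ H)
    (hA : IsMinOff p V A) (hBH : B ≤ H) (hB : IsMinOff p V B) (hne : EA p H A ≠ EA p H B) :
    WA p V H B ≤ V ⊓ Subgroup.centralizer ((EA p H A : Subgroup G) : Set G) :=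
  (Subgroup.commutator_mono le_rfl (EA_le_FA_of_ne c h613 hAH hA hBH hB hne)).trans
    (comm_V_FA_le c h613 hAH hA)

theorem exists_minOff (c : Ctx p V H) (hH1 : H ≠ ⊥) : ∃ A : Subgroup G, A ≤ H ∧ IsMinOff p V A := by
  by_contra h
  apply hH1
  rw [eq_bot_iff]
  refine (H_le_iSup_minOff c).trans (iSup_le ?_)
  rintro ⟨B, hBH, hB⟩
  exact absurd ⟨B, hBH, hB⟩ h

/-- The family of the statement of S0617. -/
def IsEFam (p : ℕ) (V H E : Subgroup G) : Prop :=
  ∃ A : Subgroup G, A ≤ H ∧ IsBestOffenderOn p V A ∧ ⁅V, A⁆ ≠ ⊥ ∧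
    (∀ B : Subgroup G, B ≤ A → IsBestOffenderOn p V B → ⁅V, B⁆ ≠ ⊥ → B = A) ∧
      E = ⁅((pPrimeCore p ↥H).map H.subtype), A⁆ ⊔ A

theorem IsEFam.exists {E : Subgroup G} (hE : IsEFam p V H E) :
    ∃ A : Subgroup G, A ≤ H ∧ IsMinOff p V A ∧ E = EA p H A := by
  obtain ⟨A, hAH, h1, h2, h3, h4⟩ := hE
  exact ⟨A, hAH, ⟨h1, h2, h3⟩, h4⟩

theorem isEFam_EA (hAH : A ≤ H) (hA : IsMinOff p V A) : IsEFam p V H (EA p H A) :=
  ⟨A, hAH, hA.1, hA.2.1, hA.2.2, rfl⟩

theorem IsEFam.le_H {E : Subgroup G} (hE : IsEFam p V H E) : E ≤ H := by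
  obtain ⟨A, hAH, -, rfl⟩ := hE.exists
  exact EA_le_H hAH

/-- The statement of S0617. -/
theorem main617 (c : Ctx p V H) (h613 : Pair613 p V H) (hH1 : H ≠ ⊥) :
    (p = 2 ∨ p = 3) ∧
    (∀ E : {E : Subgroup G // IsEFam p V H E},
      H ≤ Subgroup.normalizer ((E : Subgroup G) : Set G) ∧
      Nonempty (↥(E : Subgroup G) ≃* Matrix.SpecialLinearGroup (Fin 2) (ZMod p)) ∧
      Nat.card ↥(⁅V, (E : Subgroup G)⁆) = p ^ 2) ∧
    iSupIndep (fun E : {E : Subgroup G // IsEFam p V H E} => (E : Subgroup G)) ∧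
    (⨆ E : {E : Subgroup G // IsEFam p V H E}, (E : Subgroup G)) = H ∧
    iSupIndep (fun o : Option {E : Subgroup G // IsEFam p V H E} =>
      o.elim (V ⊓ Subgroup.centralizer (H : Set G)) (fun E => ⁅V, (E : Subgroup G)⁆)) ∧
    (V ⊓ Subgroup.centralizer (H : Set G)) ⊔
      (⨆ E : {E : Subgroup G // IsEFam p V H E}, ⁅V, (E : Subgroup G)⁆) = V := by
  classical
  -- facts about pairs of members of the family
  have hpair : ∀ E E' : {E : Subgroup G // IsEFam p V H E}, E ≠ E' →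
      (E' : Subgroup G) ≤ H ⊓ Subgroup.centralizer ((⁅V, (E : Subgroup G)⁆ : Subgroup G) : Set G) ∧
      ⁅V, (E' : Subgroup G)⁆ ≤ V ⊓ Subgroup.centralizer ((E : Subgroup G) : Set G) := by
    rintro ⟨E, hE⟩ ⟨E', hE'⟩ hne
    obtain ⟨A, hAH, hA, rfl⟩ := hE.exists
    obtain ⟨B, hBH, hB, rfl⟩ := hE'.exists
    have hne' : EA p H A ≠ EA p H B := fun h => hne (Subtype.ext h)
    exact ⟨EA_le_FA_of_ne c h613 hAH hA hBH hB hne', WA_le_cent_of_ne c h613 hAH hA hBH hB hne'⟩
  have hmem : ∀ E : {E : Subgroup G // IsEFam p V H E},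
      (E : Subgroup G) ⊓
        (H ⊓ Subgroup.centralizer ((⁅V, (E : Subgroup G)⁆ : Subgroup G) : Set G)) = ⊥ ∧
      ⁅V, (E : Subgroup G)⁆ ⊓ (V ⊓ Subgroup.centralizer ((E : Subgroup G) : Set G)) = ⊥ ∧
      ⁅V, (E : Subgroup G)⁆ ⊔ (V ⊓ Subgroup.centralizer ((E : Subgroup G) : Set G)) = V ∧
      ⁅V, (E : Subgroup G)⁆ ≤ V := by
    rintro ⟨E, hE⟩
    obtain ⟨A, hAH, hA, rfl⟩ := hE.exists
    have m := main616 c h613 hAH hA
    exact ⟨m.2.2.2.2.2.2.1, m.2.2.2.1, m.2.2.2.2.1, WA_le_V c hAH⟩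
  have hEH : ∀ E : {E : Subgroup G // IsEFam p V H E}, (E : Subgroup G) ≤ H :=
    fun E => E.2.le_H
  -- the supremum of the family
  have hsupE : (⨆ E : {E : Subgroup G // IsEFam p V H E}, (E : Subgroup G)) = H := by
    apply le_antisymm (iSup_le hEH)
    refine (H_le_iSup_minOff c).trans (iSup_le ?_)
    rintro ⟨B, hBH, hB⟩
    exact le_trans (le_sup_right : B ≤ EA p H B)
      (le_iSup (fun E : {E : Subgroup G // IsEFam p V H E} => (E : Subgroup G))
        ⟨EA p H B, isEFam_EA hBH hB⟩)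
  -- centralizers
  have hcentH : V ⊓ (⨅ E : {E : Subgroup G // IsEFam p V H E},
      Subgroup.centralizer ((E : Subgroup G) : Set G)) = V ⊓ Subgroup.centralizer (H : Set G) := by
    apply le_antisymm
    · refine le_inf inf_le_left ?_
      apply Subgroup.le_centralizer_iff.mp
      refine le_trans hsupE.ge (iSup_le ?_)
      intro E
      apply Subgroup.le_centralizer_iff.mp
      exact inf_le_right.trans (iInf_le _ E)
    · refine le_inf inf_le_left (le_iInf ?_)
      intro E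
      exact inf_le_right.trans (Subgroup.centralizer_le (by exact_mod_cast hEH E))
  have : Fintype {E : Subgroup G // IsEFam p V H E} := Fintype.ofFinite _
  have hA' := finset_sup_inf_eq_bot (V := V) c.hVc
    (fun E : {E : Subgroup G // IsEFam p V H E} => ⁅V, (E : Subgroup G)⁆)
    (fun E => Subgroup.centralizer ((E : Subgroup G) : Set G))
    (fun E => (hmem E).2.2.2)
    (fun E => by
      rw [eq_bot_iff, ← (hmem E).2.1]
      exact le_inf inf_le_left (le_inf (inf_le_left.trans (hmem E).2.2.2) inf_le_right))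
    (fun E E' hne => ((hpair E E' hne).2).trans inf_le_right) Finset.univ
  have hB' := finset_sup_sup_eq (V := V) c.hVc
    (fun E : {E : Subgroup G // IsEFam p V H E} => ⁅V, (E : Subgroup G)⁆)
    (fun E => Subgroup.centralizer ((E : Subgroup G) : Set G))
    (fun E => (hmem E).2.2.2) (fun E => (hmem E).2.2.1)
    (fun E E' hne => ((hpair E E' hne).2).trans inf_le_right) Finset.univ
  rw [Finset.sup_univ_eq_iSup, Finset.inf_univ_eq_iInf, hcentH] at hA' hB'
  obtain ⟨A₀, hA₀H, hA₀⟩ := exists_minOff c hH1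
  refine ⟨(eData c h613 hA₀H hA₀).hp23, ?_, ?_, hsupE, ?_, ?_⟩
  · rintro ⟨E, hE⟩
    obtain ⟨A, hAH, hA, rfl⟩ := hE.exists
    have e := eData c h613 hAH hA
    exact ⟨H_le_normalizer_EA c h613 hAH hA, e.hiso, e.hcardW⟩
  · rw [iSupIndep_def]
    intro E
    rw [disjoint_iff, eq_bot_iff, ← (hmem E).1]
    refine le_inf inf_le_left (inf_le_right.trans ?_)
    apply iSup₂_le
    intro E' hne
    exact (hpair E E' (Ne.symm hne)).1
  · rw [iSupIndep_def]
    intro o
    cases o with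
    | none =>
      rw [disjoint_iff, eq_bot_iff, ← hA', inf_comm]
      refine inf_le_inf_right _ ?_
      apply iSup₂_le
      intro o' hne
      cases o' with
      | none => exact absurd rfl hne
      | some E' =>
        exact le_iSup (fun E : {E : Subgroup G // IsEFam p V H E} => ⁅V, (E : Subgroup G)⁆) E'
    | some E =>
      rw [disjoint_iff, eq_bot_iff, ← (hmem E).2.1]
      refine inf_le_inf_left _ ?_
      apply iSup₂_le
      intro o' hne
      cases o' with
      | none =>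
        exact le_inf inf_le_left
          (inf_le_right.trans (Subgroup.centralizer_le (by exact_mod_cast hEH E)))
      | some E' =>
        exact (hpair E E' (fun h => hne (by rw [h]))).2
  · rw [sup_comm]
    exact hB'

end Cfsg.Agent.Lib.Helper22.Offender
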