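import Mathlib
import Cfsg.Agent.Lib.Helper22.Offender8
import Cfsg.Agent.Lib.Helper48.Coprime
import Cfsg.Agent.S0613

/-!
# `Q_A = [O_{p'}(H), A]` is a `3`-group (`p = 2`) or a non-abelian `2`-group (`p = 3`) (helper22)
-/

set_option autoImplicit false
open Cfsg
open scoped commutatorElement Pointwise

namespace Cfsg.Agent.Lib.Helper22.Offender

open Cfsg.Agent.S0610 Cfsg.Agent.S0615 Cfsg.Agent.Lib.Helper72

variable {G : Type*} [Group G] [Finite G] {p : ℕ} [Fact p.Prime] {V H A B : Subgroup G}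

/-- A `p`-group `A` normalizing `Q` with `p ∤ |Q| - 1` has a nontrivial fixed point on `Q`. -/
theorem inf_centralizer_ne_bot_of_not_dvd {A Q : Subgroup G} (hA : IsPGroup p A)
    (hAQ : A ≤ Subgroup.normalizer (Q : Set G)) (h : ¬ p ∣ Nat.card Q - 1) :
    Q ⊓ Subgroup.centralizer (A : Set G) ≠ ⊥ := by
  have hS : ∀ b ∈ A, ∀ y ∈ ((Q : Set G) \ {1}), b * y * b⁻¹ ∈ ((Q : Set G) \ {1}) := by
    rintro b hb y ⟨hy, hy1⟩
    refine ⟨conj_mem_of_le_normalizer hAQ hb hy, ?_⟩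
    intro h1
    apply hy1
    rw [Set.mem_singleton_iff] at h1 ⊢
    have : y = b⁻¹ * (b * y * b⁻¹) * b := by group
    rw [this, h1]; group
  have hcard : Nat.card ↥((Q : Set G) \ {1}) = Nat.card Q - 1 := by
    rw [Nat.card_coe_set_eq, Set.ncard_sdiff_singleton_of_mem (Subgroup.one_mem Q),
      ← Nat.card_coe_set_eq]
    rfl
  obtain ⟨y, ⟨hyQ, hy1⟩, hy⟩ := Cfsg.Agent.Lib.Helper48.exists_fixed_of_conj_stable A hA
    ((Q : Set G) \ {1}) hS (by rw [hcard]; exact h)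
  intro hbot
  apply hy1
  rw [Set.mem_singleton_iff]
  have : y ∈ Q ⊓ Subgroup.centralizer (A : Set G) := by
    refine Subgroup.mem_inf.mpr ⟨hyQ, ?_⟩
    rw [Subgroup.mem_centralizer_iff]
    intro b hb
    have := hy b hb
    calc b * y = (b * y * b⁻¹) * b := by group
      _ = y * b := by rw [this]
  rw [hbot] at this
  exact Subgroup.mem_bot.mp this

/-- `[Q_A, A] = Q_A`. -/
theorem comm_QA_A (c : Ctx p V H) (hAH : A ≤ H) (hA : IsMinOff p V A) :
    ⁅QA p H A, A⁆ = QA p H A := by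
  have hp : p.Prime := Fact.out
  exact Cfsg.Agent.Lib.Helper48.commutator_commutator_eq (hA.isPGroup c hAH)
    ((Nat.Prime.coprime_iff_not_dvd hp).mp (coreL_card_coprime p H).symm) (A_norm_coreL hAH)

/-- If `Q_A` is abelian then `C_{Q_A}(A) = 1`. -/
theorem QA_inf_cent_A_of_comm (c : Ctx p V H) (hAH : A ≤ H) (hA : IsMinOff p V A)
    (hQc : ∀ x ∈ QA p H A, ∀ y ∈ QA p H A, x * y = y * x) :
    QA p H A ⊓ Subgroup.centralizer (A : Set G) = ⊥ := by
  obtain ⟨a, haA, hAz⟩ := Cfsg.Agent.S0613.exists_zpowers_eq_of_card_prime (hA.card c hAH)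
  have h1 := Cfsg.Agent.S0611.card_comm_mul_card_cent (QA p H A) hQc a (A_norm_QA hAH haA)
  rw [← hAz, comm_QA_A c hAH hA] at h1
  have h2 : Nat.card ↥(QA p H A ⊓ Subgroup.centralizer (A : Set G)) = 1 := by
    have hpos : 0 < Nat.card ↥(QA p H A) := Nat.card_pos
    exact Nat.eq_of_mul_eq_mul_left hpos (by rw [h1, mul_one])
  exact Subgroup.card_eq_one.mp h2

/-- If `Q_A` is abelian then `p ∣ |Q_A| - 1`. -/
theorem dvd_card_QA_sub_one_of_comm (c : Ctx p V H) (hAH : A ≤ H) (hA : IsMinOff p V A)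
    (hQc : ∀ x ∈ QA p H A, ∀ y ∈ QA p H A, x * y = y * x) :
    p ∣ Nat.card ↥(QA p H A) - 1 := by
  by_contra h
  exact inf_centralizer_ne_bot_of_not_dvd (hA.isPGroup c hAH) (A_norm_QA hAH) h
    (QA_inf_cent_A_of_comm c hAH hA hQc)

/-- The statement of S0614 in terms of `Q_A`. -/
theorem main614 (c : Ctx p V H) (h613 : Pair613 p V H) (hAH : A ≤ H) (hA : IsMinOff p V A) :
    (p = 2 ∧ IsPGroup 3 ↥(QA p H A)) ∨
      (p = 3 ∧ IsPGroup 2 ↥(QA p H A) ∧ ¬ IsMulCommutative ↥(QA p H A)) := by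
  have hcard := card_QA c h613 hAH hA
  rcases (eData c h613 hAH hA).hp23 with h2 | h3
  · left
    refine ⟨h2, IsPGroup.of_card (n := 1) ?_⟩
    rw [hcard, h2]; norm_num
  · right
    refine ⟨h3, IsPGroup.of_card (n := 3) (by rw [hcard, h3]; norm_num), ?_⟩
    intro hcomm
    have hQc : ∀ x ∈ QA p H A, ∀ y ∈ QA p H A, x * y = y * x := by
      intro x hx y hy
      have := hcomm.is_comm.comm (⟨x, hx⟩ : ↥(QA p H A)) ⟨y, hy⟩
      exact congrArg Subtype.val this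
    have h := dvd_card_QA_sub_one_of_comm c hAH hA hQc
    rw [hcard, h3] at h
    norm_num at h

end Cfsg.Agent.Lib.Helper22.Offender
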