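import Mathlib
import Cfsg.Agent.Lib.Helper22.S1936Defs
import Cfsg.Agent.Lib.Helper21.StronglyEmbedded
import Cfsg.Agent.Lib.Helper47.Subnormal
import Cfsg.Agent.Lib.Helper39.S1936LocU
import Cfsg.Agent.S0058
import Cfsg.Agent.S0206

/-!
# S1936 module DICH (sheet §D): the dichotomy D1 and D2(i)-(iii), exact skeleton statements.

`*_of` versions take the conclusion of LOC-[U2] as a hypothesis (`U2 p G`); the exact versions at the end
discharge it with `Cfsg.Agent.Lib.Helper39.S1936.factor_pCoreOf_normalizer`.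
-/

set_option autoImplicit false
set_option linter.unusedSectionVars false
set_option linter.unusedVariables false
set_option linter.style.haveILetI false
universe u

namespace Cfsg.Agent.Lib.Helper22.S1936

open Cfsg.Agent.Lib.Helper21
open Cfsg.Agent.Lib.Helper47 (pCoreOf_isPGroup pCoreOf_le le_pCoreOf normalizer_le_normalizer_pCoreOf)

variable {G : Type u} [Group G] [Finite G] {p : ℕ} [Fact p.Prime]

def U2 (p : ℕ) (G : Type u) [Group G] : Prop :=
  ∀ (H : Subgroup G), Group.IsSolvable ↥H → ∀ (S : Subgroup G), S ≤ H → IsPGroup 2 ↥S →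
    Odd (S.relIndex H) → ∀ x ∈ H,
      ∃ r ∈ Cfsg.pCoreOf p H, ∃ n ∈ H ⊓ Subgroup.normalizer (S : Set G), x = r * n

omit [Finite G] in
theorem not_odd_card_of_mem_involution {K : Subgroup G} [Finite K] {a : G} (ha : orderOf a = 2) (haK : a ∈ K) :
    ¬ Odd (Nat.card K) := by
  intro hodd
  have hdvd : orderOf (⟨a, haK⟩ : K) ∣ Nat.card K := orderOf_dvd_natCard _
  rw [Subgroup.orderOf_mk, ha] at hdvd
  exact (Nat.not_even_iff_odd.mpr hodd) (even_iff_two_dvd.mpr hdvd)

omit [Finite G] in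
theorem sylow_le_of_datum {T : Sylow 2 G} {M : Subgroup G} (hD : SEDatum T M) : (T : Subgroup G) ≤ M :=
  Subgroup.le_normalizer.trans hD.normT

omit [Finite G] in
/-- a nonidentity element of `T^g` is an involution, and its preimage lies in `T` -/
theorem involution_of_mem_conj {T : Sylow 2 G} {M : Subgroup G} (hD : SEDatum T M) {g s : G}
    (hs : s ∈ conjSub (T : Subgroup G) g) (hs1 : s ≠ 1) :
    g⁻¹ * s * g ∈ (T : Subgroup G) ∧ orderOf (g⁻¹ * s * g) = 2 ∧ orderOf s = 2 := by
  rw [conjSub, mem_map_conj_iff] at hs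
  have h1 : g⁻¹ * s * g ≠ 1 := by
    intro h
    apply hs1
    have : s = g * (g⁻¹ * s * g) * g⁻¹ := by group
    rw [this, h]; group
  have h2 : orderOf (g⁻¹ * s * g) = 2 :=
    orderOf_eq_two_of h1 (by rw [← pow_two]; exact hD.elem _ hs)
  refine ⟨hs, h2, ?_⟩
  have := orderOf_conj_eq_two h2 g
  have e : g * (g⁻¹ * s * g) * g⁻¹ = s := by group
  rwa [e] at this

/-- the normalizer of a nontrivial subgroup of `T^g` lies in `M^g` -/
theorem normalizer_le_conjSub {T : Sylow 2 G} {M : Subgroup G} (hD : SEDatum T M) (g : G)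
    (S : Subgroup G) (hS : S ≤ conjSub (T : Subgroup G) g) (hS1 : S ≠ ⊥) :
    Subgroup.normalizer (S : Set G) ≤ conjSub M g := by
  intro h hh
  rw [conjSub, mem_map_conj_iff]
  by_contra hk
  have hodd := hD.se.2.2 _ hk
  obtain ⟨⟨s, hsS⟩, hs1⟩ := (Subgroup.ne_bot_iff_exists_ne_one).1 hS1
  have hs1' : s ≠ 1 := fun h => hs1 (Subtype.ext h)
  obtain ⟨htT, ht2, -⟩ := involution_of_mem_conj hD (hS hsS) hs1'
  have hs' : h⁻¹ * s * h ∈ S := by
    have := (Subgroup.mem_normalizer_iff.1 hh (h⁻¹ * s * h)).2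
    apply this
    have e : h * (h⁻¹ * s * h) * h⁻¹ = s := by group
    rw [e]; exact hsS
  have hs'T := hS hs'
  rw [conjSub, mem_map_conj_iff] at hs'T
  have hmem : g⁻¹ * s * g ∈ M ⊓ M.map (MulAut.conj (g⁻¹ * h * g)).toMonoidHom := by
    refine Subgroup.mem_inf.2 ⟨sylow_le_of_datum hD htT, ?_⟩
    rw [mem_map_conj_iff]
    have e : (g⁻¹ * h * g)⁻¹ * (g⁻¹ * s * g) * (g⁻¹ * h * g) = g⁻¹ * (h⁻¹ * s * h) * g := by group
    rw [e]
    exact sylow_le_of_datum hD hs'T
  exact not_odd_card_of_mem_involution ht2 hmem hodd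

omit [Finite G] in
/-- centralizers of nonidentity elements of `T^g` lie in `M^g` -/
theorem centralizer_le_conjSub {T : Sylow 2 G} {M : Subgroup G} (hD : SEDatum T M) (g : G) {s : G}
    (hs : s ∈ conjSub (T : Subgroup G) g) (hs1 : s ≠ 1) :
    Subgroup.centralizer ({s} : Set G) ≤ conjSub M g := by
  obtain ⟨htT, ht2, -⟩ := involution_of_mem_conj hD hs hs1
  have ht1 : g⁻¹ * s * g ≠ 1 := inv_ne_one ht2
  intro c hc
  rw [conjSub, mem_map_conj_iff]
  apply hD.cent _ htT ht1
  rw [Subgroup.mem_centralizer_iff]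
  intro x hx
  rw [Set.mem_singleton_iff] at hx
  subst hx
  have hcs : s * c = c * s := Subgroup.mem_centralizer_iff.1 hc s (Set.mem_singleton s)
  calc g⁻¹ * s * g * (g⁻¹ * c * g) = g⁻¹ * (s * c) * g := by group
    _ = g⁻¹ * (c * s) * g := by rw [hcs]
    _ = g⁻¹ * c * g * (g⁻¹ * s * g) := by group

omit [Finite G] in
theorem conjSub_eq_of_mem {M : Subgroup G} {g : G} (hg : g ∈ M) : conjSub M g = M := by
  ext x
  rw [conjSub, mem_map_conj_iff]
  constructor
  · intro h
    have : x = g * (g⁻¹ * x * g) * g⁻¹ := by group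
    rw [this]
    exact M.mul_mem (M.mul_mem hg h) (M.inv_mem hg)
  · intro h
    exact M.mul_mem (M.mul_mem (M.inv_mem hg) h) hg

/-- DICH-[AP] -/
theorem apart_of_mem_of_not_mem {T : Sylow 2 G} {M : Subgroup G} (hD : SEDatum T M)
    {a u : G} (ha : orderOf a = 2) (haM : a ∈ M) (huM : u ∉ M) : Apart M a u := by
  rintro g ⟨hag, hug⟩
  by_cases hg : g ∈ M
  · rw [conjSub_eq_of_mem hg] at hug
    exact huM hug
  · have hodd := hD.se.2.2 g hg
    exact not_odd_card_of_mem_involution ha (Subgroup.mem_inf.2 ⟨haM, hag⟩) hodd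

/-- DICH-[OUT] -/
theorem exists_involution_not_mem (hG : MinCE p G) {T : Sylow 2 G} {M : Subgroup G} (hD : SEDatum T M) :
    ∃ u : G, orderOf u = 2 ∧ u ∉ M := by
  by_contra hcon
  push_neg at hcon
  haveI := hG.simple
  have hle : Subgroup.normalClosure {x : G | orderOf x = 2} ≤ M := by
    rw [Subgroup.normalClosure]
    apply (Subgroup.closure_le _).2
    intro x hx
    obtain ⟨y, hy, hxy⟩ := Group.mem_conjugatesOfSet_iff.1 hx
    obtain ⟨c, hc⟩ := isConj_iff.1 hxy
    apply hcon
    rw [← hc]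
    exact orderOf_conj_eq_two hy c
  obtain ⟨t, htM, ht⟩ := se_exists_involution hD.se
  have htn : t ∈ Subgroup.normalClosure {x : G | orderOf x = 2} := Subgroup.subset_normalClosure ht
  rcases (Subgroup.normalClosure_normal (s := {x : G | orderOf x = 2})).eq_bot_or_eq_top with h | h
  · rw [h, Subgroup.mem_bot] at htn
    exact inv_ne_one ht htn
  · rw [h] at hle
    exact hD.se.1 (top_le_iff.1 hle)

theorem sylow_smul_coe (T : Sylow 2 G) (g : G) :
    ((g • T : Sylow 2 G) : Subgroup G) = conjSub (T : Subgroup G) g := by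
  ext x
  rw [conjSub, mem_map_conj_iff, Sylow.coe_subgroup_smul, Subgroup.mem_pointwise_smul_iff_inv_smul_mem]
  simp [MulAut.smul_def]

/-- every 2-subgroup lies in a conjugate of `T` -/
theorem exists_le_conjSub_sylow (T : Sylow 2 G) (S : Subgroup G) (hS : IsPGroup 2 ↥S) :
    ∃ g : G, S ≤ conjSub (T : Subgroup G) g := by
  obtain ⟨Q, hQ⟩ := hS.exists_le_sylow
  obtain ⟨g, hg⟩ := MulAction.exists_smul_eq G T Q
  refine ⟨g, ?_⟩
  rw [← sylow_smul_coe, hg]
  exact hQ

theorem prime_ne_two (hG : MinCE p G) : p ≠ 2 := by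
  have := hG.hp5
  omega

/-- a 2-group and a `p`-group have coprime orders -/
theorem coprime_card_of_two_group_of_p_group (hp2 : p ≠ 2) {S R : Subgroup G} (hS : IsPGroup 2 ↥S)
    (hR : IsPGroup p ↥R) : (Nat.card ↥S).Coprime (Nat.card ↥R) := by
  obtain ⟨m, hm⟩ := (IsPGroup.iff_card).1 hS
  obtain ⟨n, hn⟩ := (IsPGroup.iff_card).1 hR
  rw [hm, hn]
  apply Nat.Coprime.pow
  exact (Nat.coprime_primes Nat.prime_two (Fact.out : p.Prime)).2 (Ne.symm hp2)

/-- a 2-subgroup is commutative (HP) -/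
theorem two_group_comm (hG : MinCE p G) {S : Subgroup G} (hS : IsPGroup 2 ↥S) : IsMulCommutative ↥S := by
  have hp2 := prime_ne_two hG
  obtain ⟨m, hm⟩ := (IsPGroup.iff_card).1 hS
  refine (hG.hp S ?_).1
  rw [hm]
  apply Nat.Coprime.pow_left
  exact (Nat.coprime_primes Nat.prime_two (Fact.out : p.Prime)).2 (Ne.symm hp2)

/-- Case `4 ∣ |L|` of the dichotomy. -/
theorem le_conjSub_of_four_dvd (hU2 : U2 p G) (hG : MinCE p G) {T : Sylow 2 G} {M : Subgroup G}
    (hD : SEDatum T M) (L : Subgroup G) (hL : L ≠ ⊤) (h4 : 4 ∣ Nat.card ↥L) :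
    ∃ g : G, L ≤ conjSub M g := by
  have hp2 := prime_ne_two hG
  have hsolv := hG.proper L hL
  obtain S0 : Sylow 2 L := default
  set S : Subgroup G := (S0 : Subgroup L).map L.subtype with hSdef
  have hSL : S ≤ L := Subgroup.map_subtype_le _
  have hS2 : IsPGroup 2 ↥S := S0.isPGroup'.map L.subtype
  have hScard : Nat.card ↥S = Nat.card ↥(S0 : Subgroup L) :=
    Nat.card_congr (Subgroup.equivMapOfInjective _ L.subtype L.subtype_injective).symm.toEquiv
  have hfac : 2 ≤ (Nat.card ↥L).factorization 2 := by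
    have h22 : (2 : ℕ) ^ 2 ∣ Nat.card ↥L := by norm_num; exact h4
    exact (Nat.Prime.pow_dvd_iff_le_factorization Nat.prime_two Nat.card_pos.ne').1 h22
  have h4S : 4 ∣ Nat.card ↥S := by
    rw [hScard, Sylow.card_eq_multiplicity S0]
    calc (4 : ℕ) = 2 ^ 2 := by norm_num
      _ ∣ 2 ^ (Nat.card ↥L).factorization 2 := pow_dvd_pow 2 hfac
  have hodd : Odd (S.relIndex L) := by
    rw [Subgroup.relIndex, hSdef, Subgroup.subgroupOf,
      Subgroup.comap_map_eq_self_of_injective L.subtype_injective]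
    have hcop := Sylow.card_coprime_index S0
    rw [Sylow.card_eq_multiplicity S0] at hcop
    have h2 : (2 : ℕ).Coprime (S0 : Subgroup L).index := by
      have : (2 : ℕ) ∣ 2 ^ (Nat.card ↥L).factorization 2 := dvd_pow_self 2 (by omega)
      exact Nat.Coprime.coprime_dvd_left this hcop
    exact Nat.Coprime.odd_of_left h2
  obtain ⟨g, hg⟩ := exists_le_conjSub_sylow T S hS2
  refine ⟨g, ?_⟩
  have hS1 : S ≠ ⊥ := by
    intro h
    rw [h, Subgroup.card_bot] at h4S
    omega
  -- S is elementary abelian, not cyclic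
  haveI hcomm : IsMulCommutative ↥S := two_group_comm hG hS2
  have hsq : ∀ s ∈ S, s ^ 2 = 1 := by
    intro s hs
    by_cases hs1 : s = 1
    · rw [hs1, one_pow]
    · have := (involution_of_mem_conj hD (hg hs) hs1).2.2
      rw [← this]; exact pow_orderOf_eq_one s
  have hncyc : ¬ IsCyclic ↥S := by
    intro hc
    obtain ⟨s0, hs0⟩ := hc.exists_generator
    have hcard : Nat.card ↥S = orderOf s0 := by
      rw [← Nat.card_zpowers]
      exact Nat.card_congr (Equiv.subtypeUnivEquiv hs0).symm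
    have hle : orderOf s0 ≤ 2 := by
      apply Nat.le_of_dvd (by norm_num)
      apply orderOf_dvd_of_pow_eq_one
      have := hsq s0.1 s0.2
      exact Subtype.ext (by simpa using this)
    have : 4 ≤ Nat.card ↥S := Nat.le_of_dvd Nat.card_pos h4S
    omega
  set R := Cfsg.pCoreOf p L with hRdef
  have hRp : IsPGroup p ↥R := pCoreOf_isPGroup p L
  have hSR : S ≤ Subgroup.normalizer (R : Set G) :=
    (hSL.trans Subgroup.le_normalizer).trans (normalizer_le_normalizer_pCoreOf p L)
  have hgen := Cfsg.Agent.S0058.result S R hncyc hSR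
    (coprime_card_of_two_group_of_p_group hp2 hS2 hRp)
  have hRM : R ≤ conjSub M g := by
    rw [← hgen]
    apply iSup₂_le
    intro a ha
    exact inf_le_right.trans (centralizer_le_conjSub hD g (hg ha.1) ha.2)
  intro x hx
  obtain ⟨r, hr, n, hn, rfl⟩ := hU2 L hsolv S hSL hS2 hodd x hx
  exact (conjSub M g).mul_mem (hRM hr) (normalizer_le_conjSub hD g S hg hS1 hn.2)

theorem card_mul_relIndex_eq {H K : Subgroup G} (h : H ≤ K) :
    Nat.card ↥H * H.relIndex K = Nat.card ↥K := by
  have := Subgroup.relIndex_mul_relIndex (⊥ : Subgroup G) H K bot_le h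
  rwa [Subgroup.relIndex_bot_left, Subgroup.relIndex_bot_left] at this

/-- the normalizer of the group generated by an involution is its centralizer -/
theorem normalizer_zpowers_involution {a : G} (ha : orderOf a = 2) {n : G}
    (hn : n ∈ Subgroup.normalizer ((Subgroup.zpowers a : Subgroup G) : Set G)) :
    n ∈ Subgroup.centralizer ({a} : Set G) := by
  have h1 : n * a * n⁻¹ ∈ Subgroup.zpowers a :=
    (Subgroup.mem_normalizer_iff.1 hn a).1 (Subgroup.mem_zpowers a)
  have h2 : orderOf (n * a * n⁻¹) = 2 := orderOf_conj_eq_two ha n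
  -- elements of zpowers a are 1 or a
  obtain ⟨k, hk⟩ := Subgroup.mem_zpowers_iff.1 h1
  have hk' : n * a * n⁻¹ = a := by
    rcases Int.emod_two_eq_zero_or_one k with h | h
    · exfalso
      have : a ^ k = 1 := by
        rw [← Int.emod_add_mul_ediv k 2, h, zero_add, zpow_mul, zpow_ofNat,
          ← ha, pow_orderOf_eq_one, one_zpow]
      rw [this] at hk
      rw [← hk, orderOf_one] at h2
      omega
    · rw [← hk, ← Int.emod_add_mul_ediv k 2, h, zpow_add, zpow_one, zpow_mul, zpow_ofNat,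
        ← ha, pow_orderOf_eq_one, one_zpow, mul_one]
  rw [Subgroup.mem_centralizer_iff]
  intro x hx
  rw [Set.mem_singleton_iff] at hx
  subst hx
  calc x * n = (n * x * n⁻¹) * n := by rw [hk']
    _ = n * x := by group

/-- Case `¬ 4 ∣ |L|` of the dichotomy. -/
theorem factor_of_not_four_dvd (hU2 : U2 p G) (hG : MinCE p G)
    (L : Subgroup G) (hL : L ≠ ⊤) (h4 : ¬ 4 ∣ Nat.card ↥L)
    {a : G} (haL : a ∈ L) (ha : orderOf a = 2) {x : G} (hx : x ∈ L) :
    ∃ r ∈ Cfsg.pCoreOf p L, ∃ c ∈ L ⊓ Subgroup.centralizer ({a} : Set G), x = r * c := by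
  have hsolv := hG.proper L hL
  have hSL : Subgroup.zpowers a ≤ L := (Subgroup.zpowers_le).2 haL
  have hcard : Nat.card ↥(Subgroup.zpowers a) = 2 := by rw [Nat.card_zpowers, ha]
  have hS2 : IsPGroup 2 ↥(Subgroup.zpowers a) := IsPGroup.of_card (n := 1) (by rw [hcard]; norm_num)
  have hodd : Odd ((Subgroup.zpowers a).relIndex L) := by
    have h := card_mul_relIndex_eq hSL
    rw [hcard] at h
    rcases Nat.even_or_odd ((Subgroup.zpowers a).relIndex L) with he | ho
    · exfalso
      obtain ⟨k, hk⟩ := he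
      apply h4
      refine ⟨k, ?_⟩
      rw [← h, hk]; ring
    · exact ho
  obtain ⟨r, hr, n, hn, rfl⟩ := hU2 L hsolv _ hSL hS2 hodd x hx
  exact ⟨r, hr, n, ⟨hn.1, normalizer_zpowers_involution ha hn.2⟩, rfl⟩

/-- (INV) an involution inverting an element of odd order prime to `p` -/
theorem eq_one_of_inverted' (h : HP p G) (hp2 : p ≠ 2) {t w : G} (ht : orderOf t = 2)
    (hinv : t * w * t⁻¹ = w⁻¹) (hodd : Odd (orderOf w)) (hcop : (orderOf w).Coprime p) : w = 1 := by
  by_contra hw1
  have htt : t * t = 1 := inv_mul_self ht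
  have htinv : t⁻¹ = t := inv_inv_eq ht
  have hb2 : (t * w) * (t * w) = 1 := by
    have h1 : t * w * t = w⁻¹ := by rw [htinv] at hinv; exact hinv
    calc t * w * (t * w) = (t * w * t) * w := by group
      _ = 1 := by rw [h1]; group
  have hb1 : t * w ≠ 1 := by
    intro hb
    have : w = t := by
      have : w = t⁻¹ := eq_inv_of_mul_eq_one_right hb
      rw [this, htinv]
    rw [this, ht] at hodd
    exact absurd hodd (by decide)
  have hb : orderOf (t * w) = 2 := orderOf_eq_two_of hb1 hb2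
  have hne : t ≠ t * w := by
    intro h
    apply hw1
    have := mul_left_cancel (a := t) (b := 1) (c := w) (by rw [mul_one]; exact h)
    exact this.symm
  obtain ⟨e⟩ := Cfsg.Agent.S0206.result t (t * w) ht hb hne
  have hprod : t * (t * w) = w := by rw [← mul_assoc, htt, one_mul]
  rw [hprod] at e
  have hcard : Nat.card ↥(Subgroup.closure ({t, t * w} : Set G)) = 2 * orderOf w := by
    rw [Nat.card_congr e.toEquiv, DihedralGroup.nat_card]
  have hc : (Nat.card ↥(Subgroup.closure ({t, t * w} : Set G))).Coprime p := by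
    rw [hcard]
    apply Nat.Coprime.mul_left _ hcop
    exact (Nat.coprime_primes Nat.prime_two (Fact.out : p.Prime)).2 (Ne.symm hp2)
  obtain ⟨hcomm, -⟩ := h _ hc
  have h1 : t ∈ Subgroup.closure ({t, t * w} : Set G) := Subgroup.subset_closure (by simp)
  have h2 : t * w ∈ Subgroup.closure ({t, t * w} : Set G) := Subgroup.subset_closure (by simp)
  have hcm := hcomm.is_comm.comm ⟨t, h1⟩ ⟨t * w, h2⟩
  have hcm' : t * (t * w) = t * w * t := congrArg Subtype.val hcm
  have hw : w = w⁻¹ := by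
    have h3 : t * w * t = w⁻¹ := by rw [htinv] at hinv; exact hinv
    rw [← h3, ← hcm', hprod]
  have hw2 : w ^ 2 = 1 := by
    rw [pow_two]
    nth_rewrite 1 [hw]
    exact inv_mul_cancel w
  have hdvd : orderOf w ∣ 2 := orderOf_dvd_of_pow_eq_one hw2
  have : orderOf w = 1 := by
    rcases (Nat.dvd_prime Nat.prime_two).1 hdvd with h | h
    · exact h
    · rw [h] at hodd; exact absurd hodd (by decide)
  exact hw1 (orderOf_eq_one_iff.1 this)

/-- DICH-[D2i] -/
theorem not_four_dvd_of_apart_of (hU2 : U2 p G) (hG : MinCE p G) {T : Sylow 2 G} {M : Subgroup G}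
    (hD : SEDatum T M) {a u : G} (hau : Apart M a u)
    (L : Subgroup G) (hL : L ≠ ⊤) (haL : a ∈ L) (huL : u ∈ L) : ¬ 4 ∣ Nat.card ↥L := by
  intro h4
  obtain ⟨g, hg⟩ := le_conjSub_of_four_dvd hU2 hG hD L hL h4
  exact hau g ⟨hg haL, hg huL⟩

/-- every involution lies in a conjugate of `M` -/
theorem exists_mem_conjSub {T : Sylow 2 G} {M : Subgroup G} (hD : SEDatum T M) {a : G}
    (ha : orderOf a = 2) : ∃ g : G, a ∈ conjSub M g := by
  have hcard : Nat.card ↥(Subgroup.zpowers a) = 2 := by rw [Nat.card_zpowers, ha]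
  have hS2 : IsPGroup 2 ↥(Subgroup.zpowers a) := IsPGroup.of_card (n := 1) (by rw [hcard]; norm_num)
  obtain ⟨g, hg⟩ := exists_le_conjSub_sylow T _ hS2
  refine ⟨g, ?_⟩
  have h1 : conjSub (T : Subgroup G) g ≤ conjSub M g := Subgroup.map_mono (sylow_le_of_datum hD)
  exact h1 (hg (Subgroup.mem_zpowers a))

/-- the closure of two apart involutions is a proper subgroup -/
theorem closure_ne_top_of_apart (hG : MinCE p G) {a u : G} (ha : orderOf a = 2) (hu : orderOf u = 2)
    (hne : a * u ≠ 1) : Subgroup.closure ({a, u} : Set G) ≠ ⊤ := by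
  intro htop
  have haa : a⁻¹ = a := inv_inv_eq ha
  have huu : u⁻¹ = u := inv_inv_eq hu
  set z := a * u with hz
  set Z := Subgroup.zpowers z with hZ
  have hconj : ∀ c : G, c * z * c⁻¹ = z⁻¹ → c * c = 1 →
      c ∈ Subgroup.normalizer (Z : Set G) := by
    intro c hc hcc
    have hcinv : c⁻¹ = c := inv_eq_of_mul_eq_one_left hcc
    have key : ∀ h, h ∈ Z → c * h * c⁻¹ ∈ Z := by
      intro h hh
      obtain ⟨k, rfl⟩ := Subgroup.mem_zpowers_iff.1 hh
      have : c * z ^ k * c⁻¹ = (c * z * c⁻¹) ^ k := by rw [conj_zpow]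
      rw [this, hc]
      exact Z.zpow_mem (Z.inv_mem (Subgroup.mem_zpowers z)) k
    rw [Subgroup.mem_normalizer_iff]
    intro h
    refine ⟨key h, fun hh => ?_⟩
    have := key _ hh
    have e : c * (c * h * c⁻¹) * c⁻¹ = h := by
      rw [hcinv]
      calc c * (c * h * c) * c = (c * c) * h * (c * c) := by group
        _ = h := by rw [hcc]; group
    rwa [e] at this
  have h1 : a ∈ Subgroup.normalizer (Z : Set G) := by
    apply hconj a _ (inv_mul_self ha)
    rw [hz, haa]
    calc a * (a * u) * a = (a * a) * (u * a) := by group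
      _ = u * a := by rw [inv_mul_self ha, one_mul]
      _ = (a * u)⁻¹ := by rw [mul_inv_rev, haa, huu]
  have h2 : u ∈ Subgroup.normalizer (Z : Set G) := by
    apply hconj u _ (inv_mul_self hu)
    rw [hz, huu]
    calc u * (a * u) * u = (u * a) * (u * u) := by group
      _ = u * a := by rw [inv_mul_self hu, mul_one]
      _ = (a * u)⁻¹ := by rw [mul_inv_rev, haa, huu]
  have hle : Subgroup.closure ({a, u} : Set G) ≤ Subgroup.normalizer (Z : Set G) := by
    apply (Subgroup.closure_le _).2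
    intro x hx
    rcases hx with rfl | hx
    · exact h1
    · rw [Set.mem_singleton_iff] at hx; subst hx; exact h2
  rw [htop, top_le_iff] at hle
  have hZn : Z.Normal := Subgroup.normalizer_eq_top_iff.1 hle
  have := hG.simple
  rcases hZn.eq_bot_or_eq_top with h | h
  · apply hne
    have : z ∈ Z := Subgroup.mem_zpowers z
    rw [h, Subgroup.mem_bot] at this
    exact this
  · apply hG.nonsolv
    have hcomm : ∀ x y : G, x * y = y * x := by
      intro x y
      have hx : x ∈ Z := by rw [h]; trivial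
      have hy : y ∈ Z := by rw [h]; trivial
      obtain ⟨i, rfl⟩ := Subgroup.mem_zpowers_iff.1 hx
      obtain ⟨j, rfl⟩ := Subgroup.mem_zpowers_iff.1 hy
      rw [← zpow_add, ← zpow_add, add_comm]
    exact Group.isSolvable_of_comm hcomm

theorem conj_mul_eq_inv {a u : G} (ha : orderOf a = 2) (hu : orderOf u = 2) :
    a * (a * u) * a⁻¹ = (a * u)⁻¹ := by
  rw [inv_inv_eq ha]
  calc a * (a * u) * a = (a * a) * (u * a) := by group
    _ = u * a := by rw [inv_mul_self ha, one_mul]
    _ = (a * u)⁻¹ := by rw [mul_inv_rev, inv_inv_eq ha, inv_inv_eq hu]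

/-- DICH-[D2ii] -/
theorem mul_isPElement_of_apart_of (hU2 : U2 p G) (hG : MinCE p G) {T : Sylow 2 G} {M : Subgroup G}
    (hD : SEDatum T M) {a u : G} (ha : orderOf a = 2) (hu : orderOf u = 2) (hau : Apart M a u) :
    a * u ≠ 1 ∧ ∃ n : ℕ, orderOf (a * u) = p ^ n := by
  have hp2 := prime_ne_two hG
  have hpp : p.Prime := Fact.out
  have hne_au : a ≠ u := by
    rintro rfl
    obtain ⟨g, hg⟩ := exists_mem_conjSub hD ha
    exact hau g ⟨hg, hg⟩
  have hne : a * u ≠ 1 := by
    intro h
    apply hne_au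
    have : a = u⁻¹ := eq_inv_of_mul_eq_one_left h
    rw [this, inv_inv_eq hu]
  refine ⟨hne, ?_⟩
  have hL0 := closure_ne_top_of_apart hG ha hu hne
  have h4 := not_four_dvd_of_apart_of hU2 hG hD hau _ hL0
    (Subgroup.subset_closure (by simp)) (Subgroup.subset_closure (by simp))
  obtain ⟨e⟩ := Cfsg.Agent.S0206.result a u ha hu hne_au
  have hcard : Nat.card ↥(Subgroup.closure ({a, u} : Set G)) = 2 * orderOf (a * u) := by
    rw [Nat.card_congr e.toEquiv, DihedralGroup.nat_card]
  have hodd : Odd (orderOf (a * u)) := by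
    rcases Nat.even_or_odd (orderOf (a * u)) with he | ho
    · exfalso
      obtain ⟨k, hk⟩ := he
      apply h4
      rw [hcard, hk]
      exact ⟨k, by ring⟩
    · exact ho
  have hpos : orderOf (a * u) ≠ 0 := (orderOf_pos _).ne'
  obtain ⟨e, m, hm, hem⟩ := Nat.exists_eq_pow_mul_and_not_dvd hpos p hpp.ne_one
  refine ⟨e, ?_⟩
  have hpe : p ^ e ≠ 0 := (pow_pos hpp.pos e).ne'
  have how : orderOf ((a * u) ^ (p ^ e)) = m := by
    rw [orderOf_pow' _ hpe, hem, Nat.gcd_eq_right (dvd_mul_right _ _),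
      Nat.mul_div_cancel_left _ (pow_pos hpp.pos e)]
  have hinv : a * (a * u) ^ (p ^ e) * a⁻¹ = ((a * u) ^ (p ^ e))⁻¹ := by
    rw [← conj_pow, conj_mul_eq_inv ha hu, inv_pow]
  have hmodd : Odd m := by
    have : m ∣ orderOf (a * u) := by rw [hem]; exact dvd_mul_left _ _
    exact Odd.of_dvd_nat hodd this
  have hmcop : m.Coprime p := ((Nat.Prime.coprime_iff_not_dvd hpp).2 hm).symm
  have hw := eq_one_of_inverted' hG.hp hp2 ha hinv (by rw [how]; exact hmodd) (by rw [how]; exact hmcop)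
  have hm1 : m = 1 := by rw [← how, hw, orderOf_one]
  rw [hem, hm1, mul_one]

/-- if conjugation by `c` maps `H` onto `H` then `c` normalizes `H` -/
theorem mem_normalizer_of_map_conj_eq {H : Subgroup G} {c : G}
    (h : H.map (MulAut.conj c).toMonoidHom = H) : c ∈ Subgroup.normalizer (H : Set G) := by
  rw [Subgroup.mem_normalizer_iff]
  intro x
  constructor
  · intro hx
    have : c * x * c⁻¹ ∈ H.map (MulAut.conj c).toMonoidHom := ⟨x, hx, by simp⟩
    rwa [h] at this
  · intro hx
    rw [← h] at hx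
    obtain ⟨y, hy, hyx⟩ := hx
    have : y = x := by
      have h2 : c * y * c⁻¹ = c * x * c⁻¹ := by simpa using hyx
      have h3 := mul_right_cancel h2
      exact mul_left_cancel h3
    rwa [← this]

theorem map_conj_eq_of_mem_normalizer' {H : Subgroup G} {c : G}
    (h : c ∈ Subgroup.normalizer (H : Set G)) : H.map (MulAut.conj c).toMonoidHom = H := by
  ext x
  rw [mem_map_conj_iff]
  have := (Subgroup.mem_normalizer_iff.1 h (c⁻¹ * x * c))
  rw [this]
  have e : c * (c⁻¹ * x * c) * c⁻¹ = x := by group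
  rw [e]

/-- an element inverting `z` normalizes `⟨z⟩` -/
theorem mem_normalizer_zpowers_of_inverts {c z : G} (hc : c * z * c⁻¹ = z⁻¹) :
    c ∈ Subgroup.normalizer ((Subgroup.zpowers z : Subgroup G) : Set G) := by
  apply mem_normalizer_of_map_conj_eq
  rw [MonoidHom.map_zpowers]
  have : (MulAut.conj c).toMonoidHom z = z⁻¹ := by simpa using hc
  rw [this, Subgroup.zpowers_inv]

/-- an element centralizing `z` normalizes `⟨z⟩` -/
theorem mem_normalizer_zpowers_of_commutes {c z : G} (hc : c * z * c⁻¹ = z) :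
    c ∈ Subgroup.normalizer ((Subgroup.zpowers z : Subgroup G) : Set G) := by
  apply mem_normalizer_of_map_conj_eq
  rw [MonoidHom.map_zpowers]
  have : (MulAut.conj c).toMonoidHom z = z := by simpa using hc
  rw [this]

/-- DICH-[D2iii] -/
theorem exists_sylow_of_apart_of (hU2 : U2 p G) (hG : MinCE p G) {T : Sylow 2 G} {M : Subgroup G}
    (hD : SEDatum T M) {a u : G} (ha : orderOf a = 2) (hu : orderOf u = 2) (hau : Apart M a u) :
    ∃ P : Sylow p G, a ∈ Subgroup.normalizer ((P : Subgroup G) : Set G) ∧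
      u ∈ Subgroup.normalizer ((P : Subgroup G) : Set G) := by
  have hp2 := prime_ne_two hG
  obtain ⟨hz1, n, hzn⟩ := mul_isPElement_of_apart_of hU2 hG hD ha hu hau
  set z := a * u with hz
  have hu_eq : u = a * z := by
    rw [hz, ← mul_assoc, inv_mul_self ha, one_mul]
  let X : Subgroup G → Prop := fun S =>
    IsPGroup p ↥S ∧ z ∈ S ∧ a ∈ Subgroup.normalizer (S : Set G)
  have h0 : X (Subgroup.zpowers z) :=
    ⟨IsPGroup.of_card (n := n) (by rw [Nat.card_zpowers, hzn]), Subgroup.mem_zpowers z,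
      mem_normalizer_zpowers_of_inverts (conj_mul_eq_inv ha hu)⟩
  obtain ⟨S, -, hSmax⟩ := Finite.exists_le_maximal (p := X) h0
  obtain ⟨hSp, hzS, haS⟩ := hSmax.prop
  set L := Subgroup.normalizer (S : Set G) with hLdef
  have hSL : S ≤ L := Subgroup.le_normalizer
  have huL : u ∈ L := by rw [hu_eq]; exact L.mul_mem haS (hSL hzS)
  have hL : L ≠ ⊤ := by
    intro h
    have hSn : S.Normal := Subgroup.normalizer_eq_top_iff.1 h
    have := hG.simple
    rcases hSn.eq_bot_or_eq_top with hb | ht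
    · rw [hb, Subgroup.mem_bot] at hzS
      exact hz1 hzS
    · apply hG.nonsolv
      have hGp : IsPGroup p G := by
        intro x
        obtain ⟨k, hk⟩ := hSp ⟨x, by rw [ht]; trivial⟩
        exact ⟨k, by simpa using congrArg Subtype.val hk⟩
      have := hGp.isNilpotent
      infer_instance
  have h4 := not_four_dvd_of_apart_of hU2 hG hD hau L hL haS huL
  -- O_p(L) = S
  have hSR : S ≤ Cfsg.pCoreOf p L := le_pCoreOf hSL le_rfl hSp
  have hRS : Cfsg.pCoreOf p L ≤ S := by
    apply hSmax.le_of_ge ⟨pCoreOf_isPGroup p L, hSR hzS, ?_⟩ hSR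
    exact normalizer_le_normalizer_pCoreOf p L (Subgroup.le_normalizer haS)
  obtain ⟨P, hSP⟩ := hSp.exists_le_sylow
  have hSeq : S = (P : Subgroup G) := by
    by_contra hne
    have hlt : S.subgroupOf (P : Subgroup G) < ⊤ := by
      rw [lt_top_iff_ne_top]
      intro h
      apply hne
      apply le_antisymm hSP
      rw [Subgroup.subgroupOf_eq_top] at h
      exact h
    have hnil : Group.IsNilpotent ↥(P : Subgroup G) := P.isPGroup'.isNilpotent
    have hnc := Group.normalizerCondition_of_isNilpotent (G := ↥(P : Subgroup G)) _ hlt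
    obtain ⟨y, hyN, hyS⟩ := SetLike.exists_of_lt hnc
    have hy1S : (y : G) ∉ S := fun h => hyS (Subgroup.mem_subgroupOf.2 h)
    have hyL : (y : G) ∈ L := by
      rw [hLdef, Subgroup.mem_normalizer_iff]
      intro h
      constructor
      · intro hh
        have := (Subgroup.mem_normalizer_iff.1 hyN ⟨h, hSP hh⟩).1 (Subgroup.mem_subgroupOf.2 hh)
        exact Subgroup.mem_subgroupOf.1 this
      · intro hh
        have hhP : h ∈ (P : Subgroup G) := by
          have h1 : (y : G) * h * (y : G)⁻¹ ∈ (P : Subgroup G) := hSP hh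
          have : h = (y : G)⁻¹ * ((y : G) * h * (y : G)⁻¹) * (y : G) := by group
          rw [this]
          exact (P : Subgroup G).mul_mem ((P : Subgroup G).mul_mem ((P : Subgroup G).inv_mem y.2) h1) y.2
        have := (Subgroup.mem_normalizer_iff.1 hyN ⟨h, hhP⟩).2 (Subgroup.mem_subgroupOf.2 hh)
        exact Subgroup.mem_subgroupOf.1 this
    obtain ⟨r, hr, c, hc, hyrc⟩ := factor_of_not_four_dvd hU2 hG L hL h4 haS ha hyL
    have hrS : r ∈ S := hRS hr
    have hcP : c ∈ (P : Subgroup G) := by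
      have : c = r⁻¹ * (y : G) := by rw [hyrc]; group
      rw [this]
      exact (P : Subgroup G).mul_mem ((P : Subgroup G).inv_mem (hSP hrS)) y.2
    -- S' = S ⊔ ⟨c⟩
    have hS'P : S ⊔ Subgroup.zpowers c ≤ (P : Subgroup G) :=
      sup_le hSP ((Subgroup.zpowers_le).2 hcP)
    have hcomm : a * c * a⁻¹ = c := by
      have := Subgroup.mem_centralizer_iff.1 hc.2 a (Set.mem_singleton a)
      rw [this]; group
    have hX' : X (S ⊔ Subgroup.zpowers c) := by
      refine ⟨P.isPGroup'.to_le hS'P, le_sup_left (a := S) hzS, ?_⟩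
      apply mem_normalizer_of_map_conj_eq
      rw [Subgroup.map_sup, map_conj_eq_of_mem_normalizer' haS,
        map_conj_eq_of_mem_normalizer' (mem_normalizer_zpowers_of_commutes hcomm)]
    have hle := hSmax.le_of_ge hX' le_sup_left
    have hcS : c ∈ S := hle (le_sup_right (a := S) (Subgroup.mem_zpowers c))
    apply hy1S
    rw [hyrc]
    exact S.mul_mem hrS hcS
  refine ⟨P, ?_, ?_⟩
  · rw [← hSeq]; exact haS
  · rw [← hSeq]; exact huL

/-! ## Exact skeleton statements -/

theorem u2_holds (hG : MinCE p G) : U2 p G := fun H hs S hSH hS hodd x hx =>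
  Cfsg.Agent.Lib.Helper39.S1936.factor_pCoreOf_normalizer hG.hp (prime_ne_two hG) H hs S hSH hS hodd x hx

/-- DICH-[D1]: the dichotomy. -/
theorem dichotomy (hG : MinCE p G) {T : Sylow 2 G} {M : Subgroup G} (hD : SEDatum T M)
    (L : Subgroup G) (hL : L ≠ ⊤) (heven : Even (Nat.card ↥L)) :
    (∃ g : G, L ≤ conjSub M g) ∨
      (¬ 4 ∣ Nat.card ↥L ∧ ∀ a ∈ L, orderOf a = 2 → ∀ x ∈ L,
        ∃ r ∈ Cfsg.pCoreOf p L, ∃ c ∈ L ⊓ Subgroup.centralizer ({a} : Set G), x = r * c) := by
  by_cases h4 : 4 ∣ Nat.card ↥L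
  · exact Or.inl (le_conjSub_of_four_dvd (u2_holds hG) hG hD L hL h4)
  · exact Or.inr ⟨h4, fun a haL ha x hx =>
      factor_of_not_four_dvd (u2_holds hG) hG L hL h4 haL ha hx⟩

/-- DICH-[D2i] -/
theorem not_four_dvd_of_apart (hG : MinCE p G) {T : Sylow 2 G} {M : Subgroup G} (hD : SEDatum T M)
    {a u : G} (ha : orderOf a = 2) (hu : orderOf u = 2) (hau : Apart M a u)
    (L : Subgroup G) (hL : L ≠ ⊤) (haL : a ∈ L) (huL : u ∈ L) : ¬ 4 ∣ Nat.card ↥L :=
  not_four_dvd_of_apart_of (u2_holds hG) hG hD hau L hL haL huL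

/-- DICH-[D2ii] -/
theorem mul_isPElement_of_apart (hG : MinCE p G) {T : Sylow 2 G} {M : Subgroup G} (hD : SEDatum T M)
    {a u : G} (ha : orderOf a = 2) (hu : orderOf u = 2) (hau : Apart M a u) :
    a * u ≠ 1 ∧ ∃ n : ℕ, orderOf (a * u) = p ^ n :=
  mul_isPElement_of_apart_of (u2_holds hG) hG hD ha hu hau

/-- DICH-[D2iii] -/
theorem exists_sylow_of_apart (hG : MinCE p G) {T : Sylow 2 G} {M : Subgroup G} (hD : SEDatum T M)
    {a u : G} (ha : orderOf a = 2) (hu : orderOf u = 2) (hau : Apart M a u) :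
    ∃ P : Sylow p G, a ∈ Subgroup.normalizer ((P : Subgroup G) : Set G) ∧
      u ∈ Subgroup.normalizer ((P : Subgroup G) : Set G) :=
  exists_sylow_of_apart_of (u2_holds hG) hG hD ha hu hau

end Cfsg.Agent.Lib.Helper22.S1936
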