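import Mathlib

/-!
# Sibley (6.8), type P, Block II: the arithmetic (helper22)
-/

set_option autoImplicit false

namespace Cfsg.Agent.Lib.Helper22.SibC

/-- Bessel: `n a² ≤ 2 f a + σ` with `n ≥ 2` gives `a ≤ f` when `σ = 1` or `σ < f`. -/
theorem arith_a_le_f {n a f σ : ℤ} (hn : 2 ≤ n) (ha : 0 ≤ a) (hf : 1 ≤ f)
    (hB : n * a ^ 2 ≤ 2 * f * a + σ) (hσ : σ = 1 ∨ σ < f) : a ≤ f := by
  by_contra hlt
  have h1 : f + 1 ≤ a := by omega
  have h2 : 2 * a ^ 2 ≤ n * a ^ 2 := by nlinarith [sq_nonneg a]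
  have h3 : 2 * a * (a - f) ≤ σ := by nlinarith
  have h4 : 2 * a ≤ 2 * a * (a - f) := by nlinarith
  rcases hσ with h | h <;> omega

/-- if `a = f` then `n = 2`. -/
theorem arith_n_eq_two {n f σ : ℤ} (hn : 2 ≤ n) (hf : 2 ≤ f)
    (hB : n * f ^ 2 ≤ 2 * f * f + σ) (hσ : σ = 1 ∨ σ < f) : n = 2 := by
  by_contra hne
  have h3 : 3 ≤ n := by omega
  have h1 : 3 * f ^ 2 ≤ n * f ^ 2 := by nlinarith [sq_nonneg f]
  have h2 : f ^ 2 ≤ σ := by nlinarith
  rcases hσ with h | h <;> nlinarith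

/-- The dichotomy: `∑ (a - m d) d = 0`, `0 ≤ a ≤ d`, `0 < d`: all `a = 0` or all `a = d`. -/
theorem arith_dichotomy {ι : Type*} (T : Finset ι) (d a : ι → ℤ) (m : ℤ)
    (hd : ∀ i ∈ T, 0 < d i) (ha0 : ∀ i ∈ T, 0 ≤ a i) (ha1 : ∀ i ∈ T, a i ≤ d i)
    (hsum : ∑ i ∈ T, (a i - m * d i) * d i = 0) :
    (∀ i ∈ T, a i = 0) ∨ (∀ i ∈ T, a i = d i) := by
  rcases le_or_gt m 0 with hm | hm
  · left
    have hnn : ∀ i ∈ T, 0 ≤ (a i - m * d i) * d i := by
      intro i hi
      have h1 := hd i hi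
      have h2 := ha0 i hi
      have : 0 ≤ a i - m * d i := by nlinarith
      positivity
    have hz := (Finset.sum_eq_zero_iff_of_nonneg hnn).mp hsum
    intro i hi
    have h1 := hd i hi
    have h2 := ha0 i hi
    have h3 := hz i hi
    have h4 : a i - m * d i = 0 := by
      rcases mul_eq_zero.mp h3 with h | h
      · exact h
      · omega
    nlinarith
  · right
    have hnp : ∀ i ∈ T, (a i - m * d i) * d i ≤ 0 := by
      intro i hi
      have h1 := hd i hi
      have h2 := ha1 i hi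
      have : a i - m * d i ≤ 0 := by nlinarith
      exact mul_nonpos_of_nonpos_of_nonneg this h1.le
    have hz := (Finset.sum_eq_zero_iff_of_nonpos hnp).mp hsum
    intro i hi
    have h1 := hd i hi
    have h2 := ha1 i hi
    have h3 := hz i hi
    have h4 : a i - m * d i = 0 := by
      rcases mul_eq_zero.mp h3 with h | h
      · exact h
      · omega
    nlinarith

end Cfsg.Agent.Lib.Helper22.SibC
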