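import Mathlib
import Cfsg.Agent.Lib.Helper22.SibCDefs
import Cfsg.Agent.Lib.Helper74.SibleyExc

/-!
# Sibley (6.8), type P, Block II: the congruence from S1523 (helper22)

`W₂` is central in `L`; `H` is a Sylow `p`-subgroup of `G`; S1523 applied to `ψ = ε τ₁ ζ₁`.
-/

set_option autoImplicit false
set_option linter.unusedSectionVars false
set_option linter.style.haveILetI false

namespace Cfsg.Agent.Lib.Helper22.SibC

open Cfsg

universe u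

variable {G : Type u} [Group G] [Fintype G] (H L W₁ W₂ : Subgroup G) [Fintype L]

theorem ctx_W₂_le_H {p : ℕ} (c : Ctx H L W₁ W₂ p) : W₂ ≤ H :=
  c.hW₂der.trans (Subgroup.commutator_le_self H)

/-- in case (α), `W₂` is central in `L`. -/
theorem ctx_central {p : ℕ} (c : Ctx H L W₁ W₂ p) (hcen : ∀ z ∈ W₂, ∀ h ∈ H, z * h = h * z) :
    ∀ z ∈ W₂, ∀ y ∈ L, z * y = y * z := by
  intro z hz y hy
  have hle : H ⊔ W₁ ≤ Subgroup.centralizer ({z} : Set G) := by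
    apply sup_le
    · intro h hh
      rw [Subgroup.mem_centralizer_singleton_iff]
      exact (hcen z hz h hh).symm
    · intro w hw
      rw [Subgroup.mem_centralizer_singleton_iff]
      by_cases hw1 : w = 1
      · rw [hw1]; simp
      · have hz' : z ∈ H ⊓ Subgroup.centralizer ({w} : Set G) := by
          rw [c.hC w hw hw1]; exact hz
        have := (Subgroup.mem_centralizer_singleton_iff.mp hz'.2)
        exact this.symm
  rw [c.hsup] at hle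
  have := Subgroup.mem_centralizer_singleton_iff.mp (hle hy)
  exact this.symm

theorem ctx_W₂_ne_bot {p : ℕ} (c : Ctx H L W₁ W₂ p) : W₂ ≠ ⊥ := by
  intro h
  have h1 : Nat.card W₂ = 1 := by rw [h]; exact Subgroup.card_bot
  rw [c.hW₂card] at h1
  exact c.hp.one_lt.ne' h1

theorem ctx_exists_ne_one {p : ℕ} (c : Ctx H L W₁ W₂ p) : ∃ z ∈ W₂, z ≠ 1 := by
  by_contra h
  push Not at h
  exact ctx_W₂_ne_bot H L W₁ W₂ c ((Subgroup.eq_bot_iff_forall _).mpr h)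

/-- S1523 for `ψ = ε τ₁ ζ₁`: `τ₁ ζ₁ (1) - τ₁ ζ₁ (z) = |H| e` for all `z ∈ W₂ ∖ 1`. -/
theorem cong_delta {p : ℕ} (c : Ctx H L W₁ W₂ p) (hcen : ∀ z ∈ W₂, ∀ h ∈ H, z * h = h * z)
    {τ₁ : (↥L → ℂ) → (G → ℂ)} {ε : ℤ} (x : AExt H L τ₁ ε)
    {ζ₁ : ↥L → ℂ} (hζ₁ : ζ₁ ∈ AA H L)
    (hconst : ∀ z ∈ W₂, ∀ z' ∈ W₂, z ≠ 1 → z' ≠ 1 → τ₁ ζ₁ z = τ₁ ζ₁ z') :
    ∃ e : ℤ, ∀ z ∈ W₂, z ≠ 1 → τ₁ ζ₁ 1 - τ₁ ζ₁ z = (Nat.card H : ℂ) * e := by
  haveI : Fact p.Prime := ⟨c.hp⟩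
  have hcenL := ctx_central H L W₁ W₂ c hcen
  have hW₂H := ctx_W₂_le_H H L W₁ W₂ c
  have hZ1 := ctx_W₂_ne_bot H L W₁ W₂ c
  obtain ⟨z₀, hz₀, hz₀1⟩ := ctx_exists_ne_one H L W₁ W₂ c
  have hndvd : ¬ p ∣ (H.subgroupOf (Subgroup.normalizer (H : Set G))).index := by
    rw [c.hN, Cfsg.Agent.Lib.Helper74.index_subgroupOf_eq_card H L W₁ c.hHL c.hW₁L c.hHn c.hinf
      c.hsup]
    exact c.hcop
  obtain ⟨P, hP⟩ := Cfsg.Agent.Lib.Helper74.exists_sylow_eq_of_not_dvd_index p H c.hpH hndvd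
  have hψ := x.irr ζ₁ hζ₁
  have hN := c.hN
  have hTI := c.hTI
  have hodd := c.hodd
  subst hP
  have hcentL : ∀ z ∈ W₂, Subgroup.normalizer (((P : Subgroup G)) : Set G) ⊓
      Subgroup.centralizer ({z} : Set G) = L := by
    intro z hz
    rw [hN]
    apply le_antisymm inf_le_left
    apply le_inf le_rfl
    intro y hy
    rw [Subgroup.mem_centralizer_singleton_iff]
    exact (hcenL z hz y hy).symm
  obtain ⟨n, d, hn, hd, k, hk⟩ := Cfsg.Agent.S1523.result p P hTI (by rw [hN]; exact hodd) W₂ hZ1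
    hW₂H
    (by
      intro y hy z hz
      rw [hN] at hy
      have := hcenL z hz y hy
      rw [← this, mul_inv_cancel_right]
      exact hz)
    hcen
    (by
      intro z hz z' hz' _ _
      rw [hcentL z hz, hcentL z' hz'])
    (ε • τ₁ ζ₁) hψ
    (by
      intro z hz z' hz' h1 h1'
      simp only [Pi.smul_apply]
      rw [hconst z hz z' hz' h1 h1'])
    z₀ hz₀ hz₀1
  refine ⟨ε * k, ?_⟩
  intro z hz hz1
  rw [hconst z hz z₀ hz₀ hz1 hz₀1]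
  simp only [Pi.smul_apply, zsmul_eq_mul] at hn hd
  have hk' : ((d - n : ℤ) : ℂ) = ((Nat.card (P : Subgroup G) : ℤ) : ℂ) * (k : ℂ) := by
    rw [hk]; push_cast; ring
  push_cast at hk'
  have hε2 : (ε : ℂ) * (ε : ℂ) = 1 := by
    rcases x.eps with h | h <;> rw [h] <;> norm_num
  push_cast
  have : τ₁ ζ₁ 1 - τ₁ ζ₁ z₀ = (ε : ℂ) * ((ε : ℂ) * τ₁ ζ₁ 1 - (ε : ℂ) * τ₁ ζ₁ z₀) := by
    linear_combination (τ₁ ζ₁ z₀ - τ₁ ζ₁ 1) * hε2
  rw [this, hn, hd, hk']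
  ring

end Cfsg.Agent.Lib.Helper22.SibC
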