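import Mathlib
import Cfsg.Agent.Lib.Helper22.SibCDefs
import Cfsg.Agent.Lib.Helper22.SibCTwoCong
import Cfsg.Agent.Lib.Helper25.CohCentral
import Cfsg.Agent.Lib.Helper74.SibleyExc
import Cfsg.Agent.Lib.Helper77.Linear

/-!
# Sibley (6.8), type P, Block II: preparations (helper22)
-/

set_option autoImplicit false
set_option linter.unusedSectionVars false
set_option linter.style.haveILetI false

namespace Cfsg.Agent.Lib.Helper22.SibC

open Cfsg Cfsg.Agent.Lib.Helper78 Cfsg.Agent.Lib.Helper75 Cfsg.Agent.Lib.Helper25.CohDescent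
open Cfsg.Agent.Lib.Helper25.CohCentral

universe u

variable {G : Type u} [Group G] [Fintype G] (H L W₁ W₂ : Subgroup G) [Fintype L]

theorem commutator_subgroupOf_eq (hHL : H ≤ L) :
    ⁅H.subgroupOf L, H.subgroupOf L⁆ = (⁅H, H⁆ : Subgroup G).subgroupOf L := by
  apply Subgroup.map_injective L.subtype_injective
  rw [Subgroup.map_commutator, Subgroup.map_subgroupOf_eq_of_le hHL,
    Subgroup.map_subgroupOf_eq_of_le ((Subgroup.commutator_le_self H).trans hHL)]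

theorem ctx_K_normal {p : ℕ} (c : Ctx H L W₁ W₂ p) : (H.subgroupOf L).Normal :=
  Cfsg.Agent.Lib.Helper74.subgroupOf_normal_of_conj H L c.hHn

theorem ctx_Z_le_comm {p : ℕ} (c : Ctx H L W₁ W₂ p) :
    W₂.subgroupOf L ≤ ⁅H.subgroupOf L, H.subgroupOf L⁆ := by
  rw [commutator_subgroupOf_eq H L c.hHL]
  intro z hz
  rw [Subgroup.mem_subgroupOf] at hz ⊢
  exact c.hW₂der hz

theorem ctx_Z_le_K {p : ℕ} (c : Ctx H L W₁ W₂ p) : W₂.subgroupOf L ≤ H.subgroupOf L := by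
  intro z hz
  rw [Subgroup.mem_subgroupOf] at hz ⊢
  exact ctx_W₂_le_H H L W₁ W₂ c hz

theorem ctx_Z_central {p : ℕ} (c : Ctx H L W₁ W₂ p)
    (hcen : ∀ z ∈ W₂, ∀ h ∈ H, z * h = h * z) :
    ∀ z ∈ W₂.subgroupOf L, ∀ y : ↥L, z * y = y * z := by
  intro z hz y
  rw [Subgroup.mem_subgroupOf] at hz
  apply Subtype.ext
  have := ctx_central H L W₁ W₂ c hcen (z : G) hz (y : G) y.2
  simpa using this

theorem ctx_Z_normal {p : ℕ} (c : Ctx H L W₁ W₂ p)
    (hcen : ∀ z ∈ W₂, ∀ h ∈ H, z * h = h * z) : (W₂.subgroupOf L).Normal := by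
  refine ⟨fun z hz y => ?_⟩
  have h := ctx_Z_central H L W₁ W₂ c hcen z hz y
  have : y * z * y⁻¹ = z := by rw [← h, mul_inv_cancel_right]
  rw [this]; exact hz

theorem ctx_index_pos {p : ℕ} (c : Ctx H L W₁ W₂ p) : 0 < (H.subgroupOf L).index :=
  Nat.pos_of_ne_zero Subgroup.index_ne_zero_of_finite

/-- members of `A` are irreducible -/
theorem AA_irr {p : ℕ} (c : Ctx H L W₁ W₂ p) {R : (↥L → ℂ) → Finset (G → ℂ)}
    (sf : SFacts H L R) : ∀ ξ ∈ AA H L, IsIrrCharacter ↥L ξ := by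
  intro ξ hξ
  haveI := ctx_K_normal H L W₁ W₂ c
  have hS : ξ ∈ SS H L := Cfsg.Agent.Lib.Helper74.sibleyA_subset (H.subgroupOf L) hξ
  rcases sf.red ξ hS with h | ⟨-, f, hf, h1⟩
  · exact h
  · exfalso
    have hdeg := Cfsg.Agent.Lib.Helper74.sibleyA_degree (H.subgroupOf L) hξ
    rw [hdeg] at h1
    have hq := ctx_index_pos H L W₁ W₂ c
    have h2 : ((H.subgroupOf L).index : ℂ) ≠ 0 := by exact_mod_cast hq.ne'
    have h3 : (f : ℂ) = 1 := by
      have : ((H.subgroupOf L).index : ℂ) * 1 = ((H.subgroupOf L).index : ℂ) * f := by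
        rw [mul_one]; exact h1
      exact (mul_left_cancel₀ h2 this).symm
    have h4 : f = 1 := by exact_mod_cast h3
    omega

theorem AA_finite : (AA H L).Finite := by
  classical
  haveI : Fintype ↥(H.subgroupOf L) := Fintype.ofFinite _
  apply (Set.finite_range (fun θ : IrrCharacter ↥(H.subgroupOf L) =>
    indFun (H.subgroupOf L) (θ : ↥(H.subgroupOf L) → ℂ))).subset
  rintro φ ⟨θ, hθ, -, -, rfl⟩
  exact ⟨⟨θ, hθ⟩, rfl⟩

theorem AA_subset_SZ {p : ℕ} (c : Ctx H L W₁ W₂ p) :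
    AA H L ⊆ inducedIrrAbove (H.subgroupOf L) (W₂.subgroupOf L) := by
  rintro φ ⟨θ, h1, h2, h3, h4⟩
  exact ⟨θ, h1, h2, fun a ha => h3 a (ctx_Z_le_comm H L W₁ W₂ c ha), h4⟩

/-- a character nontrivial on `Z ≤ K'` is not linear -/
theorem NT_degree_ne_one {p : ℕ} (c : Ctx H L W₁ W₂ p)
    (θ : IrrCharacter ↥(H.subgroupOf L))
    (hθ : NT (H.subgroupOf L) (W₂.subgroupOf L) (θ : ↥(H.subgroupOf L) → ℂ)) :
    charDegree (θ : ↥(H.subgroupOf L) → ℂ) ≠ 1 := by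
  intro h1
  haveI := ctx_K_normal H L W₁ W₂ c
  obtain ⟨a, ha, hne⟩ := hθ
  have hθ1 : (θ : ↥(H.subgroupOf L) → ℂ) 1 = 1 := by
    rw [IsCharacter.apply_one_eq_charDegree (IsIrrCharacter.isCharacter θ.2), h1]; simp
  apply hne
  rw [hθ1]
  apply Cfsg.Agent.Lib.Helper77.linear_character_eq_one_of_mem_commutator θ hθ1 a
  have h2 := ctx_Z_le_comm H L W₁ W₂ c ha
  rw [Cfsg.Agent.Lib.Helper74.commutator_eq_map (H.subgroupOf L)] at h2
  obtain ⟨b, hb, hba⟩ := h2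
  have : b = a := Subtype.ext hba
  rw [← this]; exact hb

end Cfsg.Agent.Lib.Helper22.SibC
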