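import Mathlib
import Cfsg.Agent.Lib.Helper22.SibCDefs
import Cfsg.Agent.Lib.Helper22.SibCTwoArith
import Cfsg.Agent.Lib.Helper22.SibCTwoCong
import Cfsg.Agent.Lib.Helper22.SibCTwoPrep
import Cfsg.Agent.Lib.Helper49.SibCIIExp
import Cfsg.Agent.Lib.Helper1.SibCGal
import Cfsg.Agent.Lib.Helper64.SibleyTwist

/-!
# Sibley (6.8), type P, Block II (helper22)

From the output of Block I: all the coefficients `a χ` (`χ ∈ B' = S ∖ S(W₂)`) vanish, for `τ₁` or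
(when `|A| = 2`) for the twist `τ₁' = -τ₁ ∘ conj`.
-/

set_option autoImplicit false
set_option linter.unusedSectionVars false
set_option linter.style.haveILetI false

namespace Cfsg.Agent.Lib.Helper22.SibC

open Cfsg Cfsg.Agent.Lib.Helper78 Cfsg.Agent.Lib.Helper75 Cfsg.Agent.Lib.Helper25.CohDescent
open Cfsg.Agent.Lib.Helper25.CohCentral
open scoped ComplexConjugate

universe u

variable {G : Type u} [Group G] [Fintype G] (H L W₁ W₂ : Subgroup G) [Fintype L]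

/-- The conclusion of Block I, as a proposition. -/
def BlockIOut (τ₁ : (↥L → ℂ) → (G → ℂ)) (ζ₁ : ↥L → ℂ) : Prop :=
    IsClassFunction ↥L (Dl L τ₁ ζ₁) ∧
    (∀ ζ ∈ AA H L, ∀ y : ↥L, τ₁ ζ (y : G) = ζ y + Dl L τ₁ ζ₁ y) ∧
    ∃ (s : ℤ) (a : (↥L → ℂ) → ℤ), classInner ζ₁ (Dl L τ₁ ζ₁) = s ∧
      ∀ χ ∈ SS H L, χ ∉ AA H L → ∀ f : ℕ, χ 1 = ((H.subgroupOf L).index : ℂ) * f →
        classInner χ (Dl L τ₁ ζ₁) = (a χ : ℂ) + f * s ∧ 0 ≤ a χ ∧
        (∀ (As : Finset (↥L → ℂ)) (σ : ℕ), (↑As : Set (↥L → ℂ)) = AA H L →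
          classInner χ χ = (σ : ℂ) → (As.card : ℤ) * a χ ^ 2 ≤ 2 * f * a χ + σ) ∧
        ∀ ζ ∈ AA H L, classInner (indFun L (χ - (f : ℤ) • ζ₁)) (τ₁ ζ) =
          (a χ : ℂ) - if ζ = ζ₁ then (f : ℂ) else 0

/-- The conclusion of Block II. -/
def BlockIIOut (ζ₁ : ↥L → ℂ) : Prop :=
    ∃ (τ₁' : (↥L → ℂ) → (G → ℂ)) (ε' : ℤ), AExt H L τ₁' ε' ∧
      ∀ χ ∈ BB H L W₂, ∀ f : ℕ, χ 1 = ((H.subgroupOf L).index : ℂ) * f →
        ∀ ζ ∈ AA H L, classInner (indFun L (χ - (f : ℤ) • ζ₁)) (τ₁' ζ) =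
          if ζ = ζ₁ then -(f : ℂ) else 0

theorem blockII_of_blockI {p : ℕ} (c : Ctx H L W₁ W₂ p)
    (hcen : ∀ z ∈ W₂, ∀ h ∈ H, z * h = h * z)
    {R : (↥L → ℂ) → Finset (G → ℂ)}
    (sf : SFacts H L R) {τ₁ : (↥L → ℂ) → (G → ℂ)} {ε : ℤ} (x : AExt H L τ₁ ε)
    {ζ₁ : ↥L → ℂ} (hζ₁ : ζ₁ ∈ AA H L) (hI : BlockIOut H L τ₁ ζ₁) :
    BlockIIOut H L W₂ ζ₁ := by
  classical
  obtain ⟨hΔcl, hF2, s, a, hs, hA⟩ := hI
  haveI hKn := ctx_K_normal H L W₁ W₂ c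
  haveI hZn := ctx_Z_normal H L W₁ W₂ c hcen
  have hZK := ctx_Z_le_K H L W₁ W₂ c
  have hZcomm := ctx_Z_le_comm H L W₁ W₂ c
  have hZc : ∀ z ∈ W₂.subgroupOf L, ∀ k ∈ H.subgroupOf L, z * k = k * z :=
    fun z hz k _ => ctx_Z_central H L W₁ W₂ c hcen z hz k
  set K : Subgroup ↥L := H.subgroupOf L with hK
  set Z : Subgroup ↥L := W₂.subgroupOf L with hZ
  set Δ : ↥L → ℂ := Dl L τ₁ ζ₁ with hΔ
  have hq : 0 < K.index := ctx_index_pos H L W₁ W₂ c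
  have hq0 : (K.index : ℂ) ≠ 0 := by exact_mod_cast hq.ne'
  haveI : Fintype ↥K := Fintype.ofFinite _
  -- Galois + S1523
  have hconst := Cfsg.Agent.Lib.Helper1.SibCGal.galois_const H L W₁ W₂ c sf x hζ₁ hF2
  obtain ⟨e, he⟩ := cong_delta H L W₁ W₂ c hcen x hζ₁ hconst
  -- facts on `A`
  have hAirr := AA_irr H L W₁ W₂ c sf
  have hAconj := Cfsg.Agent.Lib.Helper74.sibleyA_conj K (indL L) R sf.cs
  obtain ⟨hζ₁c, hζ₁ne⟩ := hAconj ζ₁ hζ₁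
  set As : Finset (↥L → ℂ) := (AA_finite H L).toFinset with hAs
  have hAsco : (↑As : Set (↥L → ℂ)) = AA H L := Set.Finite.coe_toFinset _
  have hAs2 : 2 ≤ As.card := by
    have h1 : ζ₁ ∈ As := by rw [hAs, Set.Finite.mem_toFinset]; exact hζ₁
    have h2 : conjFun ζ₁ ∈ As := by rw [hAs, Set.Finite.mem_toFinset]; exact hζ₁c
    exact Finset.one_lt_card.mpr ⟨_, h2, _, h1, hζ₁ne⟩
  -- `ζ₁` is constant on `Z`
  obtain ⟨θ₁, hθ₁irr, hθ₁ne, hθ₁K', hζ₁eq⟩ := hζ₁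
  have hζ₁Z : ∀ z ∈ Z, ζ₁ z = ζ₁ 1 := by
    intro z hz
    haveI : (⁅K, K⁆ : Subgroup ↥L).Normal := Subgroup.commutator_normal K K
    rw [hζ₁eq]
    exact indFun_eq_of_forall_eq K ⁅K, K⁆ (Subgroup.commutator_le_left K K) θ₁ hθ₁K' z
      (hZcomm hz)
  have hζ₁A : ζ₁ ∈ AA H L := ⟨θ₁, hθ₁irr, hθ₁ne, hθ₁K', hζ₁eq⟩
  -- the difference `Δ 1 - Δ z`
  have hcardK : Nat.card ↥K = Nat.card ↥H :=
    Nat.card_congr (Subgroup.subgroupOfEquivOfLe c.hHL).toEquiv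
  have hdiff : ∀ z ∈ Z, z ≠ 1 →
      Δ 1 - Δ z = (Nat.card ↥K : ℂ) * ((s : ℂ) + ((e - s : ℤ) : ℂ)) := by
    intro z hz hz1
    have hzW : (z : G) ∈ W₂ := Subgroup.mem_subgroupOf.mp hz
    have hz1' : (z : G) ≠ 1 := fun h => hz1 (Subtype.ext h)
    have h1 := he (z : G) hzW hz1'
    rw [hcardK]
    simp only [hΔ, Dl]
    rw [hζ₁Z z hz, Subgroup.coe_one]
    push_cast
    linear_combination h1
  -- membership of the induced characters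
  have hmem : ∀ θ : IrrCharacter ↥K, NT K Z (θ : ↥K → ℂ) →
      indFun K (θ : ↥K → ℂ) ∈ BB H L W₂ := fun θ hθ =>
    (mem_diff_iff K Z hZK _).mpr ⟨θ, θ.2, hθ, rfl⟩
  have hBA : ∀ χ ∈ BB H L W₂, χ ∉ AA H L := fun χ hχ hχA =>
    hχ.2 (AA_subset_SZ H L W₁ W₂ c hχA)
  have hdeg : ∀ θ : IrrCharacter ↥K, indFun K (θ : ↥K → ℂ) 1 =
      (K.index : ℂ) * (charDegree (θ : ↥K → ℂ) : ℕ) := by
    intro θ
    rw [indFun_one, IsCharacter.apply_one_eq_charDegree (IsIrrCharacter.isCharacter θ.2)]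
  have hθ1 : ∀ θ : IrrCharacter ↥K, (θ : ↥K → ℂ) 1 = (charDegree (θ : ↥K → ℂ) : ℂ) :=
    fun θ => IsCharacter.apply_one_eq_charDegree (IsIrrCharacter.isCharacter θ.2)
  -- the coefficients
  have hcoef : ∀ θ : IrrCharacter ↥K, NT K Z (θ : ↥K → ℂ) →
      classInner Δ (indFun K (θ : ↥K → ℂ)) =
        ((a (indFun K (θ : ↥K → ℂ)) : ℤ) : ℂ) + (θ : ↥K → ℂ) 1 * (s : ℂ) := by
    intro θ hθ
    have hχB := hmem θ hθ
    obtain ⟨h1, -, -, -⟩ := hA _ hχB.1 (hBA _ hχB) _ (hdeg θ)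
    rw [← classInner_conj_symm, h1, hθ1]
    simp
  have hsum := Cfsg.Agent.Lib.Helper49.SibC.expansion_sum K Z hZK hZc hΔcl (s : ℂ) ((e - s : ℤ) : ℂ)
    (fun θ => ((a (indFun K (θ : ↥K → ℂ)) : ℤ) : ℂ)) hcoef hdiff
  -- pass to integers
  have hsumZ : ∑ θ ∈ Finset.univ.filter (fun θ : IrrCharacter ↥K => NT K Z (θ : ↥K → ℂ)),
      (a (indFun K (θ : ↥K → ℂ)) - (e - s) * (charDegree (θ : ↥K → ℂ) : ℤ)) *
        (charDegree (θ : ↥K → ℂ) : ℤ) = 0 := by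
    have : ((∑ θ ∈ Finset.univ.filter (fun θ : IrrCharacter ↥K => NT K Z (θ : ↥K → ℂ)),
      (a (indFun K (θ : ↥K → ℂ)) - (e - s) * (charDegree (θ : ↥K → ℂ) : ℤ)) *
        (charDegree (θ : ↥K → ℂ) : ℤ) : ℤ) : ℂ) = 0 := by
      rw [← hsum]
      push_cast
      apply Finset.sum_congr rfl
      intro θ _
      rw [hθ1]
    exact_mod_cast this
  -- the bound `a ≤ f`
  have hbound : ∀ θ : IrrCharacter ↥K, NT K Z (θ : ↥K → ℂ) →
      0 ≤ a (indFun K (θ : ↥K → ℂ)) ∧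
      a (indFun K (θ : ↥K → ℂ)) ≤ (charDegree (θ : ↥K → ℂ) : ℤ) ∧
      (a (indFun K (θ : ↥K → ℂ)) = (charDegree (θ : ↥K → ℂ) : ℤ) → As.card = 2) := by
    intro θ hθ
    have hχB := hmem θ hθ
    obtain ⟨-, h2, h3, -⟩ := hA _ hχB.1 (hBA _ hχB) _ (hdeg θ)
    have hfpos : 0 < charDegree (θ : ↥K → ℂ) := IsIrrCharacter.charDegree_pos θ.2
    have hf2 : charDegree (θ : ↥K → ℂ) ≠ 1 := NT_degree_ne_one H L W₁ W₂ c θ hθ
    -- the norm
    obtain ⟨σ, hσ, hσ'⟩ : ∃ σ : ℕ, classInner (indFun K (θ : ↥K → ℂ))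
        (indFun K (θ : ↥K → ℂ)) = (σ : ℂ) ∧ (σ = 1 ∨ σ < charDegree (θ : ↥K → ℂ)) := by
      rcases sf.red _ hχB.1 with h | ⟨hn, f, hf, h1⟩
      · exact ⟨1, by rw [classInner_irr_self h]; simp, Or.inl rfl⟩
      · refine ⟨K.index, hn, Or.inr ?_⟩
        rw [hdeg θ] at h1
        have h5 := mul_left_cancel₀ hq0 h1
        have h6 : charDegree (θ : ↥K → ℂ) = f := by exact_mod_cast h5
        rw [h6]; exact hf
    have h4 := h3 As σ hAsco hσ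
    have hσ'' : (σ : ℤ) = 1 ∨ (σ : ℤ) < (charDegree (θ : ↥K → ℂ) : ℤ) := by
      rcases hσ' with h | h
      · left; exact_mod_cast h
      · right; exact_mod_cast h
    have hn2 : (2 : ℤ) ≤ (As.card : ℤ) := by exact_mod_cast hAs2
    refine ⟨h2, arith_a_le_f hn2 h2 (by exact_mod_cast hfpos) h4 hσ'', ?_⟩
    intro haf
    rw [haf] at h4
    have hf2' : (2 : ℤ) ≤ (charDegree (θ : ↥K → ℂ) : ℤ) := by
      have : 2 ≤ charDegree (θ : ↥K → ℂ) := by omega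
      exact_mod_cast this
    have := arith_n_eq_two hn2 hf2' h4 hσ''
    exact_mod_cast this
  -- the dichotomy
  rcases arith_dichotomy (Finset.univ.filter (fun θ : IrrCharacter ↥K => NT K Z (θ : ↥K → ℂ)))
    (fun θ => (charDegree (θ : ↥K → ℂ) : ℤ)) (fun θ => a (indFun K (θ : ↥K → ℂ))) (e - s)
    (fun θ _ => by
      have := IsIrrCharacter.charDegree_pos θ.2
      exact_mod_cast this)
    (fun θ hθ => (hbound θ (Finset.mem_filter.mp hθ).2).1)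
    (fun θ hθ => (hbound θ (Finset.mem_filter.mp hθ).2).2.1) hsumZ with hall | hall
  · -- all coefficients vanish
    refine ⟨τ₁, ε, x, ?_⟩
    intro χ hχ f hf ζ hζ
    obtain ⟨θ, hθirr, hθNT, rfl⟩ := (mem_diff_iff K Z hZK χ).mp hχ
    obtain ⟨-, -, -, h4⟩ := hA _ hχ.1 (hBA _ hχ) f hf
    have h0 := hall ⟨θ, hθirr⟩ (Finset.mem_filter.mpr ⟨Finset.mem_univ _, hθNT⟩)
    simp only at h0
    rw [h4 ζ hζ, h0]
    split_ifs <;> simp
  · -- all coefficients are `f`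
    by_cases hBne : ∃ χ, χ ∈ BB H L W₂
    swap
    · refine ⟨τ₁, ε, x, ?_⟩
      intro χ hχ
      exact absurd ⟨χ, hχ⟩ hBne
    obtain ⟨χ₀, hχ₀⟩ := hBne
    obtain ⟨θ₀, hθ₀irr, hθ₀NT, rfl⟩ := (mem_diff_iff K Z hZK χ₀).mp hχ₀
    have hn2 : As.card = 2 :=
      (hbound ⟨θ₀, hθ₀irr⟩ hθ₀NT).2.2
        (hall ⟨θ₀, hθ₀irr⟩ (Finset.mem_filter.mpr ⟨Finset.mem_univ _, hθ₀NT⟩))
    have hX : ∀ ξ ∈ AA H L, ξ = ζ₁ ∨ ξ = conjFun ζ₁ := by
      intro ξ hξ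
      have h1 : ζ₁ ∈ As := by rw [hAs, Set.Finite.mem_toFinset]; exact hζ₁A
      have h2 : conjFun ζ₁ ∈ As := by rw [hAs, Set.Finite.mem_toFinset]; exact hζ₁c
      have h3 : ξ ∈ As := by rw [hAs, Set.Finite.mem_toFinset]; exact hξ
      by_contra hne
      push Not at hne
      have h4 : ({ζ₁, conjFun ζ₁, ξ} : Finset (↥L → ℂ)) ⊆ As := by
        intro y hy
        simp only [Finset.mem_insert, Finset.mem_singleton] at hy
        rcases hy with rfl | rfl | rfl <;> assumption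
      have h5 : ({ζ₁, conjFun ζ₁, ξ} : Finset (↥L → ℂ)).card = 3 := by
        rw [Finset.card_insert_of_notMem, Finset.card_insert_of_notMem, Finset.card_singleton]
        · simp only [Finset.mem_singleton]; exact fun h => hne.2 h.symm
        · simp only [Finset.mem_insert, Finset.mem_singleton]
          rintro (h | h)
          · exact hζ₁ne h.symm
          · exact hne.1 h.symm
      have := Finset.card_le_card h4
      omega
    obtain ⟨hiso', hext'⟩ := Cfsg.Agent.Lib.Helper64.twist_isometry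
      (Cfsg.Agent.Lib.Helper26.irrFacts ↥L) (AA H L) hAirr ζ₁ hζ₁A hζ₁c hζ₁ne hX
      (fun α => indFun L α) τ₁ x.iso x.ext
    refine ⟨fun θ => - τ₁ (conjFun θ), -ε, ⟨hiso', hext', ?_, ?_⟩, ?_⟩
    · rcases x.eps with h | h
      · right; rw [h]
      · left; rw [h]; norm_num
    · intro ζ hζ
      have := x.irr (conjFun ζ) (hAconj ζ hζ).1
      simpa using this
    · intro χ hχ f hf ζ hζ
      obtain ⟨θ, hθirr, hθNT, rfl⟩ := (mem_diff_iff K Z hZK χ).mp hχ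
      obtain ⟨-, -, -, h4⟩ := hA _ hχ.1 (hBA _ hχ) f hf
      have h0 := hall ⟨θ, hθirr⟩ (Finset.mem_filter.mpr ⟨Finset.mem_univ _, hθNT⟩)
      simp only at h0
      have hff : (charDegree θ : ℂ) = (f : ℂ) := by
        have h5 := hdeg ⟨θ, hθirr⟩
        simp only at h5
        rw [hf] at h5
        exact (mul_left_cancel₀ hq0 h5).symm
      show classInner (indFun L (indFun K θ - (f : ℤ) • ζ₁)) (- τ₁ (conjFun ζ)) = _
      rw [Cfsg.Agent.Lib.Helper26.classInner_neg_right, h4 _ (hAconj ζ hζ).1, h0]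
      push_cast
      rw [hff]
      rcases hX ζ hζ with h | h
      · rw [h, if_neg hζ₁ne, if_pos rfl]; ring
      · rw [h, Cfsg.Agent.Lib.Helper64.conjFun_involutive, if_pos rfl, if_neg hζ₁ne]; ring

end Cfsg.Agent.Lib.Helper22.SibC
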