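import Mathlib
import Cfsg.Agent.Lib.Helper22.SibCDefs
import Cfsg.Agent.Lib.Helper22.SibCTwo
import Cfsg.Agent.Lib.Helper75.SibCBlockI
import Cfsg.Agent.Lib.Helper51.SibCGlue
import Cfsg.Agent.Lib.Helper51.SibCAdd
import Cfsg.Agent.Lib.Helper51.SibCCount
import Cfsg.Agent.Lib.Helper26.SignLemma
import Cfsg.Agent.Lib.Helper74.SibleyAdd

/-!
# Sibley (6.8), type P, case (α): `W₂ ≤ Z(H)` (helper22)
-/

set_option autoImplicit false
set_option linter.unusedSectionVars false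
set_option linter.style.haveILetI false

namespace Cfsg.Agent.Lib.Helper22.SibC

open Cfsg Cfsg.Agent.Lib.Helper78 Cfsg.Agent.Lib.Helper75 Cfsg.Agent.Lib.Helper25.CohDescent
open Cfsg.Agent.Lib.Helper25.CohCentral
open scoped ComplexConjugate

universe u

variable {G : Type u} [Group G] [Fintype G] (H L W₁ W₂ : Subgroup G) [Fintype L]

theorem SS_finite : (SS H L).Finite := by
  classical
  haveI : Fintype ↥(H.subgroupOf L) := Fintype.ofFinite _
  apply (Set.finite_range (fun θ : IrrCharacter ↥(H.subgroupOf L) =>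
    indFun (H.subgroupOf L) (θ : ↥(H.subgroupOf L) → ℂ))).subset
  rintro φ ⟨θ, hθ, -, -, rfl⟩
  exact ⟨⟨θ, hθ⟩, rfl⟩

theorem ctx_H_ne_bot {p : ℕ} (c : Ctx H L W₁ W₂ p) : H ≠ ⊥ := by
  intro h
  apply ctx_W₂_ne_bot H L W₁ W₂ c
  have := ctx_W₂_le_H H L W₁ W₂ c
  rw [h] at this
  exact le_bot_iff.mp this

/-- the coherent extension on `A` with its uniform sign -/
theorem exists_AExt {p : ℕ} (c : Ctx H L W₁ W₂ p) {R : (↥L → ℂ) → Finset (G → ℂ)}
    (sf : SFacts H L R) :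
    (AA H L).Nonempty ∧ ∃ (τ₁ : (↥L → ℂ) → (G → ℂ)) (ε : ℤ), AExt H L τ₁ ε := by
  classical
  haveI : Fact p.Prime := ⟨c.hp⟩
  haveI hKn := ctx_K_normal H L W₁ W₂ c
  have hH1 := ctx_H_ne_bot H L W₁ W₂ c
  have hnil : Group.IsNilpotent ↥H := c.hpH.isNilpotent
  have hpK : IsPGroup p ↥(H.subgroupOf L) := c.hpH.comap_subtype
  have hnilK : Group.IsNilpotent ↥(H.subgroupOf L) := hpK.isNilpotent
  have hsolv : Group.IsSolvable ↥(H.subgroupOf L) := inferInstance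
  have hlt := Cfsg.Agent.Lib.Helper74.commutator_subgroupOf_lt H L c.hHL hH1 hnil
  have hne := Cfsg.Agent.Lib.Helper74.sibleyA_nonempty (H.subgroupOf L) hsolv hlt
  obtain ⟨-, τ₁, hiso, hext⟩ :=
    Cfsg.Agent.Lib.Helper74.sibleyA_coherent (H.subgroupOf L) (indL L) R sf.cs hsolv hlt
  have hAirr := AA_irr H L W₁ W₂ c sf
  have hAconj := Cfsg.Agent.Lib.Helper74.sibleyA_conj (H.subgroupOf L) (indL L) R sf.cs
  obtain ⟨ζ₁, hζ₁⟩ := hne
  have htwo : ∃ χ ∈ AA H L, ∃ ψ ∈ AA H L, χ ≠ ψ :=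
    ⟨conjFun ζ₁, (hAconj ζ₁ hζ₁).1, ζ₁, hζ₁, (hAconj ζ₁ hζ₁).2⟩
  have h0 : ∀ α ∈ zspan (AA H L), α 1 = 0 → τ₁ α 1 = 0 := by
    intro α hα h1
    rw [hext α (Cfsg.Agent.Lib.Helper26.mem_zspanOn_compl_one.2 ⟨hα, h1⟩)]
    show indFun L α 1 = 0
    rw [indFun_one, h1, mul_zero]
  obtain ⟨εc, hεc, hirrG, -⟩ := Cfsg.Agent.Lib.Helper26.sign_lemma
    (Cfsg.Agent.Lib.Helper26.irrFacts ↥L) (Cfsg.Agent.Lib.Helper26.irrFacts G) (AA H L) hAirr htwo
    τ₁ hiso h0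
  refine ⟨⟨ζ₁, hζ₁⟩, τ₁, if εc = 1 then 1 else -1, hiso, hext, ?_, ?_⟩
  · split_ifs
    · left; rfl
    · right; rfl
  · intro ζ hζ
    have := hirrG ζ hζ
    rcases hεc with h | h
    · rw [if_pos h, one_smul]
      rwa [h, one_smul] at this
    · have hne1 : εc ≠ 1 := by rw [h]; norm_num
      rw [if_neg hne1, neg_smul, one_smul]
      rwa [h, neg_smul, one_smul] at this

/-- MODULE [SIBC-ALPHA]: case `W₂ ≤ Z(H)`. -/
theorem sibC_alpha {p : ℕ} (c : Ctx H L W₁ W₂ p) (hcen : ∀ z ∈ W₂, ∀ h ∈ H, z * h = h * z)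
    {R : (↥L → ℂ) → Finset (G → ℂ)} (sf : SFacts H L R) :
    IsCoherent (SS H L) ({1}ᶜ : Set ↥L) (indL L) := by
  classical
  haveI hKn := ctx_K_normal H L W₁ W₂ c
  haveI hZn := ctx_Z_normal H L W₁ W₂ c hcen
  have hZK := ctx_Z_le_K H L W₁ W₂ c
  have hq : 0 < (H.subgroupOf L).index := ctx_index_pos H L W₁ W₂ c
  have hq0 : ((H.subgroupOf L).index : ℂ) ≠ 0 := by exact_mod_cast hq.ne'
  haveI : Fintype ↥(H.subgroupOf L) := Fintype.ofFinite _
  obtain ⟨⟨ζ₁, hζ₁⟩, τ₁, ε, x⟩ := exists_AExt H L W₁ W₂ c sf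
  have hI := Cfsg.Agent.Lib.Helper75.SibCI.blockI H L W₁ W₂ c sf x hζ₁
  obtain ⟨τ₁', ε', x', horth⟩ := blockII_of_blockI H L W₁ W₂ c hcen sf x hζ₁ hI
  have hAconj := Cfsg.Agent.Lib.Helper74.sibleyA_conj (H.subgroupOf L) (indL L) R sf.cs
  have hBconj := Cfsg.Agent.Lib.Helper74.sibleyB_conj (H.subgroupOf L) (indL L) R
    (W₂.subgroupOf L) sf.cs
  have hAS : AA H L ⊆ SS H L := Cfsg.Agent.Lib.Helper74.sibleyA_subset (H.subgroupOf L)
  have hBS : BB H L W₂ ⊆ SS H L := Set.sdiff_subset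
  have hBfin : (BB H L W₂).Finite := (SS_finite H L).subset hBS
  set As : Finset (↥L → ℂ) := (AA_finite H L).toFinset with hAs
  set Bs : Finset (↥L → ℂ) := hBfin.toFinset with hBs
  have hAsco : (↑As : Set (↥L → ℂ)) = AA H L := Set.Finite.coe_toFinset _
  have hBsco : (↑Bs : Set (↥L → ℂ)) = BB H L W₂ := Set.Finite.coe_toFinset _
  have hmemA : ∀ χ, χ ∈ As ↔ χ ∈ AA H L := fun χ => Set.Finite.mem_toFinset _
  have hmemB : ∀ χ, χ ∈ Bs ↔ χ ∈ BB H L W₂ := fun χ => Set.Finite.mem_toFinset _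
  have hdisj : Disjoint As Bs := by
    rw [Finset.disjoint_left]
    intro χ h1 h2
    exact ((hmemB χ).mp h2).2 (AA_subset_SZ H L W₁ W₂ c ((hmemA χ).mp h1))
  obtain ⟨hζ₁S, hζ₁1, hζ₁irr, hζ₁n⟩ := Cfsg.Agent.Lib.Helper75.SibCI.AA_facts H L W₁ W₂ c sf hζ₁
  -- degrees
  have hd : ∀ φ ∈ SS H L, φ 1 = (charDegree φ : ℂ) := fun φ hφ =>
    IsCharacter.apply_one_eq_charDegree (sf.cs.isCharacter φ hφ)
  have hdvd : ∀ χ ∈ SS H L, (H.subgroupOf L).index ∣ charDegree χ := by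
    rintro χ ⟨θ, hθ, -, -, rfl⟩
    rw [charDegree_indFun _ (IsIrrCharacter.isCharacter hθ)]
    exact Dvd.intro _ rfl
  have hS0 : ∀ χ ∈ SS H L, classInner χ χ ≠ 0 := by
    intro χ hχ
    rcases sf.red χ hχ with h | ⟨h, -⟩
    · rw [classInner_irr_self h]; exact one_ne_zero
    · rw [h]; exact hq0
  set f : (↥L → ℂ) → ℤ := fun χ => ((charDegree χ / (H.subgroupOf L).index : ℕ) : ℤ) with hf
  have hχ1 : ∀ χ ∈ SS H L, χ 1 = ((H.subgroupOf L).index : ℂ) *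
      ((charDegree χ / (H.subgroupOf L).index : ℕ) : ℂ) := by
    intro χ hχ
    rw [hd χ hχ]
    have := Nat.mul_div_cancel' (hdvd χ hχ)
    exact_mod_cast this.symm
  obtain ⟨τ₂, hτ₂iso, hτ₂ext, -⟩ := Cfsg.Agent.Lib.Helper51.SibC.glue_all (SS H L)
    sf.cs.isCharacter sf.cs.orthogonal hS0 (indL L) sf.cs.isometry As Bs
    (by rw [hAsco]; exact hAS) (by rw [hBsco]; exact hBS) hdisj τ₁'
    (by rw [hAsco]; exact x'.iso) (by rw [hAsco]; exact x'.ext) ζ₁ ((hmemA ζ₁).mpr hζ₁)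
    (by rw [hζ₁1]; exact hq0) hζ₁n f
    (by
      intro χ hχ
      rw [hζ₁1, hχ1 χ (hBS ((hmemB χ).mp hχ))]
      show _ = (((charDegree χ / (H.subgroupOf L).index : ℕ) : ℤ) : ℂ) * _
      rw [Int.cast_natCast]
      ring)
    (by
      intro χ hχ ζ hζ
      have := horth χ ((hmemB χ).mp hχ) _ (hχ1 χ (hBS ((hmemB χ).mp hχ))) ζ ((hmemA ζ).mp hζ)
      show classInner (indFun L (χ - ((charDegree χ / (H.subgroupOf L).index : ℕ) : ℤ) • ζ₁))
        (τ₁' ζ) = if ζ = ζ₁ then -(((charDegree χ / (H.subgroupOf L).index : ℕ) : ℤ) : ℂ) else 0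
      rw [Int.cast_natCast]
      exact this)
  -- `T = A ∪ B'` is coherent
  set T : Finset (↥L → ℂ) := As ∪ Bs with hT
  have hTco : (↑T : Set (↥L → ℂ)) = (↑As : Set (↥L → ℂ)) ∪ ↑Bs := Finset.coe_union As Bs
  have hTS : (↑T : Set (↥L → ℂ)) ⊆ SS H L := by
    rw [hTco, hAsco, hBsco]; exact Set.union_subset hAS hBS
  have hcoh : IsCoherent (↑T : Set (↥L → ℂ)) ({1}ᶜ : Set ↥L) (indL L) := by
    refine ⟨⟨ζ₁ - conjFun ζ₁, ?_, ?_⟩, τ₂, by rw [hTco]; exact hτ₂iso, by rw [hTco]; exact hτ₂ext⟩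
    · rw [Cfsg.Agent.Lib.Helper26.mem_zspanOn_compl_one]
      refine ⟨Cfsg.Agent.Lib.Helper26.zspan_sub
        (Cfsg.Agent.Lib.Helper26.subset_zspan _ ?_) (Cfsg.Agent.Lib.Helper26.subset_zspan _ ?_), ?_⟩
      · rw [hTco, hAsco]; exact Or.inl hζ₁
      · rw [hTco, hAsco]; exact Or.inl (hAconj ζ₁ hζ₁).1
      · simp only [Pi.sub_apply, conjFun]
        rw [hζ₁1]; simp
    · intro h
      apply (hAconj ζ₁ hζ₁).2
      have := sub_eq_zero.mp h
      exact this.symm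
  -- the norms
  set n : (↥L → ℂ) → ℕ :=
    fun φ => if IsIrrCharacter ↥L φ then 1 else (H.subgroupOf L).index with hn
  have hnS : ∀ φ ∈ SS H L, classInner φ φ = (n φ : ℂ) := by
    intro φ hφ
    by_cases h : IsIrrCharacter ↥L φ
    · simp only [hn, if_pos h]; rw [classInner_irr_self h]; simp
    · simp only [hn, if_neg h]
      rcases sf.red φ hφ with h' | ⟨h', -⟩
      · exact absurd h' h
      · exact h'
  have hTc : ∀ φ ∈ T, conjFun φ ∈ T := by
    intro φ hφ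
    rw [hT, Finset.mem_union] at hφ ⊢
    rcases hφ with h | h
    · left; exact (hmemA _).mpr (hAconj φ ((hmemA φ).mp h)).1
    · right; exact (hmemB _).mpr (hBconj φ ((hmemB φ).mp h)).1
  apply Cfsg.Agent.Lib.Helper51.SibC.add_rest (SS H L) (SS_finite H L) (indL L) R sf.cs
    charDegree n hd hnS T hTS hTc hcoh ζ₁
    (by rw [hT, Finset.mem_union]; left; exact (hmemA ζ₁).mpr hζ₁)
  intro χ hχS hχT
  have hdζ₁ : charDegree ζ₁ = (H.subgroupOf L).index := by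
    have := hd ζ₁ hζ₁S
    rw [hζ₁1] at this
    exact_mod_cast this.symm
  -- `χ ∈ S(Z)`
  have hχZ : χ ∈ inducedIrrAbove (H.subgroupOf L) (W₂.subgroupOf L) := by
    by_contra h
    apply hχT
    rw [hT, Finset.mem_union]
    right
    exact (hmemB χ).mpr ⟨hχS, h⟩
  obtain ⟨θ, hθirr, hθne, hθZ, rfl⟩ := hχZ
  have hdχ : charDegree (indFun (H.subgroupOf L) θ) = (H.subgroupOf L).index * charDegree θ :=
    charDegree_indFun _ (IsIrrCharacter.isCharacter hθirr)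
  have hdθ : 0 < charDegree θ := IsIrrCharacter.charDegree_pos hθirr
  refine ⟨by rw [hdζ₁, hdχ]; exact Dvd.intro _ rfl, ?_⟩
  -- the key inequality `q θ(1) < |K : Z|`
  have hkey : (H.subgroupOf L).index * charDegree θ <
      (W₂.subgroupOf L).relIndex (H.subgroupOf L) := by
    rcases sf.red _ hχS with hirr | ⟨-, f', hf', h1⟩
    · have htriv : ∀ z ∈ W₂.subgroupOf L, indFun (H.subgroupOf L) θ z =
          indFun (H.subgroupOf L) θ 1 := fun z hz =>
        indFun_eq_of_forall_eq (H.subgroupOf L) (W₂.subgroupOf L) hZK θ hθZ z hz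
      have hne1 : indFun (H.subgroupOf L) θ ≠ fun _ => 1 := by
        intro h
        have hKL := Cfsg.Agent.Lib.Helper74.subgroupOf_lt_top H L W₁ c.hW₁L c.hW1 c.hinf
        obtain ⟨y, -, hy⟩ := SetLike.exists_of_lt hKL
        have h0 := Cfsg.Agent.Lib.Helper74.sibleyS_vanish (H.subgroupOf L) hχS y hy
        rw [h] at h0
        exact one_ne_zero h0
      have hsq := Cfsg.Agent.Lib.Helper74.charDegree_sq_succ_le_index (W₂.subgroupOf L) hirr
        htriv hne1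
      rw [hdχ, ← Subgroup.relIndex_mul_index hZK] at hsq
      nlinarith
    · haveI : ((W₂.subgroupOf L).subgroupOf (H.subgroupOf L)).Normal := inferInstance
      have htriv : ∀ z ∈ (W₂.subgroupOf L).subgroupOf (H.subgroupOf L), θ z = θ 1 :=
        fun z hz => hθZ z (Subgroup.mem_subgroupOf.mp hz)
      have hsq := Cfsg.Agent.Lib.Helper74.charDegree_sq_succ_le_index
        ((W₂.subgroupOf L).subgroupOf (H.subgroupOf L)) hθirr htriv hθne
      have hrel : ((W₂.subgroupOf L).subgroupOf (H.subgroupOf L)).index =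
          (W₂.subgroupOf L).relIndex (H.subgroupOf L) := rfl
      rw [hrel] at hsq
      have hff : charDegree θ = f' := by
        rw [hd _ hχS, hdχ] at h1
        push_cast at h1
        have := mul_left_cancel₀ hq0 h1
        exact_mod_cast this
      rw [← hff] at hf'
      nlinarith
  -- the count
  have hcount := Cfsg.Agent.Lib.Helper51.SibC.count_B (H.subgroupOf L) (W₂.subgroupOf L) hZK n (fun φ hφ => hnS φ hφ.1) Bs hBsco
  have hsub : ∑ φ ∈ Bs, ((charDegree φ : ℝ) ^ 2 / (n φ : ℝ)) ≤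
      ∑ φ ∈ T, ((charDegree φ : ℝ) ^ 2 / (n φ : ℝ)) := by
    apply Finset.sum_le_sum_of_subset_of_nonneg Finset.subset_union_right
    intro φ _ _
    positivity
  have hW₂L : W₂ ≤ L := (ctx_W₂_le_H H L W₁ W₂ c).trans c.hHL
  have hcardZ : Nat.card ↥(W₂.subgroupOf L) = p := by
    rw [Nat.card_congr (Subgroup.subgroupOfEquivOfLe hW₂L).toEquiv]
    exact c.hW₂card
  have hcardK : (W₂.subgroupOf L).relIndex (H.subgroupOf L) * p =
      Nat.card ↥(H.subgroupOf L) := by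
    have h1 := Subgroup.index_mul_card ((W₂.subgroupOf L).subgroupOf (H.subgroupOf L))
    rw [Nat.card_congr (Subgroup.subgroupOfEquivOfLe hZK).toEquiv, hcardZ] at h1
    exact h1
  have hp3 : 3 ≤ p := by
    have h2 : p ≠ 2 := by
      intro h2
      have hdvd : p ∣ Nat.card ↥L := by
        rw [← c.hW₂card]
        exact Subgroup.card_dvd_of_le hW₂L
      rw [h2] at hdvd
      have := c.hodd
      rw [Nat.odd_iff] at this
      omega
    have := c.hp.two_le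
    omega
  rw [hdζ₁, hdχ]
  have h1 : ((H.subgroupOf L).index : ℝ) * ((Nat.card ↥(H.subgroupOf L) : ℝ) -
      ((W₂.subgroupOf L).relIndex (H.subgroupOf L) : ℝ)) ≤
      ∑ φ ∈ T, ((charDegree φ : ℝ) ^ 2 / (n φ : ℝ)) := hcount.trans hsub
  have h2 : (Nat.card ↥(H.subgroupOf L) : ℝ) =
      ((W₂.subgroupOf L).relIndex (H.subgroupOf L) : ℝ) * (p : ℝ) := by
    exact_mod_cast hcardK.symm
  have h3 : ((H.subgroupOf L).index : ℝ) * (charDegree θ : ℝ) + 1 ≤
      ((W₂.subgroupOf L).relIndex (H.subgroupOf L) : ℝ) := by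
    exact_mod_cast hkey
  have h4 : (3 : ℝ) ≤ (p : ℝ) := by exact_mod_cast hp3
  have h5 : (0 : ℝ) < ((H.subgroupOf L).index : ℝ) := by exact_mod_cast hq
  have h6 : (0 : ℝ) < (charDegree θ : ℝ) := by exact_mod_cast hdθ
  push_cast
  rw [h2] at h1
  set q' : ℝ := ((H.subgroupOf L).index : ℝ)
  set t' : ℝ := (charDegree θ : ℝ)
  set r' : ℝ := ((W₂.subgroupOf L).relIndex (H.subgroupOf L) : ℝ)
  have hr' : 0 < r' := by nlinarith [mul_pos h5 h6]
  have h7 : 2 * q' * r' ≤ q' * (r' * (p : ℝ) - r') := by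
    have : 0 ≤ q' * r' * ((p : ℝ) - 3) :=
      mul_nonneg (mul_nonneg h5.le hr'.le) (by linarith)
    nlinarith [mul_pos h5 hr']
  have h8 : 2 * q' * (q' * t' + 1) ≤ 2 * q' * r' := by
    have : 0 ≤ 2 * q' * (r' - (q' * t' + 1)) := mul_nonneg (by linarith) (by linarith)
    nlinarith
  nlinarith

end Cfsg.Agent.Lib.Helper22.SibC
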