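import Mathlib
import Cfsg.Agent.Lib.Helper22.SibCDefs
import Cfsg.Agent.Lib.Helper22.SibCAlpha
import Cfsg.Agent.Lib.Helper65.SibleyBetaMain

/-!
# Sibley's coherence theorem, Peterfalvi (6.8), second alternative ("type P") (helper22)

`sibley_typeP_ctx` : under `Ctx H L W₁ W₂ p` (so `H` is a `p`-group, `p = |W₂|`, `p ∤ |W₁|`) and
`SFacts H L R`, the set `S = Ind_H^L (Irr H ∖ 1)` is coherent for induction to `G`.
`sibley_typeP` : the same with unbundled hypotheses.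
-/

set_option autoImplicit false
set_option linter.unusedSectionVars false
set_option linter.style.haveILetI false

namespace Cfsg.Agent.Lib.Helper22.SibC

open Cfsg

universe u

variable {G : Type u} [Group G] [Fintype G] (H L W₁ W₂ : Subgroup G) [Fintype L]

/-- MODULE [SIBC-BETA] in the common frame. -/
theorem sibC_beta {p : ℕ} (c : Ctx H L W₁ W₂ p)
    (hbeta : ∀ z ∈ W₂, (∀ h ∈ H, z * h = h * z) → z = 1)
    {R : (↥L → ℂ) → Finset (G → ℂ)} (sf : SFacts H L R) :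
    IsCoherent (SS H L) ({1}ᶜ : Set ↥L) (indL L) := by
  haveI : Fact p.Prime := ⟨c.hp⟩
  have hcop : (Nat.card ↥W₁).Coprime (Nat.card ↥H) := by
    obtain ⟨m, hm⟩ := IsPGroup.iff_card.mp c.hpH
    rw [hm]
    exact Nat.Coprime.pow_right m ((Nat.Prime.coprime_iff_not_dvd c.hp).mpr c.hcop).symm
  refine Cfsg.Agent.Lib.Helper65.SibleyBeta.sibley_c2_beta H L W₁ W₂ c.hodd c.hHL c.hW₁L
    (ctx_H_ne_bot H L W₁ W₂ c) c.hW1
    c.hpH.isNilpotent c.hHn c.hinf c.hsup hcop ?_ c.hW₂der hbeta c.hTI c.hN R sf.cs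
  intro w hw hw1 h hh hwh
  have h2 : h ∈ Subgroup.centralizer ({w} : Set G) := by
    rw [Subgroup.mem_centralizer_singleton_iff]
    exact hwh.symm
  have : h ∈ H ⊓ Subgroup.centralizer ({w} : Set G) := ⟨hh, h2⟩
  rwa [c.hC w hw hw1] at this

/-- MODULE [SIBC-FINAL]: Peterfalvi (6.8), second alternative, in the common frame. -/
theorem sibley_typeP_ctx {p : ℕ} (c : Ctx H L W₁ W₂ p)
    {R : (↥L → ℂ) → Finset (G → ℂ)} (sf : SFacts H L R) :
    IsCoherent (SS H L) ({1}ᶜ : Set ↥L) (indL L) := by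
  -- `W₂ ⊓ C(H)` is `⊥` or `W₂`
  haveI : Fact (Nat.card ↥W₂).Prime := ⟨by rw [c.hW₂card]; exact c.hp⟩
  set C : Subgroup ↥W₂ := (Subgroup.centralizer (H : Set G)).subgroupOf W₂ with hC
  rcases Subgroup.eq_bot_or_eq_top_of_prime_card C with h | h
  · apply sibC_beta H L W₁ W₂ c _ sf
    intro z hz hzc
    have : (⟨z, hz⟩ : ↥W₂) ∈ C := by
      rw [hC, Subgroup.mem_subgroupOf, Subgroup.mem_centralizer_iff]
      intro h' hh'
      exact (hzc h' hh').symm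
    rw [h, Subgroup.mem_bot] at this
    exact congrArg Subtype.val this
  · apply sibC_alpha H L W₁ W₂ c _ sf
    intro z hz h' hh'
    have : (⟨z, hz⟩ : ↥W₂) ∈ C := by rw [h]; trivial
    rw [hC, Subgroup.mem_subgroupOf, Subgroup.mem_centralizer_iff] at this
    exact (this h' hh').symm

/-- Peterfalvi (6.8), second alternative, unbundled: `L = H ⋊ W₁` of odd order, `H` a `p`-group,
TI in `G` with normaliser `L`, `C_H(w) = W₂` of prime order `p ∤ |W₁|` for `w ∈ W₁ ∖ 1`,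
`W₂ ≤ H'`. -/
theorem sibley_typeP (hodd : Odd (Nat.card L)) (hHL : H ≤ L) (hW₁L : W₁ ≤ L)
    (hW1 : W₁ ≠ ⊥) (hHn : ∀ x ∈ L, ∀ h ∈ H, x * h * x⁻¹ ∈ H)
    (hinf : H ⊓ W₁ = ⊥) (hsup : H ⊔ W₁ = L)
    (hC : ∀ w ∈ W₁, w ≠ 1 → H ⊓ Subgroup.centralizer ({w} : Set G) = W₂)
    (hW₂p : (Nat.card W₂).Prime) (hW₂der : W₂ ≤ ⁅H, H⁆)
    (hTI : IsTISubset (H : Set G)) (hN : Subgroup.normalizer (H : Set G) = L)
    (hpow : ∃ m : ℕ, Nat.card H = Nat.card W₂ ^ m)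
    (hcop : ¬ Nat.card W₂ ∣ Nat.card W₁)
    {R : (↥L → ℂ) → Finset (G → ℂ)} (sf : SFacts H L R) :
    IsCoherent (SS H L) ({1}ᶜ : Set ↥L) (indL L) := by
  haveI : Fact (Nat.card ↥W₂).Prime := ⟨hW₂p⟩
  obtain ⟨m, hm⟩ := hpow
  exact sibley_typeP_ctx H L W₁ W₂
    ⟨hodd, hHL, hW₁L, hW1, hHn, hinf, hsup, hC, hW₂der, hTI, hN, hW₂p, IsPGroup.of_card hm, hcop,
      rfl⟩ sf

end Cfsg.Agent.Lib.Helper22.SibC
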