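import Mathlib
import Cfsg.Agent.Lib.Helper22.SibCFinal
import Cfsg.Agent.Lib.Helper46.PFTenVSibWire

/-!
# PF (10.10), residual case (a*): closed by Sibley's theorem (6.8), second alternative (helper22)

`noResidualTI` : `NoResidualTI G` from (10.8) and the coherence system of (10.2).
-/

set_option autoImplicit false
set_option linter.unusedSectionVars false

namespace Cfsg.Agent.Lib.Helper22.SibC

open Cfsg Cfsg.Agent.Lib.Helper4.PF Cfsg.Agent.Lib.Helper24.PFCyc Cfsg.Agent.Lib.Helper46.PF10V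

universe u

variable {G : Type u} [Group G] [Fintype G]

/-- Residual case (a*) of (10.10): `M` of Type V with `M_F` a TI-subset is impossible, given (10.8)
and the coherence system (10.2). -/
theorem noResidualTI (hG : IsMinSimpleOddOrder G) (pf8 : BookPF8Data G)
    (h108 : ∀ (M : Subgroup G) [Fintype M], IsCoatom M →
      (IsOfTypeIII M ∨ IsOfTypeIV M ∨ IsOfTypeV M) → ¬ IsCoherent (calS M) {1}ᶜ (tauM M))
    (hCS : ∀ (M : Subgroup G) [Fintype M], IsCoatom M → IsOfTypeV M →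
      ∃ R : (↥M → ℂ) → Finset (G → ℂ), IsCoherenceSystem (calS M) (tauM M) R) :
    NoResidualTI G := by
  apply noResidualTI_of_coherent hG pf8 h108
  intro M W₁ W₂ _ hM hF hTI
  have hV : IsOfTypeV M := ⟨W₁, ⊥, W₂, hF.hP, rfl, Or.inl hTI⟩
  obtain ⟨R, hS⟩ := hCS M hM hV
  obtain ⟨h1, h2, h3, -, h5, -, h7, h8, h9, h10, h11, h12, h13, h14⟩ :=
    sibley_hyps hG hM hF hTI
  have hpow : ∃ m : ℕ, Nat.card ↥(⁅M, M⁆ : Subgroup G) = Nat.card ↥W₂ ^ m := by
    obtain ⟨m, hm⟩ := hF.hpow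
    rw [hF.hHK] at hm
    exact ⟨m, hm⟩
  have hcop : ¬ Nat.card ↥W₂ ∣ Nat.card ↥W₁ := by
    intro hdvd
    have hhall := hF.hP.W₁_hall
    -- `|M : W₁| = |M'|`
    have hidx : ((⁅M, M⁆ : Subgroup G).subgroupOf M).index = Nat.card ↥W₁ :=
      Cfsg.Agent.Lib.Helper74.index_subgroupOf_eq_card ⁅M, M⁆ M W₁ h2 h3 h7 h8 h9
    have hcard1 : Nat.card ↥(⁅M, M⁆ : Subgroup G) * Nat.card ↥W₁ = Nat.card ↥M := by
      rw [← hidx, ← Nat.card_congr (Subgroup.subgroupOfEquivOfLe h2).toEquiv]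
      exact Subgroup.card_mul_index _
    have hcard2 : W₁.relIndex M * Nat.card ↥W₁ = Nat.card ↥M := by
      have := Subgroup.index_mul_card (W₁.subgroupOf M)
      rw [Nat.card_congr (Subgroup.subgroupOfEquivOfLe h3).toEquiv] at this
      exact this
    have hW₁pos : 0 < Nat.card ↥W₁ := Nat.card_pos
    have hrel : W₁.relIndex M = Nat.card ↥(⁅M, M⁆ : Subgroup G) :=
      Nat.eq_of_mul_eq_mul_right hW₁pos (hcard2.trans hcard1.symm)
    rw [hrel] at hhall
    have hW₂le : W₂ ≤ (⁅M, M⁆ : Subgroup G) :=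
      h12.trans (Subgroup.commutator_le_self _)
    have hdvd2 : Nat.card ↥W₂ ∣ Nat.card ↥(⁅M, M⁆ : Subgroup G) :=
      Subgroup.card_dvd_of_le hW₂le
    have := Nat.dvd_gcd hdvd hdvd2
    rw [hhall.gcd_eq_one] at this
    exact h11.one_lt.ne' (Nat.dvd_one.mp this)
  exact sibley_typeP ⁅M, M⁆ M W₁ W₂ h1 h2 h3 h5 h7 h8 h9 h10 h11 h12 h13 h14 hpow hcop
    (sFacts_of_TI hG pf8 hM hF hTI hS)

end Cfsg.Agent.Lib.Helper22.SibC
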